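import Groth.Agent.Lib.LimSys14.ImmersionTo
import Groth.Agent.Lib.LimH13.Top
import Groth.Agent.Lib.AlgSpDecent.ZeroDim

/-!
# Points of limits of algebraic spaces
-/

set_option autoImplicit false
set_option backward.isDefEq.respectTransparency.types false
set_option backward.isDefEq.respectTransparency false
set_option linter.style.haveILetI false

universe u

open CategoryTheory CategoryTheory.Limits AlgebraicGeometry Opposite

noncomputable section

namespace Groth.Agent.LimSys14

open AlgSp Groth.Agent.AlgSpace FlatH4 Groth.Agent.AlgSpDecent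

variable {S : Scheme.{u}} {I : Type u} [SmallCategory I] [IsCofiltered I] {D : I ⥤ Sp S}
  (hDa : ∀ (i j : I) (φ : i ⟶ j), IsAffineMor (D.map φ)) (c : Cone D) (hc : IsLimit c)

theorem ofPt_injective_of_mono {F : Sp S} {U : Over S} (p : (yon S).obj U ⟶ F) [Mono p] :
    Function.Injective (Points.ofPt p) := fun a b h => by
  rw [Points.ofPt_eq_map_ofScheme, Points.ofPt_eq_map_ofScheme] at h
  exact (Points.schemeEquiv U).injective (injective_map_of_mono p h)

theorem map_w {F : Sp S} (s : F ⟶ c.pt) {i j : I} (φ : i ⟶ j) (x : Points F) :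
    Points.map (D.map φ) (Points.map (c.π.app i) (Points.map s x)) =
      Points.map (c.π.app j) (Points.map s x) := by
  rw [← Points.map_comp, c.w]

section Chart

variable {W : Over S} {i₀ : I} (q : (yon S).obj W ⟶ D.obj i₀)

theorem map_π_chartPt (k : Over i₀) (p : ↥(chartPt hDa q c hc).left) :
    Points.map (c.π.app k.left) (Points.ofPt (chartPtFst hDa q c hc) p) =
      Points.ofPt ((chartFst hDa q).app k) ((chartPi hDa q c hc k).left p) :=
  ofPt_sq (chartPi_sq hDa c hc q k).w p

theorem mono_chartFst [Mono q] (k : Over i₀) : Mono ((chartFst hDa q).app k) :=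
  (MorphismProperty.monomorphisms (Sp S)).of_isPullback (chart_sq hDa q k).flip ‹Mono q›

include hDa hc in
/-- Two points over a point with a monomorphic representative are equal if their images are. -/
theorem point_ext_of_mono [Mono q] {x x' : Points c.pt} (t : ↥W.left)
    (ht : Points.map (c.π.app i₀) x = Points.ofPt q t)
    (h : ∀ i, Points.map (c.π.app i) x = Points.map (c.π.app i) x') : x = x' := by
  obtain ⟨a, ha, -⟩ := exists_pt_of_isPullback (chartPt_sq hDa q c hc) ht
  obtain ⟨b, hb, -⟩ := exists_pt_of_isPullback (chartPt_sq hDa q c hc) ((h i₀).symm.trans ht)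
  haveI : ∀ {j k : Over i₀} (φ : j ⟶ k), IsAffineHom ((chartSys hDa q ⋙ Over.forget S).map φ) :=
    fun φ => isAffineHom_chartMap hDa q φ
  have e : a = b := LimH13.limit_point_ext (chartIsLimitScheme hDa q c hc) fun k => by
    haveI := mono_chartFst hDa q k
    refine ofPt_injective_of_mono ((chartFst hDa q).app k) ?_
    refine (map_π_chartPt hDa c hc q k a).symm.trans (Eq.trans ?_ (map_π_chartPt hDa c hc q k b))
    rw [ha, hb, h]
  rw [← ha, ← hb, e]

include hDa hc in
/-- A compatible family through a point with a monomorphic representative comes from a point. -/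
theorem exists_point_of_mono [Mono q] (s : ∀ i, Points (D.obj i))
    (hs : ∀ (i j : I) (φ : i ⟶ j), Points.map (D.map φ) (s i) = s j) (t : ↥W.left)
    (ht : s i₀ = Points.ofPt q t) : ∃ x : Points c.pt, ∀ i, Points.map (c.π.app i) x = s i := by
  have he : ∀ k : Over i₀, ∃ e : ↥((chartSys hDa q).obj k).left,
      Points.ofPt ((chartFst hDa q).app k) e = s k.left := fun k => by
    obtain ⟨e, he, -⟩ := exists_pt_of_isPullback (chart_sq hDa q k) ((hs _ _ k.hom).trans ht)
    exact ⟨e, he⟩
  choose e he using he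
  haveI : ∀ {j k : Over i₀} (φ : j ⟶ k), IsAffineHom ((chartSys hDa q ⋙ Over.forget S).map φ) :=
    fun φ => isAffineHom_chartMap hDa q φ
  obtain ⟨p, hp⟩ := LimH13.exists_limit_point (chartIsLimitScheme hDa q c hc) e fun {j k} φ => by
    haveI := mono_chartFst hDa q k
    refine ofPt_injective_of_mono ((chartFst hDa q).app k) ?_
    rw [he k, ← hs _ _ φ.left, ← he j, Points.map_ofPt]
    exact ((congrArg (fun g => Points.ofPt g (e j)) (chartMapHom_fst hDa q φ).symm).trans
      (ofPt_map_comp _ _ _)).symm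
  refine ⟨Points.ofPt (chartPtFst hDa q c hc) p, fun i => ?_⟩
  obtain ⟨k, hk⟩ : ∃ k : Over i₀, Nonempty (k.left ⟶ i) :=
    ⟨Over.mk (IsCofiltered.minToLeft i₀ i), ⟨IsCofiltered.minToRight i₀ i⟩⟩
  obtain ⟨φ⟩ := hk
  have h1 : Points.map (c.π.app k.left) (Points.ofPt (chartPtFst hDa q c hc) p) = s k.left := by
    rw [map_π_chartPt, ← he k]
    exact congrArg _ (hp k)
  rw [← hs _ _ φ, ← h1, ← Points.map_comp, c.w]

end Chart

include hDa hc in
theorem points_bijective (hdec : ∀ i, IsDecent (D.obj i)) :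
    (∀ x x' : Points c.pt, (∀ i, Points.map (c.π.app i) x = Points.map (c.π.app i) x') → x = x') ∧
    (∀ s : ∀ i, Points (D.obj i), (∀ (i j : I) (φ : i ⟶ j), Points.map (D.map φ) (s i) = s j) →
      ∃ x : Points c.pt, ∀ i, Points.map (c.π.app i) x = s i) := by
  obtain ⟨i₀⟩ := IsCofiltered.nonempty (C := I)
  refine ⟨fun x x' h => ?_, fun s hs => ?_⟩
  · obtain ⟨p, hp, hm, -⟩ := hdec i₀ (Points.map (c.π.app i₀) x)
    haveI := hm
    exact point_ext_of_mono hDa c hc p.toHom (IsLocalRing.closedPoint p.K)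
      (by rw [Points.ofPt_toHom, hp]) h
  · obtain ⟨p, hp, hm, -⟩ := hdec i₀ (s i₀)
    haveI := hm
    exact exists_point_of_mono hDa c hc p.toHom s hs (IsLocalRing.closedPoint p.K)
      (by rw [Points.ofPt_toHom, hp])

include hDa hc in
/-- Cylinders form a basis of the topology of the limit. -/
theorem exists_cylinder (hD : ∀ i, IsAlgSpace (D.obj i)) {O : Set (Points c.pt)} (hO : IsOpen O)
    {x : Points c.pt} (hx : x ∈ O) :
    ∃ (i : I) (K : Set (Points (D.obj i))), IsOpen K ∧ Points.map (c.π.app i) x ∈ K ∧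
      Points.map (c.π.app i) ⁻¹' K ⊆ O := by
  obtain ⟨i₀⟩ := IsCofiltered.nonempty (C := I)
  obtain ⟨U, φ, hU, hφ, hy⟩ := exists_affine_chart_at (hD i₀) (Points.map (c.π.app i₀) x)
  obtain ⟨t, ht⟩ := hy
  obtain ⟨p, hp, -⟩ := exists_pt_of_isPullback (chartPt_sq hDa φ c hc) ht.symm
  haveI : ∀ {j k : Over i₀} (a : j ⟶ k), IsAffineHom ((chartSys hDa φ ⋙ Over.forget S).map a) :=
    fun a => isAffineHom_chartMap hDa φ a
  obtain ⟨_, ⟨_, ⟨l, V, -, rfl⟩, rfl⟩, hpV, hle⟩ :=
    (isBasis_preimage_isAffineOpen _ _ (chartIsLimitScheme hDa φ c hc)).exists_subset_of_mem_open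
      (show p ∈ Points.ofPt (chartPtFst hDa φ c hc) ⁻¹' O by rw [Set.mem_preimage, hp]; exact hx)
      (hO.preimage (Points.continuous_ofPt _))
  let a : (yon S).obj ((chartSys hDa φ).obj l) ⟶ D.obj l.left := (chartFst hDa φ).app l
  let K : Set (Points (D.obj l.left)) := Points.ofPt a '' SetLike.coe V
  have hK : IsOpen K := isOpenMap_ofPt a (repWith_of_isPullback (chart_sq hDa φ l).flip hφ) _ V.isOpen
  refine ⟨l.left, K, hK, ⟨_, hpV, by rw [← hp]; exact (map_π_chartPt hDa c hc φ l p).symm⟩, ?_⟩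
  rintro z ⟨v, hv, hvz⟩
  obtain ⟨r, hr, hr'⟩ := exists_pt_of_isPullback (chartPi_sq hDa c hc φ l) hvz.symm
  rw [← hr]
  exact hle (show (chartPi hDa φ c hc l).left r ∈ V from hr' ▸ hv)

include hDa hc in
theorem points_topology (hD : ∀ i, IsAlgSpace (D.obj i)) :
    Points.topologicalSpace c.pt =
      ⨅ i, TopologicalSpace.induced (Points.map (c.π.app i)) (Points.topologicalSpace (D.obj i)) := by
  refine le_antisymm (le_iInf fun i => continuous_iff_le_induced.1 (Points.continuous_map _)) ?_
  intro O hO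
  refine (@isOpen_iff_forall_mem_open _ (⨅ i, TopologicalSpace.induced (Points.map (c.π.app i))
    (Points.topologicalSpace (D.obj i))) O).2 fun x hx => ?_
  obtain ⟨i, K, hK, hxK, hle⟩ := exists_cylinder hDa c hc hD hO hx
  exact ⟨_, hle, iInf_le (fun i => TopologicalSpace.induced (Points.map (c.π.app i))
    (Points.topologicalSpace (D.obj i))) i _ ⟨K, hK, rfl⟩, hxK⟩

include hDa hc in
theorem closure_point (hD : ∀ i, IsAlgSpace (D.obj i)) (x : Points c.pt) :
    closure {x} = {x' | ∀ i, Points.map (c.π.app i) x' ∈ closure {Points.map (c.π.app i) x}} := by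
  ext x'
  constructor
  · intro h i
    have := image_closure_subset_closure_image (Points.continuous_map (c.π.app i)) ⟨x', h, rfl⟩
    rwa [Set.image_singleton] at this
  · intro h
    refine mem_closure_iff.2 fun O hO hx' => ?_
    obtain ⟨i, K, hK, hxK, hle⟩ := exists_cylinder hDa c hc hD hO hx'
    obtain ⟨z, hz, rfl : z = _⟩ := mem_closure_iff.1 (h i) K hK hxK
    exact ⟨x, hle hz, rfl⟩

end Groth.Agent.LimSys14
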