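import Groth.Agent.Lib.LimSys14.Props

/-!
# Descent of properties requiring a change of stage
-/

set_option autoImplicit false
set_option backward.isDefEq.respectTransparency.types false
set_option linter.style.haveILetI false

universe u

open CategoryTheory CategoryTheory.Limits AlgebraicGeometry Opposite

noncomputable section

namespace Groth.Agent.LimSys14

open AlgSp Groth.Agent.AlgSpace

variable {S : Scheme.{u}}

theorem isQuasiCompactMor_of_isAffineMor {A B : Sp S} {f : A ⟶ B} (hA : IsAlgSpace A)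
    (hB : IsAlgSpace B) (hf : IsAffineMor f) : IsQuasiCompactMor f := by
  have h := isAffineMor_iff_repWith.1 hf
  exact (repWith_quasiCompact_iff hA hB h.1).1
    (repWith_mono (fun _ _ g (_ : IsAffineHom g) => (inferInstance : QuasiCompact g)) h)

theorem isQuasiSeparatedMor_of_isAffineMor {A B : Sp S} {f : A ⟶ B} (hA : IsAlgSpace A)
    (hB : IsAlgSpace B) (hf : IsAffineMor f) : IsQuasiSeparatedMor f := by
  have h := isAffineMor_iff_repWith.1 hf
  exact (isQuasiSeparatedMor_iff_of_representable hA hB h.1).2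
    (repWith_mono (fun _ _ g (_ : IsAffineHom g) => (inferInstance : QuasiSeparated g)) h)

theorem isAffineMor_of_isPullback {A B A' B' : Sp S} {fst : A' ⟶ A} {snd : A' ⟶ B'} {f : A ⟶ B}
    {g : B' ⟶ B} (sq : IsPullback fst snd f g) (hf : IsAffineMor f) : IsAffineMor snd :=
  isAffineMor_iff_repWith.2 (repWith_of_isPullback sq (isAffineMor_iff_repWith.1 hf))

variable [QuasiSeparatedSpace S] {I : Type u} [SmallCategory I] [IsCofiltered I]
  {D : I ⥤ Sp S} (hD : ∀ i, IsAlgSpace (D.obj i))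
  (hDa : ∀ (i j : I) (φ : i ⟶ j), IsAffineMor (D.map φ)) (c : Cone D) (hc : IsLimit c) {i₀ : I}
  {X₀ Y₀ : Sp S} {f₀ : X₀ ⟶ Y₀} {b₀ : Y₀ ⟶ D.obj i₀} (hX₀ : IsAlgSpace X₀) (hY₀ : IsAlgSpace Y₀)
  (hXc : IsQuasiCompactSp X₀) (hXs : IsQuasiSeparatedSp X₀)
  (hYc : IsQuasiCompactSp Y₀) (hYs : IsQuasiSeparatedSp Y₀)
  {X Y : Sp S} {f : X ⟶ Y} {pY : Y ⟶ Y₀} {qY : Y ⟶ c.pt} (hY : IsPullback pY qY b₀ (c.π.app i₀))
  {pX : X ⟶ X₀} (hX : IsPullback pX f f₀ pY)

section Restage

variable {i : I} (φ : i ⟶ i₀)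

omit [QuasiSeparatedSpace S] [IsCofiltered I] in
/-- Descent from a higher stage. -/
theorem descends_restage {G : MorphismProperty (Sp S)}
    (h : Descends G (pullback.snd f₀ (pullback.fst b₀ (D.map φ))) (pullback.snd b₀ (D.map φ))) :
    Descends G f₀ b₀ := by
  obtain ⟨j, ψ, hj⟩ := h
  refine ⟨j, ψ ≫ φ, fun Xj Yj fj pYj qYj hYj pXj hXj => ?_⟩
  rw [D.map_comp] at hYj
  have sqY := IsPullback.of_hasPullback b₀ (D.map φ)
  have sqX := IsPullback.of_hasPullback f₀ (pullback.fst b₀ (D.map φ))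
  let yj : Yj ⟶ pullback b₀ (D.map φ) :=
    sqY.lift pYj (qYj ≫ D.map ψ) (by rw [hYj.w, Category.assoc])
  have hYj' : IsPullback yj qYj (pullback.snd b₀ (D.map φ)) (D.map ψ) :=
    IsPullback.of_right (by simpa [yj] using hYj) (sqY.lift_snd _ _ _) sqY
  let xj : Xj ⟶ pullback f₀ (pullback.fst b₀ (D.map φ)) :=
    sqX.lift pXj (fj ≫ yj) (by rw [Category.assoc, sqY.lift_fst, hXj.w])
  have hXj' : IsPullback xj fj (pullback.snd f₀ (pullback.fst b₀ (D.map φ))) yj :=
    IsPullback.of_right (by simpa [xj, yj] using hXj) (sqX.lift_snd _ _ _) sqX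
  exact hj Xj Yj fj yj qYj hYj' xj hXj'

include hY hX in
omit [QuasiSeparatedSpace S] [IsCofiltered I] in
/-- The limit squares over a higher stage. -/
theorem limit_restage :
    ∃ (y : Y ⟶ pullback b₀ (D.map φ)) (x : X ⟶ pullback f₀ (pullback.fst b₀ (D.map φ))),
      IsPullback y qY (pullback.snd b₀ (D.map φ)) (c.π.app i) ∧
      IsPullback x f (pullback.snd f₀ (pullback.fst b₀ (D.map φ))) y := by
  have sqY := IsPullback.of_hasPullback b₀ (D.map φ)
  have sqX := IsPullback.of_hasPullback f₀ (pullback.fst b₀ (D.map φ))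
  let y : Y ⟶ pullback b₀ (D.map φ) :=
    sqY.lift pY (qY ≫ c.π.app i) (by rw [hY.w, Category.assoc, c.w])
  have hY' : IsPullback pY qY b₀ (c.π.app i ≫ D.map φ) := by rw [c.w]; exact hY
  refine ⟨y, sqX.lift pX (f ≫ y) (by rw [Category.assoc, sqY.lift_fst, hX.w]),
    IsPullback.of_right (by simpa [y] using hY') (sqY.lift_snd _ _ _) sqY,
    IsPullback.of_right (by simpa [y] using hX) (sqX.lift_snd _ _ _) sqX⟩

include hD hDa hX₀ hY₀ hXc hXs hYc hYs in
omit [QuasiSeparatedSpace S] [IsCofiltered I] in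
/-- The hypotheses at a higher stage. -/
theorem stage_facts :
    IsAlgSpace (pullback b₀ (D.map φ)) ∧ IsQuasiCompactSp (pullback b₀ (D.map φ)) ∧
      IsQuasiSeparatedSp (pullback b₀ (D.map φ)) ∧
    IsAlgSpace (pullback f₀ (pullback.fst b₀ (D.map φ))) ∧
      IsQuasiCompactSp (pullback f₀ (pullback.fst b₀ (D.map φ))) ∧
      IsQuasiSeparatedSp (pullback f₀ (pullback.fst b₀ (D.map φ))) := by
  have sqY := IsPullback.of_hasPullback b₀ (D.map φ)
  have sqX := IsPullback.of_hasPullback f₀ (pullback.fst b₀ (D.map φ))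
  have hYi := isAlgSpace_pullback (hD i₀) hY₀ (hD i) sqY
  have hXi := isAlgSpace_pullback hY₀ hX₀ hYi sqX
  have a1 : IsAffineMor (pullback.fst b₀ (D.map φ)) := isAffineMor_of_isPullback sqY.flip (hDa _ _ φ)
  have a2 : IsAffineMor (pullback.fst f₀ (pullback.fst b₀ (D.map φ))) :=
    isAffineMor_of_isPullback sqX.flip a1
  exact ⟨hYi, isQuasiCompactSp_of_mor hYi hY₀ (isQuasiCompactMor_of_isAffineMor hYi hY₀ a1) hYc,
    isQuasiSeparatedSp_of_mor (isQuasiSeparatedMor_of_isAffineMor hYi hY₀ a1) hYs, hXi,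
    isQuasiCompactSp_of_mor hXi hX₀ (isQuasiCompactMor_of_isAffineMor hXi hX₀ a2) hXc,
    isQuasiSeparatedSp_of_mor (isQuasiSeparatedMor_of_isAffineMor hXi hX₀ a2) hXs⟩

end Restage

include hD hDa hc hX₀ hY₀ hXc hXs hYc hYs hY hX in
theorem descend_separated (hf : IsSeparatedMor f) : Descends IsSeparatedMor f₀ b₀ := by
  obtain ⟨hY₁, hY₁c, hY₁s⟩ := pullback_self_facts hX₀ hY₀ hXc hXs hYs (f₀ := f₀)
  refine descends_of_diagonal hD hX₀ hY₀ (K := RepWith @IsClosedImmersion) (fun _ _ h => h) ?_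
  exact descend_closedImmersion_of_representable hD hDa c hc hX₀ hY₁ hXc hXs hY₁c hY₁s
    ((isPullback_map_self hX).paste_vert hY) (isPullback_diagonal_baseChange hX)
    (representable_diagonal hX₀ f₀) (locP_of_repWith hY₁ (repWith_diagonal_lft hX₀ f₀)) hf

include hD hDa hc hX₀ hY₀ hXc hXs hYc hYs hY hX in
theorem descend_mono (hf₀ : LocP @LocallyOfFiniteType f₀) [Mono f] :
    Descends (fun _ _ g => Mono g) f₀ b₀ := by
  obtain ⟨hY₁, hY₁c, hY₁s⟩ := pullback_self_facts hX₀ hY₀ hXc hXs hYs (f₀ := f₀)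
  refine descends_of_diagonal hD hX₀ hY₀ (K := fun _ _ g => IsIso g)
    (fun _ _ h => (pullback.isIso_diagonal_iff _).1 h) ?_
  exact descend_iso_of_representable hD hDa c hc hX₀ hY₁ hXc hXs hY₁c hY₁s
    ((isPullback_map_self hX).paste_vert hY) (isPullback_diagonal_baseChange hX)
    (representable_diagonal hX₀ f₀) (locP_of_repWith hY₁ (repWith_diagonal_lfp_of_lft hX₀ hY₀ hf₀))

include hD hDa hc hX₀ hY₀ hXc hXs hYc hYs hY hX in
theorem descend_univInjective (hf₀ : LocP @LocallyOfFiniteType f₀) (hf : IsUnivInjectiveMor f) :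
    Descends IsUnivInjectiveMor f₀ b₀ := by
  obtain ⟨hY₁, hY₁c, hY₁s⟩ := pullback_self_facts hX₀ hY₀ hXc hXs hYs (f₀ := f₀)
  refine descends_of_diagonal hD hX₀ hY₀ (K := IsSurjectiveMor) (fun hXi _ h =>
    isUnivInjectiveMor_of_fieldPts fun K _ str => injective_fieldPts_of_surjective_diagonal hXi h K str) ?_
  exact descend_surjective hD hDa c hc hX₀ hY₁ hXc hY₁c hY₁s
    ((isPullback_map_self hX).paste_vert hY) (isPullback_diagonal_baseChange hX)
    (locP_of_repWith hY₁ (repWith_diagonal_lfp_of_lft hX₀ hY₀ hf₀)) (surjective_diagonal_of_univInjective hf)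

include hD hDa hc hX₀ hY₀ hXc hXs hYc hYs hY hX in
/-- A morphism with separated, locally quasi-finite limit becomes representable at some stage. -/
theorem descends_of_representable {G : MorphismProperty (Sp S)} (hf₀ : LocP @LocallyOfFiniteType f₀)
    (hsep : IsSeparatedMor f) (hqf : LocP @LocallyQuasiFinite f)
    (H : ∀ {i : I} (φ : i ⟶ i₀), Representable (pullback.snd f₀ (pullback.fst b₀ (D.map φ))) →
      Descends G (pullback.snd f₀ (pullback.fst b₀ (D.map φ))) (pullback.snd b₀ (D.map φ))) :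
    Descends G f₀ b₀ := by
  obtain ⟨i₁, φ₁, h₁⟩ := descend_separated hD hDa c hc hX₀ hY₀ hXc hXs hYc hYs hY hX hsep
  let Y₁ := pullback b₀ (D.map φ₁)
  let f₁ := pullback.snd f₀ (pullback.fst b₀ (D.map φ₁))
  have hs₁ : IsSeparatedMor f₁ :=
    h₁ _ _ f₁ _ _ (IsPullback.of_hasPullback b₀ (D.map φ₁)) _ (IsPullback.of_hasPullback f₀ _)
  obtain ⟨aY, cY, sY, aX, cX, sX⟩ := stage_facts hD hDa hX₀ hY₀ hXc hXs hYc hYs (f₀ := f₀) φ₁
  obtain ⟨y, x, hy, hx⟩ := limit_restage c hY hX φ₁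
  have hlft₁ : LocP @LocallyOfFiniteType f₁ :=
    locP_of_isPullback hX₀ hY₀ aY (IsPullback.of_hasPullback f₀ _) hf₀
  obtain ⟨i₂, φ₂, h₂⟩ := descend_locallyQuasiFinite hD hDa c hc aX aY cX cY sY hy hx hlft₁ hqf
  let y₂ : pullback b₀ (D.map (φ₂ ≫ φ₁)) ⟶ Y₁ := pullback.lift (pullback.fst _ _)
    (pullback.snd _ _ ≫ D.map φ₂) (by rw [pullback.condition, Category.assoc, D.map_comp])
  have hy₂ : IsPullback y₂ (pullback.snd _ _) (pullback.snd b₀ (D.map φ₁)) (D.map φ₂) :=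
    IsPullback.of_right (by
      have h := IsPullback.of_hasPullback b₀ (D.map (φ₂ ≫ φ₁))
      rw [pullback.lift_fst, ← D.map_comp]; exact h) (pullback.lift_snd _ _ _) (IsPullback.of_hasPullback _ _)
  let f₂ := pullback.snd f₀ (pullback.fst b₀ (D.map (φ₂ ≫ φ₁)))
  let x₂ : pullback f₀ (pullback.fst b₀ (D.map (φ₂ ≫ φ₁))) ⟶ pullback f₀ (pullback.fst b₀ (D.map φ₁)) :=
    pullback.lift (pullback.fst _ _) (pullback.snd _ _ ≫ y₂)
      (by rw [pullback.condition, Category.assoc, pullback.lift_fst])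
  have hx₂ : IsPullback x₂ f₂ f₁ y₂ :=
    IsPullback.of_right (by
      have h := IsPullback.of_hasPullback f₀ (pullback.fst b₀ (D.map (φ₂ ≫ φ₁)))
      rw [pullback.lift_fst, pullback.lift_fst]; exact h) (pullback.lift_snd _ _ _) (IsPullback.of_hasPullback _ _)
  obtain ⟨aY', -, -, aX', -, -⟩ := stage_facts hD hDa hX₀ hY₀ hXc hXs hYc hYs (f₀ := f₀) (φ₂ ≫ φ₁)
  refine descends_restage (φ₂ ≫ φ₁) (H _ (representable_of_lqf_separated aX' aY' f₂
    (isSeparatedMor_of_isPullback hx₂ hs₁) (locP_inf (h₂ _ _ f₂ y₂ _ hy₂ x₂ hx₂)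
      (locP_of_isPullback hX₀ hY₀ aY' (IsPullback.of_hasPullback f₀ _) hf₀))))

include hD hDa hc hX₀ hY₀ hXc hXs hYc hYs hY hX in
theorem descend_finite (hf₀ : LocP @LocallyOfFiniteType f₀) (hf : IsFiniteMor f) :
    Descends IsFiniteMor f₀ b₀ := by
  have hYa : IsAlgSpace Y := isAlgSpace_pullback (hD i₀) hY₀ (isAlgSpace_pt hDa c hD hc) hY
  have h := isFiniteMor_iff_repWith.1 hf
  have hXa : IsAlgSpace X := isAlgSpace_of_representable h.1 hYa
  refine descends_of_representable hD hDa c hc hX₀ hY₀ hXc hXs hYc hYs hY hX hf₀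
    ((isSeparatedMor_iff_of_representable hXa hYa h.1).2
      (repWith_mono (fun _ _ g (_ : IsFinite g) => (inferInstance : IsSeparated g)) h))
    (locP_of_repWith hYa (repWith_mono (fun _ _ g (_ : IsFinite g) => (inferInstance : LocallyQuasiFinite g)) h))
    fun {i} φ hr => ?_
  obtain ⟨aY, cY, sY, aX, cX, sX⟩ := stage_facts hD hDa hX₀ hY₀ hXc hXs hYc hYs (f₀ := f₀) φ
  obtain ⟨y, x, hy, hx⟩ := limit_restage c hY hX φ
  exact descend_finite_of_representable hD hDa c hc aX aY cX sX cY sY hy hx hr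
    (locP_of_isPullback hX₀ hY₀ aY (IsPullback.of_hasPullback f₀ _) hf₀) hf

include hD hDa hc hX₀ hY₀ hXc hXs hYc hYs hY hX in
theorem descend_closedImmersion (hf₀ : LocP @LocallyOfFiniteType f₀)
    (hf : RepWith @IsClosedImmersion f) : Descends (RepWith @IsClosedImmersion) f₀ b₀ := by
  have hYa : IsAlgSpace Y := isAlgSpace_pullback (hD i₀) hY₀ (isAlgSpace_pt hDa c hD hc) hY
  have hXa : IsAlgSpace X := isAlgSpace_of_representable hf.1 hYa
  refine descends_of_representable hD hDa c hc hX₀ hY₀ hXc hXs hYc hYs hY hX hf₀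
    ((isSeparatedMor_iff_of_representable hXa hYa hf.1).2
      (repWith_mono (fun _ _ g (_ : IsClosedImmersion g) => (inferInstance : IsSeparated g)) hf))
    (locP_of_repWith hYa (repWith_mono (fun _ _ g (_ : IsClosedImmersion g) => (inferInstance : LocallyQuasiFinite g)) hf))
    fun {i} φ hr => ?_
  obtain ⟨aY, cY, sY, aX, cX, sX⟩ := stage_facts hD hDa hX₀ hY₀ hXc hXs hYc hYs (f₀ := f₀) φ
  obtain ⟨y, x, hy, hx⟩ := limit_restage c hY hX φ
  exact descend_closedImmersion_of_representable hD hDa c hc aX aY cX sX cY sY hy hx hr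
    (locP_of_isPullback hX₀ hY₀ aY (IsPullback.of_hasPullback f₀ _) hf₀) hf

include hD hDa hc hX₀ hY₀ hXc hXs hYc hYs hY hX in
theorem descend_iso (hf₀ : LocP @LocallyOfFinitePresentation f₀) [IsIso f] :
    Descends (fun _ _ g => IsIso g) f₀ b₀ := by
  have hYa : IsAlgSpace Y := isAlgSpace_pullback (hD i₀) hY₀ (isAlgSpace_pt hDa c hD hc) hY
  have hlft : LocP @LocallyOfFiniteType f₀ :=
    locP_mono (fun _ _ g (_ : LocallyOfFinitePresentation g) => (inferInstance : LocallyOfFiniteType g)) hf₀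
  refine descends_of_representable hD hDa c hc hX₀ hY₀ hXc hXs hYc hYs hY hX hlft
    (repWith_diagonal_of_mono f)
    (locP_of_repWith hYa (MorphismProperty.of_isIso (RepWith (S := S) @LocallyQuasiFinite) f))
    fun {i} φ hr => ?_
  obtain ⟨aY, cY, sY, aX, cX, sX⟩ := stage_facts hD hDa hX₀ hY₀ hXc hXs hYc hYs (f₀ := f₀) φ
  obtain ⟨y, x, hy, hx⟩ := limit_restage c hY hX φ
  exact descend_iso_of_representable hD hDa c hc aX aY cX sX cY sY hy hx hr
    (locP_of_isPullback hX₀ hY₀ aY (IsPullback.of_hasPullback f₀ _) hf₀)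

end Groth.Agent.LimSys14
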