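import Groth.Agent.Lib.LimSys14.Pair
import Groth.Agent.Lib.LimSys14.Apps
import Groth.Agent.Lib.LimH13.Struct

/-!
# A limit separated over the base is separated at some stage
-/

set_option autoImplicit false
set_option backward.isDefEq.respectTransparency.types false
set_option backward.isDefEq.respectTransparency false
set_option linter.style.haveILetI false

universe u

open CategoryTheory CategoryTheory.Limits AlgebraicGeometry Opposite

noncomputable section

namespace Groth.Agent.LimSys14

open AlgSp Groth.Agent.AlgSpace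

variable {S : Scheme.{u}} [QuasiSeparatedSpace S] {I : Type u} [SmallCategory I] [IsCofiltered I]
  {D : I ⥤ Sp S} (hD : ∀ i, IsAlgSpace (D.obj i))
  (hDa : ∀ (i j : I) (φ : i ⟶ j), IsAffineMor (D.map φ)) (c : Cone D) (hc : IsLimit c)

omit [IsCofiltered I] in
theorem isQuasiSeparatedSp_yon (U : Over S) [QuasiSeparatedSpace U.left] :
    IsQuasiSeparatedSp ((yon S).obj U) :=
  (repWith_diag_yon_iff @QuasiCompact U).2 (inferInstance : QuasiSeparated U.hom).1

include hD hDa hc in
/-- The target is a scheme. -/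
theorem exists_isSeparatedMor_of_scheme (hqc : ∀ i, IsQuasiCompactSp (D.obj i))
    (hqs : ∀ i, IsQuasiSeparatedSp (D.obj i)) {V : Over S} [QuasiSeparatedSpace V.left]
    (t : D ⟶ (Functor.const I).obj ((yon S).obj V)) (g : c.pt ⟶ (yon S).obj V)
    (hg : ∀ i, c.π.app i ≫ t.app i = g) (hX : IsSeparatedMor g) :
    ∃ i, IsSeparatedMor (t.app i) := by
  obtain ⟨i₀⟩ := IsCofiltered.nonempty (C := I)
  obtain ⟨W, q, hW, hqe, hqs'⟩ := exists_affine_chart (hqc i₀)
  have := compactSpace_yon_of_affine W
  have sqR := hqe.1.isPullback' q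
  let R₀ := hqe.1.pullback q
  let r₁ : R₀ ⟶ W := hqe.1.fst' q
  let r₂ : R₀ ⟶ W := hqe.1.snd q
  let q' : (yon S).obj R₀ ⟶ D.obj i₀ := (yon S).map r₁ ≫ q
  have hWq : IsQuasiSeparatedSp ((yon S).obj W) := isQuasiSeparatedSp_yon W
  have hqmor : IsQuasiCompactMor q := isQuasiCompactMor_of_qc_qs (IsAlgSpace.yon_obj W) (hD i₀) q
    ((isQuasiCompactSp_iff (IsAlgSpace.yon_obj W)).2 inferInstance) (hqs i₀)
  haveI : QuasiCompact r₂.left :=
    ((repWith_quasiCompact_iff (IsAlgSpace.yon_obj W) (hD i₀) hqe.1).2 hqmor).2 q _ _ sqR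
  haveI : QuasiSeparated r₂.left :=
    ((isQuasiSeparatedMor_iff_of_representable (IsAlgSpace.yon_obj W) (hD i₀) hqe.1).1
      (isQuasiSeparatedMor_of_sp q hWq)).2 q _ _ sqR
  haveI : CompactSpace R₀.left := QuasiCompact.compactSpace_of_compactSpace r₂.left
  haveI : QuasiSeparatedSpace R₀.left := quasiSeparatedSpace_of_quasiSeparated r₂.left
  let L₁ := chartLift hDa q r₁ (rfl : q' = (yon S).map r₁ ≫ q)
  let L₂ := chartLift hDa q r₂ (sqR.w : q' = (yon S).map r₂ ≫ q)
  -- the maps of the charts to `V`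
  let ω : ∀ k, (chartSys hDa q).obj k ⟶ V := fun k =>
    (yon S).preimage ((chartFst hDa q).app k ≫ t.app k.left)
  have hω : ∀ k, (chartFst hDa q).app k ≫ t.app k.left = (yon S).map (ω k) := fun k =>
    ((yon S).map_preimage _).symm
  have hωnat : ∀ {j k : Over i₀} (φ : j ⟶ k), (chartSys hDa q).map φ ≫ ω k = ω j := fun {j k} φ => by
    apply (yon S).map_injective
    refine ((yon S).map_comp _ _).trans ?_
    rw [← hω k, ← hω j]
    refine (Category.assoc _ _ _).symm.trans ((congrArg (· ≫ _) (chartMapHom_fst hDa q φ)).trans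
      ((Category.assoc _ _ _).trans (congrArg (_ ≫ ·) ?_)))
    exact (t.naturality φ.left).trans (Category.comp_id _)
  let E : Over i₀ ⥤ Scheme.{u} := chartSys hDa q ⋙ Over.forget S
  let tE : E ⟶ (Functor.const (Over i₀)).obj V.left :=
    { app := fun k => (ω k).left
      naturality := fun j k φ => (congrArg Over.Hom.left (hωnat φ)).trans (Category.comp_id _).symm }
  let R : Over i₀ ⥤ Scheme.{u} := chartSys hDa q' ⋙ Over.forget S
  have hLeq : ∀ k, L₁.app k ≫ ω k = L₂.app k ≫ ω k := fun k => by
    apply (yon S).map_injective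
    rw [Functor.map_comp, Functor.map_comp, ← hω k]
    exact ((Category.assoc _ _ _).symm.trans (congrArg (· ≫ _) (chartLiftApp_fst hDa q r₁ rfl k))).trans
      ((congrArg (· ≫ _) (chartLiftApp_fst hDa q r₂ sqR.w k).symm).trans (Category.assoc _ _ _))
  let ℓ₁ : R ⟶ E := Functor.whiskerRight L₁ (Over.forget S)
  let ℓ₂ : R ⟶ E := Functor.whiskerRight L₂ (Over.forget S)
  let δ : R ⟶ LimH13.sqDiagram E tE :=
    { app := fun k => pullback.lift (ℓ₁.app k) (ℓ₂.app k) (congrArg Over.Hom.left (hLeq k))
      naturality := fun j k φ => by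
        apply pullback.hom_ext
        · refine ((Category.assoc _ _ _).trans ((congrArg (_ ≫ ·) (pullback.lift_fst _ _ _)).trans
            (ℓ₁.naturality φ))).trans ?_
          exact ((congrArg (· ≫ E.map φ) (pullback.lift_fst (ℓ₁.app j) (ℓ₂.app j) _).symm).trans
            (Category.assoc _ _ _)).trans ((congrArg (_ ≫ ·) (pullback.lift_fst _ _ _).symm).trans
              (Category.assoc _ _ _).symm)
        · refine ((Category.assoc _ _ _).trans ((congrArg (_ ≫ ·) (pullback.lift_snd _ _ _)).trans
            (ℓ₂.naturality φ))).trans ?_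
          exact ((congrArg (· ≫ E.map φ) (pullback.lift_snd (ℓ₁.app j) (ℓ₂.app j) _).symm).trans
            (Category.assoc _ _ _)).trans ((congrArg (_ ≫ ·) (pullback.lift_snd _ _ _).symm).trans
              (Category.assoc _ _ _).symm) }
  let o : Over i₀ := Over.mk (𝟙 i₀)
  let toO : ∀ k : Over i₀, k ⟶ o := fun k => Over.homMk k.hom (Category.comp_id _)
  let eE : LimH13.sqDiagram E tE ⟶ (Functor.const (Over i₀)).obj ((LimH13.sqDiagram E tE).obj o) :=
    { app := fun k => (LimH13.sqDiagram E tE).map (toO k)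
      naturality := fun j k φ => by
        have e : φ ≫ toO k = toO j := by ext; simp [toO]
        exact ((LimH13.sqDiagram E tE).map_comp φ (toO k)).symm.trans
          ((congrArg (LimH13.sqDiagram E tE).map e).trans (Category.comp_id _).symm) }
  haveI hEaff : ∀ {j k : Over i₀} (φ : j ⟶ k), IsAffineHom (E.map φ) := fun φ => isAffineHom_chartMap hDa q φ
  haveI hRaff : ∀ {j k : Over i₀} (φ : j ⟶ k), IsAffineHom (R.map φ) := fun φ => isAffineHom_chartMap hDa q' φ
  haveI : ∀ k, IsAffineHom (eE.app k) := fun k =>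
    MorphismProperty.pullbackMap (P := @IsAffineHom) (hEaff (toO k)) (hEaff (toO k))
      (Descend.t_nat E tE (toO k)).symm (Descend.t_nat E tE (toO k)).symm
  haveI : IsAffine (E.obj o) := isAffine_chartSys hDa q o
  haveI : QuasiSeparatedSpace (((Functor.const (Over i₀)).obj V.left).obj o) := ‹QuasiSeparatedSpace V.left›
  haveI : QuasiCompact (tE.app o) := inferInstance
  haveI : QuasiSeparated (tE.app o) := inferInstance
  haveI : CompactSpace ↥((LimH13.sqDiagram E tE).obj o) :=
    QuasiCompact.compactSpace_of_compactSpace (pullback.fst (tE.app o) (tE.app o))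
  haveI : QuasiSeparatedSpace ↥((LimH13.sqDiagram E tE).obj o) :=
    quasiSeparatedSpace_of_quasiSeparated (pullback.fst (tE.app o) (tE.app o))
  haveI hRk : ∀ k, CompactSpace (R.obj k) ∧ QuasiSeparatedSpace (R.obj k) := fun k => by
    have := isAffineHom_chartSnd hDa q' k
    haveI : CompactSpace ↥(((Functor.const (Over i₀)).obj R₀).obj k).left := ‹CompactSpace R₀.left›
    haveI : QuasiSeparatedSpace ↥(((Functor.const (Over i₀)).obj R₀).obj k).left :=
      ‹QuasiSeparatedSpace R₀.left›
    exact ⟨QuasiCompact.compactSpace_of_compactSpace ((chartSnd hDa q').app k).left,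
      quasiSeparatedSpace_of_quasiSeparated ((chartSnd hDa q').app k).left⟩
  -- the limit
  let ωc : (chartPt hDa q c hc) ⟶ V := (chartCone hDa q c hc).π.app o ≫ ω o
  let l₁ := chartPtLift hDa q r₁ (rfl : q' = (yon S).map r₁ ≫ q) c hc
  let l₂ := chartPtLift hDa q r₂ (sqR.w : q' = (yon S).map r₂ ≫ q) c hc
  have hωc : chartPtFst hDa q c hc ≫ g = (yon S).map ωc := by
    rw [← hg i₀, Functor.map_comp, ← hω o]
    exact ((Category.assoc _ _ _).symm.trans (congrArg (· ≫ _) (chartCone_fst hDa q c hc o).symm)).trans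
      (Category.assoc _ _ _)
  have hl : l₁ ≫ ωc = l₂ ≫ ωc :=
    (Category.assoc _ _ _).symm.trans ((congrArg (· ≫ ω o) (chartPtLift_π hDa q r₁ rfl c hc o)).trans
      ((Category.assoc _ _ _).trans ((congrArg (_ ≫ ·) (hLeq o)).trans
        ((Category.assoc _ _ _).symm.trans ((congrArg (· ≫ ω o)
          (chartPtLift_π hDa q r₂ sqR.w c hc o).symm).trans (Category.assoc _ _ _))))))
  have sqL : IsPullback ((yon S).map l₁) ((yon S).map l₂) (chartPtFst hDa q c hc) (chartPtFst hDa q c hc) :=
    isPullback_self (chartPt_sq hDa q c hc) sqR (chartPt_sq hDa q' c hc)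
      (chartPtLift_fst hDa q r₁ rfl c hc)
      (by rw [← Functor.map_comp, chartPtLift_snd, Functor.map_comp])
      (chartPtLift_fst hDa q r₂ sqR.w c hc)
      (by rw [← Functor.map_comp, chartPtLift_snd, Functor.map_comp])
  obtain ⟨d, fst, b, sqd, hd, -⟩ :=
    diagonal_chart g (chartPtFst hDa q c hc) ωc hωc l₁ l₂ (congrArg Over.Hom.left hl) sqL
  haveI hcld : IsClosedImmersion d.left := hX.2 b fst d sqd
  -- apply descent of closed immersions for morphisms of systems
  have hcl : ∀ {j k : Over i₀} (φ : j ⟶ k), IsClosedImmersion (LimH13.graphMap δ φ) := by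
    intro j k φ
    have sqA := (chartLift_map_sq hDa q r₁ (rfl : q' = (yon S).map r₁ ≫ q) φ).map (Over.forget S)
    let ρ : pullback (δ.app k) ((LimH13.sqDiagram E tE).map φ) ⟶ R.obj j :=
      sqA.lift (pullback.fst _ _) (pullback.snd _ _ ≫ pullback.fst _ _) (by
        have h := pullback.condition (f := δ.app k) (g := (LimH13.sqDiagram E tE).map φ)
        have h1 := congrArg (· ≫ pullback.fst (tE.app k) (tE.app k)) h
        simp only [Category.assoc] at h1 ⊢
        rw [show δ.app k ≫ pullback.fst (tE.app k) (tE.app k) = (L₁.app k).left from pullback.lift_fst _ _ _] at h1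
        refine h1.trans (congrArg (_ ≫ ·) ?_)
        exact pullback.lift_fst _ _ _)
    have hρ₁ : ρ ≫ R.map φ = pullback.fst _ _ := sqA.lift_fst _ _ _
    haveI : IsAffineHom ((LimH13.sqDiagram E tE).map φ) :=
      MorphismProperty.pullbackMap (P := @IsAffineHom) (hEaff φ) (hEaff φ)
        (Descend.t_nat E tE φ).symm (Descend.t_nat E tE φ).symm
    haveI : IsSeparated (ρ ≫ R.map φ) := by rw [hρ₁]; infer_instance
    haveI : IsSeparated ρ := IsSeparated.of_comp ρ (R.map φ)
    have e : LimH13.graphMap δ φ ≫ ρ = 𝟙 _ := by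
      apply sqA.hom_ext
      · rw [Category.assoc, sqA.lift_fst, LimH13.graphMap_fst, Category.id_comp]
        rfl
      · rw [Category.assoc, sqA.lift_snd, LimH13.graphMap_snd_assoc, Category.id_comp]
        exact pullback.lift_fst _ _ _
    haveI : IsClosedImmersion (LimH13.graphMap δ φ ≫ ρ) := by rw [e]; infer_instance
    exact IsClosedImmersion.of_comp (LimH13.graphMap δ φ) ρ
  haveI : ∀ k, LocallyOfFiniteType (δ.app k) := fun k => by
    have sqk : IsPullback ((yon S).map (L₁.app k)) ((yon S).map (L₂.app k))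
        ((chartFst hDa q).app k) ((chartFst hDa q).app k) :=
      isPullback_self (chart_sq hDa q k) sqR (chart_sq hDa q' k)
        (chartLiftApp_fst hDa q r₁ rfl k)
        (((yon S).map_comp _ _).symm.trans ((congrArg (yon S).map
          (chartLiftApp_snd hDa q r₁ rfl k)).trans ((yon S).map_comp _ _)))
        (chartLiftApp_fst hDa q r₂ sqR.w k)
        (((yon S).map_comp _ _).symm.trans ((congrArg (yon S).map
          (chartLiftApp_snd hDa q r₂ sqR.w k)).trans ((yon S).map_comp _ _)))
    obtain ⟨d', fst', b', sqd', hd', -⟩ := diagonal_chart (t.app k.left) ((chartFst hDa q).app k) (ω k)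
      (hω k) (L₁.app k) (L₂.app k) (congrArg Over.Hom.left (hLeq k)) sqk
    have h : LocallyOfFiniteType d'.left :=
      (repWith_diagonal_lft (hD k.left) (t.app k.left)).2 b' fst' d' sqd'
    rw [hd'] at h
    exact h
  let cX := (Over.forget S).mapCone (chartCone hDa q' c hc)
  let cW := (Over.forget S).mapCone (chartCone hDa q c hc)
  obtain ⟨k, hk⟩ := LimH13.exists_isClosedImmersion_app' δ eE (cX := cX)
    (chartIsLimitScheme hDa q' c hc) (LimH13.isLimitSqCone E tE cW (chartIsLimitScheme hDa q c hc) o)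
    (fun {U} v _ _ k => by
      haveI := (hRk k).1
      haveI := (hRk k).2
      haveI : QuasiSeparatedSpace
          ↥(((Functor.const (Over i₀)).obj ((LimH13.sqDiagram E tE).obj o)).obj k) :=
        ‹QuasiSeparatedSpace ↥((LimH13.sqDiagram E tE).obj o)›
      haveI : QuasiCompact ((δ ≫ eE).app k) := quasiCompact_of_compactSpace _
      haveI : QuasiSeparated ((δ ≫ eE).app k) := inferInstance
      exact ⟨QuasiCompact.compactSpace_of_compactSpace (pullback.fst v ((δ ≫ eE).app k)),
        quasiSeparatedSpace_of_quasiSeparated (pullback.fst v ((δ ≫ eE).app k))⟩)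
    hcl d.left (fun k => by
      rw [hd]
      apply pullback.hom_ext
      · refine ((Category.assoc _ _ _).trans (congrArg (_ ≫ ·) (pullback.lift_fst _ _ _))).trans ?_
        refine ((Category.assoc _ _ _).symm.trans (congrArg (· ≫ cW.π.app k)
          (pullback.lift_fst l₁.left l₂.left _))).trans ?_
        exact (congrArg Over.Hom.left (chartPtLift_π hDa q r₁ rfl c hc k)).trans
          ((congrArg (_ ≫ ·) (pullback.lift_fst _ _ _).symm).trans (Category.assoc _ _ _).symm)
      · refine ((Category.assoc _ _ _).trans (congrArg (_ ≫ ·) (pullback.lift_snd _ _ _))).trans ?_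
        refine ((Category.assoc _ _ _).symm.trans (congrArg (· ≫ cW.π.app k)
          (pullback.lift_snd l₁.left l₂.left _))).trans ?_
        exact (congrArg Over.Hom.left (chartPtLift_π hDa q r₂ sqR.w c hc k)).trans
          ((congrArg (_ ≫ ·) (pullback.lift_snd _ _ _).symm).trans (Category.assoc _ _ _).symm))
  refine ⟨k.left, ?_⟩
  have sqk : IsPullback ((yon S).map (L₁.app k)) ((yon S).map (L₂.app k))
      ((chartFst hDa q).app k) ((chartFst hDa q).app k) :=
    isPullback_self (chart_sq hDa q k) sqR (chart_sq hDa q' k)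
      (chartLiftApp_fst hDa q r₁ rfl k)
      (((yon S).map_comp _ _).symm.trans ((congrArg (yon S).map
        (chartLiftApp_snd hDa q r₁ rfl k)).trans ((yon S).map_comp _ _)))
      (chartLiftApp_fst hDa q r₂ sqR.w k)
      (((yon S).map_comp _ _).symm.trans ((congrArg (yon S).map
        (chartLiftApp_snd hDa q r₂ sqR.w k)).trans ((yon S).map_comp _ _)))
  obtain ⟨d', fst', b', sqd', hd', hcov⟩ := diagonal_chart (t.app k.left) ((chartFst hDa q).app k) (ω k)
    (hω k) (L₁.app k) (L₂.app k) (congrArg Over.Hom.left (hLeq k)) sqk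
  obtain ⟨hbe, hbs⟩ := hcov ⟨repWith_of_isPullback (chart_sq hDa q k).flip hqe,
    repWith_of_isPullback (chart_sq hDa q k).flip hqs'⟩
  have := isLocalAtTarget_fppf_isClosedImmersion.{u}
  have := isLocallySurjective_of_etale hbe hbs
  exact repWith_of_locallySurjective (representable_diagonal (hD k.left) _) sqd' _
    ((repWith_yon_map_iff _ d').2 (by rw [hd']; exact hk))

omit [QuasiSeparatedSpace S] [IsCofiltered I] in
/-- Conditions on the diagonal are checked on an étale map covering the image. -/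
theorem repWith_diagonal_of_etale_image {P : MorphismProperty Scheme.{u}} [P.IsStableUnderBaseChange]
    [P.IsLocalAtTarget Scheme.fppfPrecoverage] {X Y V : Sp S} (hX : IsAlgSpace X) {f : X ⟶ Y}
    {b : V ⟶ Y} (hb : RepWith @Etale b)
    (hcov : Set.range (Points.map f) ⊆ Set.range (Points.map b))
    (h : RepWith P (pullback.diagonal (pullback.snd f b))) : RepWith P (pullback.diagonal f) := by
  have sq := IsPullback.of_hasPullback f b
  have sqm := isPullback_map_self sq
  have hme := repWith_of_isPullback sqm.flip hb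
  have hms := repWith_surjective_of_map hme.1 fun x => by
    obtain ⟨z, hz⟩ := hcov ⟨Points.map (pullback.fst f f) x, rfl⟩
    rw [← Points.map_comp] at hz
    obtain ⟨w, hw, -⟩ := Groth.Agent.AlgSpDecent.exists_point_lift sqm x z hz.symm
    exact ⟨w, hw⟩
  have := isLocallySurjective_of_etale hme hms
  exact repWith_of_locallySurjective (representable_diagonal hX f) (isPullback_diagonal_baseChange sq) P h

section BaseChange

variable {Y V : Sp S} (t : D ⟶ (Functor.const I).obj Y) (b : V ⟶ Y) (i₀ : I)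

omit [QuasiSeparatedSpace S] [IsCofiltered I] in
theorem t_w {i j : I} (φ : i ⟶ j) : D.map φ ≫ t.app j = t.app i :=
  (t.naturality φ).trans (Category.comp_id _)

/-- Transition maps of the base changed system. -/
def bcMap {j k : Over i₀} (φ : j ⟶ k) : pullback (t.app j.left) b ⟶ pullback (t.app k.left) b :=
  pullback.lift (pullback.fst _ _ ≫ D.map φ.left) (pullback.snd _ _)
    (by rw [Category.assoc, t_w, pullback.condition])

/-- The base change of a system along a map to the target. -/
def bcSys : Over i₀ ⥤ Sp S where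
  obj k := pullback (t.app k.left) b
  map φ := bcMap t b i₀ φ
  map_id k := by apply pullback.hom_ext <;> simp [bcMap]
  map_comp f g := by apply pullback.hom_ext <;> simp [bcMap]

/-- Its projection to the system. -/
def bcFst : bcSys t b i₀ ⟶ Over.forget i₀ ⋙ D where
  app k := pullback.fst (t.app k.left) b
  naturality _ _ _ := pullback.lift_fst _ _ _

/-- Its projection to the base. -/
def bcSnd : bcSys t b i₀ ⟶ (Functor.const (Over i₀)).obj V where
  app k := pullback.snd (t.app k.left) b
  naturality _ _ _ := (pullback.lift_snd _ _ _).trans (Category.comp_id _).symm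

variable (g : c.pt ⟶ Y) (hg : ∀ i, c.π.app i ≫ t.app i = g)

/-- The projections of the base changed limit. -/
def bcPi (k : Over i₀) : pullback g b ⟶ pullback (t.app k.left) b :=
  pullback.lift (pullback.fst g b ≫ c.π.app k.left) (pullback.snd g b)
    ((Category.assoc _ _ _).trans ((congrArg (_ ≫ ·) (hg k.left)).trans pullback.condition))

omit [QuasiSeparatedSpace S] [IsCofiltered I] in
theorem bcPi_w {j k : Over i₀} (φ : j ⟶ k) :
    bcPi c t b i₀ g hg j ≫ bcMap t b i₀ φ = bcPi c t b i₀ g hg k := by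
  unfold bcPi bcMap
  apply pullback.hom_ext
  · rw [Category.assoc, pullback.lift_fst, pullback.lift_fst, pullback.lift_fst_assoc, Category.assoc, c.w]
  · rw [Category.assoc, pullback.lift_snd, pullback.lift_snd, pullback.lift_snd]

/-- The base changed cone. -/
def bcCone : Cone (bcSys t b i₀) where
  pt := pullback g b
  π :=
    { app := bcPi c t b i₀ g hg
      naturality := fun _ _ φ => (Category.id_comp _).trans (bcPi_w c t b i₀ g hg φ).symm }

/-- It is a limit. -/
def bcIsLimit (hc : IsLimit c) : IsLimit (bcCone c t b i₀ g hg) :=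
  isLimitOfIsPullback (Over.mk (𝟙 i₀)) (bcFst t b i₀) (bcSnd t b i₀)
    (Functor.whiskerLeft (Over.forget i₀) t) (q := b)
    (fun k => IsPullback.of_hasPullback (t.app k.left) b) (restrictIsLimit c hc i₀)
    (pullback.fst g b) (fun k => (pullback.lift_fst _ _ _).symm) (hom_terminal i₀) (by
      have h := IsPullback.of_hasPullback g b
      have e1 : (bcCone c t b i₀ g hg).π.app (Over.mk (𝟙 i₀)) ≫ (bcSnd t b i₀).app (Over.mk (𝟙 i₀)) =
          pullback.snd g b := pullback.lift_snd _ _ _
      have e2 : (restrictCone c i₀).π.app (Over.mk (𝟙 i₀)) ≫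
          (Functor.whiskerLeft (Over.forget i₀) t).app (Over.mk (𝟙 i₀)) = g := hg i₀
      rw [e1, e2]
      exact h)

include hDa in
omit [QuasiSeparatedSpace S] [IsCofiltered I] in
theorem isAffineMor_bcMap {j k : Over i₀} (φ : j ⟶ k) : IsAffineMor (bcMap t b i₀ φ) := by
  refine isAffineMor_of_isPullback (fst := pullback.fst (t.app j.left) b)
    (g := pullback.fst (t.app k.left) b) ?_ (hDa _ _ φ.left)
  refine (IsPullback.of_right ?_ (pullback.lift_fst _ _ _)
    (IsPullback.of_hasPullback (t.app k.left) b).flip).flip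
  rw [pullback.lift_snd, t_w]
  exact (IsPullback.of_hasPullback (t.app j.left) b).flip

end BaseChange

omit [QuasiSeparatedSpace S] [IsCofiltered I] in
/-- A compact set of points is covered by an affine scheme étale over the space. -/
theorem exists_affine_etale_covering {Y : Sp S} (hY : IsAlgSpace Y) {K : Set (Points Y)}
    (hK : IsCompact K) : ∃ (V : Over S) (b : (yon S).obj V ⟶ Y),
      IsAffine V.left ∧ RepWith @Etale b ∧ K ⊆ Set.range (Points.map b) := by
  obtain ⟨U, p, hpe, hps⟩ := hY.atlas
  obtain ⟨s, hs⟩ := hK.elim_finite_subcover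
    (fun O : U.left.affineOpens => Points.ofPt p '' (O.1 : Set ↥U.left))
    (fun O => isOpenMap_ofPt p hpe _ O.1.isOpen) (fun x _ => by
      obtain ⟨u, rfl⟩ := surjective_ofPt hps x
      obtain ⟨O, hO, hu, -⟩ := U.left.isBasis_affineOpens.exists_subset_of_mem_open
        (Set.mem_univ u) isOpen_univ
      obtain ⟨O, hO', rfl⟩ := hO
      exact Set.mem_iUnion.2 ⟨⟨O, hO'⟩, u, hu, rfl⟩)
  obtain ⟨O, hO, hsO⟩ : ∃ O : U.left.Opens, IsCompact (O : Set ↥U.left) ∧ ∀ x ∈ s, x.1 ≤ O :=
    ⟨⨆ x ∈ s, x.1, by
      simp only [TopologicalSpace.Opens.coe_iSup]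
      exact s.isCompact_biUnion fun x _ => x.2.isCompact, fun x hx => le_biSup (fun x => x.1) hx⟩
  haveI : CompactSpace O.toScheme := isCompact_iff_compactSpace.1 hO
  obtain ⟨A, a, has, hae, hA⟩ := O.toScheme.exists_hom_isAffine_of_isZariskiLocalAtSource @Etale
  haveI := hae
  let j : Over.mk ((a ≫ O.ι) ≫ U.hom) ⟶ U := Over.homMk (a ≫ O.ι) rfl
  have hj : Etale j.left := inferInstanceAs (Etale (a ≫ O.ι))
  refine ⟨_, (yon S).map j ≫ p, hA, repWith_comp ((repWith_yon_map_iff _ j).2 hj) hpe, ?_⟩
  intro y hy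
  obtain ⟨x, hx, u, hu, rfl⟩ := Set.mem_iUnion₂.1 (hs hy)
  obtain ⟨v, hv⟩ := has.surj ⟨u, hsO x hx hu⟩
  refine ⟨Points.ofScheme _ v, ?_⟩
  rw [← Points.ofPt_eq_map_ofScheme, Groth.Agent.AlgSpDecent.ofPt_map_comp]
  have e : j.left v = u := congrArg (fun w => O.ι w) hv
  rw [e]

include hD hDa hc in
/-- A limit separated over a quasi-separated space is separated over it at some stage. -/
theorem exists_isSeparatedMor (hqc : ∀ i, IsQuasiCompactSp (D.obj i))
    (hqs : ∀ i, IsQuasiSeparatedSp (D.obj i)) {Y : Sp S} (hY : IsAlgSpace Y)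
    (hYs : IsQuasiSeparatedSp Y)
    (t : D ⟶ (Functor.const I).obj Y) (g : c.pt ⟶ Y)
    (hg : ∀ i, c.π.app i ≫ t.app i = g) (hX : IsSeparatedMor g) :
    ∃ i₁, ∀ (i : I) (_ : i ⟶ i₁), IsSeparatedMor (t.app i) := by
  suffices ∃ i, IsSeparatedMor (t.app i) by
    obtain ⟨i₁, h⟩ := this
    refine ⟨i₁, fun i φ => ?_⟩
    rw [show t.app i = D.map φ ≫ t.app i₁ from ((t.naturality φ).trans (Category.comp_id _)).symm]
    have ha := isAffineMor_iff_repWith.1 (hDa i i₁ φ)
    exact repWith_diagonal_comp ((isSeparatedMor_iff_of_representable (hD i) (hD i₁) ha.1).2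
      (repWith_mono (fun _ _ u (_ : IsAffineHom u) => (inferInstance : IsSeparated u)) ha)) h
  obtain ⟨i₀⟩ := IsCofiltered.nonempty (C := I)
  -- an affine scheme étale over `Y`, covering the image of `D i₀`
  haveI : CompactSpace (Points (D.obj i₀)) := (isQuasiCompactSp_iff (hD i₀)).1 (hqc i₀)
  obtain ⟨V, b, hV, hbe, hcov⟩ := exists_affine_etale_covering hY
    (isCompact_range (Points.continuous_map (t.app i₀)))
  haveI : IsAffine V.left := hV
  have := compactSpace_yon_of_affine V
  have hVs : IsQuasiSeparatedSp ((yon S).obj V) := isQuasiSeparatedSp_yon V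
  have hbq : IsQuasiCompactMor b := isQuasiCompactMor_of_qc_qs (IsAlgSpace.yon_obj V) hY b
    ((isQuasiCompactSp_iff (IsAlgSpace.yon_obj V)).2 inferInstance) hYs
  have hbs : IsQuasiSeparatedMor b := isQuasiSeparatedMor_of_sp b hVs
  obtain ⟨k, hk⟩ := exists_isSeparatedMor_of_scheme (D := bcSys t b i₀)
    (fun k => isAlgSpace_pullback hY (hD k.left) (IsAlgSpace.yon_obj V)
      (IsPullback.of_hasPullback (t.app k.left) b))
    (fun _ _ φ => isAffineMor_bcMap hDa t b i₀ φ) (bcCone c t b i₀ g hg) (bcIsLimit c t b i₀ g hg hc)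
    (fun k => isQuasiCompactSp_of_mor (isAlgSpace_pullback hY (hD k.left) (IsAlgSpace.yon_obj V)
      (IsPullback.of_hasPullback (t.app k.left) b)) (hD k.left)
      (isQuasiCompactMor_of_isPullback (IsPullback.of_hasPullback (t.app k.left) b).flip hbq) (hqc k.left))
    (fun k => isQuasiSeparatedSp_of_mor
      (isQuasiSeparatedMor_of_isPullback (IsPullback.of_hasPullback (t.app k.left) b).flip hbs) (hqs k.left))
    (bcSnd t b i₀) (pullback.snd g b) (fun k => pullback.lift_snd _ _ _)
    (isSeparatedMor_of_isPullback (IsPullback.of_hasPullback g b) hX)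
  have := isLocalAtTarget_fppf_isClosedImmersion.{u}
  refine ⟨k.left, repWith_diagonal_of_etale_image (hD k.left) hbe ?_ hk⟩
  rintro y ⟨x, rfl⟩
  rw [show t.app k.left = D.map k.hom ≫ t.app i₀ from
    ((t.naturality k.hom).trans (Category.comp_id _)).symm, Points.map_comp]
  exact hcov ⟨_, rfl⟩

include hD hDa hc in
/-- A limit separated over the base is separated at some stage. -/
theorem exists_isSeparatedSp (hqc : ∀ i, IsQuasiCompactSp (D.obj i))
    (hqs : ∀ i, IsQuasiSeparatedSp (D.obj i)) (hX : IsSeparatedSp c.pt) :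
    ∃ i, IsSeparatedSp (D.obj i) := by
  let t : D ⟶ (Functor.const I).obj ((yon S).obj (Over.mk (𝟙 S))) :=
    { app := fun i => toBase (D.obj i)
      naturality := fun _ _ _ => isTerminalBase.hom_ext _ _ }
  haveI : QuasiSeparatedSpace ↥(Over.mk (𝟙 S)).left := ‹QuasiSeparatedSpace S›
  obtain ⟨i, h⟩ := exists_isSeparatedMor_of_scheme hD hDa c hc hqc hqs t (toBase c.pt)
    (fun _ => isTerminalBase.hom_ext _ _) (repWith_diagonal_of_diag _ hX)
  exact ⟨i, repWith_diag_of_diagonal_toBase h⟩

end Groth.Agent.LimSys14
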