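import Groth.Agent.Lib.LimSys14.AffineMor
import Groth.Agent.Lib.LimSys14.Points
import Groth.Agent.Lib.AlgSpace.SchemeLocus

/-!
# A limit which is a scheme is a scheme at some stage
-/

set_option autoImplicit false
set_option backward.isDefEq.respectTransparency.types false
set_option backward.isDefEq.respectTransparency false
set_option linter.style.haveILetI false

universe u

open CategoryTheory CategoryTheory.Limits AlgebraicGeometry Opposite

noncomputable section

namespace Groth.Agent.LimSys14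

open AlgSp Groth.Agent.AlgSpace Groth.Agent.AlgSpDecent

variable {S : Scheme.{u}} {I : Type u} [SmallCategory I] [IsCofiltered I] {D : I ⥤ Sp S}
  (c : Cone D)

/-- An affine open subspace of a stage with prescribed preimage in the limit. -/
def AffineAt (i : I) (O : Set (Points c.pt)) : Prop :=
  ∃ (A : Over S) (w : (yon S).obj A ⟶ D.obj i), IsAffine A.left ∧ RepWith @IsOpenImmersion w ∧
    Points.map (c.π.app i) ⁻¹' Set.range (Points.map w) = O

theorem affineAt_of_hom (hDa : ∀ (i j : I) (φ : i ⟶ j), IsAffineMor (D.map φ)) {i j : I} (φ : j ⟶ i)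
    {O : Set (Points c.pt)} (h : AffineAt c i O) : AffineAt c j O := by
  obtain ⟨A, w, hA, hw, hr⟩ := h
  haveI : IsAffine A.left := hA
  have hd := isAffineMor_iff_repWith.1 (hDa j i φ)
  have sq := hd.1.isPullback w
  haveI : IsAffineHom (hd.1.snd w).left := hd.2 w _ _ sq
  refine ⟨_, hd.1.fst w, isAffine_of_isAffineHom (hd.1.snd w).left, repWith_of_isPullback sq.flip hw, ?_⟩
  rw [← hr]
  ext x
  simp only [Set.mem_preimage]
  rw [show Points.map (c.π.app i) x = Points.map (D.map φ) (Points.map (c.π.app j) x) by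
    rw [← Points.map_comp, c.w]]
  constructor
  · rintro ⟨z, hz⟩
    exact ⟨Points.map ((yon S).map (hd.1.snd w)) z, by
      rw [← hz, ← Points.map_comp, ← Points.map_comp]
      exact congrArg (fun t => Points.map t z) sq.w.symm⟩
  · rintro ⟨y, hy⟩
    obtain ⟨z, hz, -⟩ := exists_point_lift sq _ y hy.symm
    exact ⟨z, hz⟩

theorem exists_isRepresentable [QuasiSeparatedSpace S] (hD : ∀ i, IsAlgSpace (D.obj i))
    (hDa : ∀ (i j : I) (φ : i ⟶ j), IsAffineMor (D.map φ))
    (hqc : ∀ i, IsQuasiCompactSp (D.obj i)) (hqs : ∀ i, IsQuasiSeparatedSp (D.obj i))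
    (hc : IsLimit c) {G : Over S} (e : (yon S).obj G ≅ c.pt) : ∃ i, (D.obj i).obj.IsRepresentable := by
  classical
  have hX : IsAlgSpace c.pt := isAlgSpace_pt hDa c hD hc
  obtain ⟨i₀⟩ := IsCofiltered.nonempty (C := I)
  have hXc : IsQuasiCompactSp c.pt := isQuasiCompactSp_of_mor hX (hD i₀)
    (isQuasiCompactMor_of_isAffineMor hX (hD i₀) (isAffineMor_π hDa c hc i₀)) (hqc i₀)
  haveI : CompactSpace (Points c.pt) := (isQuasiCompactSp_iff hX).1 hXc
  let sub : G.left.affineOpens → Over S := fun O => Over.mk (O.1.ι ≫ G.hom)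
  let u : ∀ O : G.left.affineOpens, (yon S).obj (sub O) ⟶ c.pt := fun O =>
    (yon S).map (Over.homMk O.1.ι rfl : sub O ⟶ G) ≫ e.hom
  have hu : ∀ O, RepWith @IsOpenImmersion (u O) := fun O => (repWith_respectsIso_right e.hom).2
    ((repWith_yon_map_iff _ _).2 (show IsOpenImmersion O.1.ι from inferInstance))
  have hcov : ∀ x, ∃ O, x ∈ Set.range (Points.map (u O)) := fun x => by
    obtain ⟨g, hg⟩ : ∃ g, Points.ofPt e.hom g = x := by
      obtain ⟨g, hg⟩ := (Points.schemeEquiv G).surjective (Points.map e.inv x)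
      refine ⟨g, ?_⟩
      rw [Points.ofPt_eq_map_ofScheme, show Points.ofScheme G g = _ from hg, ← Points.map_comp,
        e.inv_hom_id, Points.map_id]
    obtain ⟨_, ⟨O, hO, rfl⟩, hgO, -⟩ :=
      G.left.isBasis_affineOpens.exists_subset_of_mem_open (Set.mem_univ g) isOpen_univ
    obtain ⟨y, hy⟩ : g ∈ Set.range (Scheme.Opens.ι O) := by rw [Scheme.Opens.range_ι]; exact hgO
    refine ⟨⟨O, hO⟩, Points.ofScheme _ y, ?_⟩
    rw [← Points.ofPt_eq_map_ofScheme, ofPt_map_comp, ← hg]
    exact congrArg _ hy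
  obtain ⟨s, hs⟩ := isCompact_univ.elim_finite_subcover (fun O => Set.range (Points.map (u O)))
    (fun O => isOpen_range_map_of_openImmersion (hu O)) (fun x _ => Set.mem_iUnion.2 (hcov x))
  -- each piece comes from an affine open at some stage
  have piece : ∀ O, ∃ i, AffineAt c i (Set.range (Points.map (u O))) := fun O => by
    haveI : IsAffine (sub O).left := O.2
    have := compactSpace_yon_of_affine (sub O)
    obtain ⟨i, -, Ui, ji, r, hji, hUi, sqU⟩ := exists_open_descends hDa c hc hD hqc hqs (u O) (hu O)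
      ((isQuasiCompactSp_iff (IsAlgSpace.yon_obj _)).2 inferInstance) i₀
    let t : Over.forget i ⋙ D ⟶ (Functor.const (Over i)).obj (D.obj i) := overSp i
    let o : Over i := Over.mk (𝟙 i)
    have hUsp : IsAlgSpace Ui := isAlgSpace_of_representable hji.1 (hD i)
    have hUs : IsQuasiSeparatedSp Ui := isQuasiSeparatedSp_of_mor
      ((isQuasiSeparatedMor_iff_of_representable hUsp (hD i) hji.1).2
        (repWith_mono (fun _ _ w (_ : IsOpenImmersion w) => (inferInstance : QuasiSeparated w)) hji)) (hqs i)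
    have haff : ∀ k : Over o, IsAffineMor (pullback.snd (t.app k.left) ji) := fun k =>
      isAffineMor_of_isPullback (IsPullback.of_hasPullback (t.app k.left) ji) (hDa _ _ k.left.hom)
    have halg : ∀ k : Over o, IsAlgSpace (pullback (t.app k.left) ji) := fun k =>
      isAlgSpace_pullback (hD i) (hD k.left.left) hUsp (IsPullback.of_hasPullback (t.app k.left) ji)
    obtain ⟨l, -, A, hA, ⟨eA⟩⟩ := exists_isAffine_of_limit (D := bcSys t ji o) halg
      (fun _ _ φ => isAffineMor_bcMap (fun (j k : Over i) (ψ : j ⟶ k) => hDa j.left k.left ψ.left) t ji o φ)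
      (fun k => isQuasiSeparatedSp_of_mor (isQuasiSeparatedMor_of_isAffineMor (halg k) hUsp (haff k)) hUs)
      (bcCone (restrictCone c i) t ji o (c.π.app i) (fun k => c.w k.hom))
      (bcIsLimit (restrictCone c i) t ji o (c.π.app i) (fun k => c.w k.hom) (restrictIsLimit c hc i))
      (fun k => isQuasiCompactSp_of_mor (halg k) hUsp
        (isQuasiCompactMor_of_isAffineMor (halg k) hUsp (haff k)) hUi)
      (sub O) sqU.isoPullback (Over.mk (𝟙 o))
    have sql := IsPullback.of_hasPullback (t.app l.left) ji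
    refine ⟨l.left.left, A, eA.hom ≫ pullback.fst (t.app l.left) ji, hA,
      (repWith_respectsIso_left eA.hom).2 (repWith_of_isPullback sql.flip hji), ?_⟩
    ext x
    have hw : Points.map (t.app l.left) (Points.map (c.π.app l.left.left) x) = Points.map (c.π.app i) x := by
      rw [← Points.map_comp]
      exact congrArg (fun g => Points.map g x) (c.w l.left.hom)
    constructor
    · rintro ⟨z, hz⟩
      rw [Points.map_comp] at hz
      obtain ⟨y, hy, -⟩ := exists_point_lift sqU x
        (Points.map (pullback.snd (t.app l.left) ji) (Points.map eA.hom z)) (by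
          rw [← hw, ← hz, ← Points.map_comp, ← Points.map_comp, sql.w]; exact (Points.map_comp _ _ _).trans (Points.map_comp _ _ _))
      exact ⟨y, hy⟩
    · rintro ⟨y, rfl⟩
      obtain ⟨z, hz, -⟩ := exists_point_lift sql (Points.map (c.π.app l.left.left) (Points.map (u O) y))
        (Points.map r y) (by rw [hw, ← Points.map_comp, ← Points.map_comp, sqU.w])
      refine ⟨Points.map eA.inv z, ?_⟩
      rw [Points.map_comp, ← Points.map_comp eA.inv, eA.inv_hom_id, Points.map_id, hz]
  choose st hst using piece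
  obtain ⟨i, hi⟩ := IsCofiltered.inf_objs_exists (insert i₀ (s.image st))
  have hst' : ∀ O ∈ s, AffineAt c i (Set.range (Points.map (u O))) := fun O hO =>
    affineAt_of_hom c hDa (hi (Finset.mem_insert_of_mem (Finset.mem_image_of_mem st hO))).some (hst O)
  choose A w hA hw hr using hst'
  -- the pieces cover a later stage
  let K : Set (Points (D.obj i)) := ⋃ (O) (hO : O ∈ s), Set.range (Points.map (w O hO))
  have hK : IsOpen K := isOpen_iUnion fun O => isOpen_iUnion fun hO =>
    isOpen_range_map_of_openImmersion (hw O hO)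
  obtain ⟨W, q, hW, hqe, hqs'⟩ := exists_affine_chart (hqc i)
  haveI : IsAffine W.left := hW
  let E : Over i ⥤ Scheme.{u} := chartSys hDa q ⋙ Over.forget S
  haveI : ∀ {j k : Over i} (φ : j ⟶ k), IsAffineHom (E.map φ) := fun φ => isAffineHom_chartMap hDa q φ
  haveI : ∀ k, IsAffine (E.obj k) := fun k => isAffine_chartSys hDa q k
  let o : Over i := Over.mk (𝟙 i)
  let a : (yon S).obj ((chartSys hDa q).obj o) ⟶ D.obj i := (chartFst hDa q).app o
  let V : (E.obj o).Opens := ⟨Points.ofPt a ⁻¹' K, hK.preimage (Points.continuous_ofPt a)⟩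
  obtain ⟨l, φ, hl⟩ := exists_map_eq_top E ((Over.forget S).mapCone (chartCone hDa q c hc))
    (chartIsLimitScheme hDa q c hc) V (by
      rw [eq_top_iff]
      intro p _
      obtain ⟨O, hO⟩ := Set.mem_iUnion.1 (hs (Set.mem_univ (Points.ofPt (chartPtFst hDa q c hc) p)))
      obtain ⟨hOs, hO⟩ := Set.mem_iUnion.1 hO
      show Points.ofPt a ((chartPi hDa q c hc o).left p) ∈ K
      rw [← map_π_chartPt hDa c hc q o p]
      rw [← hr O hOs] at hO
      exact Set.mem_iUnion.2 ⟨O, Set.mem_iUnion.2 ⟨hOs, hO⟩⟩)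
  refine ⟨l.left, ?_⟩
  have hd := isAffineMor_iff_repWith.1 (hDa l.left i φ.left)
  obtain ⟨G', ⟨e'⟩⟩ := exists_iso_yon_of_points_cover
    (w := fun k : {O // O ∈ s} => hd.1.fst (w k.1 k.2))
    (fun k => repWith_of_isPullback (hd.1.isPullback (w k.1 k.2)).flip (hw k.1 k.2)) fun x => by
      obtain ⟨p, hp⟩ := surjective_ofPt
        (repWith_of_isPullback (chart_sq hDa q l).flip hqs') x
      have hx : Points.map (D.map φ.left) x ∈ K := by
        have h1 : p ∈ E.map φ ⁻¹ᵁ V := hl ▸ trivial
        rw [← hp, Points.map_ofPt]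
        have h2 : Points.ofPt a (((chartSys hDa q).map φ).left p) ∈ K := h1
        rw [← ofPt_map_comp] at h2
        have e : (yon S).map ((chartSys hDa q).map φ) ≫ a = (chartFst hDa q).app l ≫ D.map φ.left :=
          chartMapHom_fst hDa q φ
        rwa [e] at h2
      obtain ⟨O, hO⟩ := Set.mem_iUnion.1 hx
      obtain ⟨hOs, y, hy⟩ := Set.mem_iUnion.1 hO
      obtain ⟨z, hz, -⟩ := exists_point_lift (hd.1.isPullback (w O hOs)) x y hy.symm
      exact ⟨⟨O, hOs⟩, z, hz⟩
  exact isRepresentable_of_iso_yon e'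

end Groth.Agent.LimSys14
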