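import Groth.Agent.Lib.LimSys14.AffineMor

/-!
# Affineness of morphisms descends along limits
-/

set_option autoImplicit false
set_option backward.isDefEq.respectTransparency.types false
set_option backward.isDefEq.respectTransparency false
set_option linter.style.haveILetI false

universe u

open CategoryTheory CategoryTheory.Limits AlgebraicGeometry Opposite

noncomputable section

namespace Groth.Agent.LimSys14

open AlgSp Groth.Agent.AlgSpace Groth.Agent.AlgSpDecent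

/-- The chart of a base change. -/
theorem exists_chart_of_baseChange {C : Type*} [Category C] {X₀ Y₀ B₀ V Z₀ B X Y W P : C}
    {f₀ : X₀ ⟶ Y₀} {b₀ : Y₀ ⟶ B₀} {d : B ⟶ B₀} {pY : Y ⟶ Y₀} {qY : Y ⟶ B} {pX : X ⟶ X₀} {f : X ⟶ Y}
    (hY : IsPullback pY qY b₀ d) (hX : IsPullback pX f f₀ pY) {v : V ⟶ Y₀} {z : Z₀ ⟶ X₀} {h : Z₀ ⟶ V}
    (sq : IsPullback z h f₀ v) {a : W ⟶ B} {s : W ⟶ V} (sqW : IsPullback a s d (v ≫ b₀))
    {za : P ⟶ B} {zx : P ⟶ Z₀} (sqZ : IsPullback za zx d (z ≫ f₀ ≫ b₀)) :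
    ∃ (b : W ⟶ Y) (r : P ⟶ X) (m : P ⟶ W), IsPullback b s pY v ∧ IsPullback r m f b := by
  let b : W ⟶ Y := hY.lift (s ≫ v) a (by rw [Category.assoc]; exact sqW.w.symm)
  have hb1 : b ≫ pY = s ≫ v := hY.lift_fst _ _ _
  have hb2 : b ≫ qY = a := hY.lift_snd _ _ _
  have sqb : IsPullback b s pY v := by
    refine IsPullback.of_right ?_ hb1 hY.flip
    rw [hb2]; exact sqW
  let m : P ⟶ W := sqW.lift za (zx ≫ h) (by rw [sqZ.w, Category.assoc, reassoc_of% sq.w])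
  have hm1 : m ≫ a = za := sqW.lift_fst _ _ _
  have hm2 : m ≫ s = zx ≫ h := sqW.lift_snd _ _ _
  have sqm : IsPullback zx m h s := by
    refine IsPullback.of_bot ?_ hm2.symm sqW.flip
    rw [hm1, ← reassoc_of% sq.w]
    exact sqZ.flip
  let r : P ⟶ X := hX.lift (zx ≫ z) (m ≫ b) (by
    rw [Category.assoc, sq.w, Category.assoc, hb1, reassoc_of% hm2])
  refine ⟨b, r, m, sqb, IsPullback.of_right ?_ (hX.lift_snd _ _ _) hX⟩
  rw [hX.lift_fst, hb1]
  exact sqm.paste_horiz sq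

variable {S : Scheme.{u}} [QuasiSeparatedSpace S] {I : Type u} [SmallCategory I] [IsCofiltered I]
  {D : I ⥤ Sp S}

theorem descend_isAffineMor (hD : ∀ i, IsAlgSpace (D.obj i))
    (hDa : ∀ (i j : I) (φ : i ⟶ j), IsAffineMor (D.map φ)) (c : Cone D) (hc : IsLimit c) {i₀ : I}
    {X₀ Y₀ : Sp S} (hX₀ : IsAlgSpace X₀) (hY₀ : IsAlgSpace Y₀) {f₀ : X₀ ⟶ Y₀} {b₀ : Y₀ ⟶ D.obj i₀}
    (hXc : IsQuasiCompactSp X₀) (hXs : IsQuasiSeparatedSp X₀)
    (hYc : IsQuasiCompactSp Y₀) (hYs : IsQuasiSeparatedSp Y₀)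
    {X Y : Sp S} {f : X ⟶ Y} {pY : Y ⟶ Y₀} {qY : Y ⟶ c.pt} (hY : IsPullback pY qY b₀ (c.π.app i₀))
    {pX : X ⟶ X₀} (hX : IsPullback pX f f₀ pY) (hf : IsAffineMor f) :
    Descends IsAffineMor f₀ b₀ := by
  obtain ⟨V, v, hV, hve, hvs⟩ := exists_affine_chart hYc
  haveI : IsAffine V.left := hV
  have := compactSpace_yon_of_affine V
  have hVs : IsQuasiSeparatedSp ((yon S).obj V) := isQuasiSeparatedSp_yon V
  have hvq : IsQuasiCompactMor v := isQuasiCompactMor_of_qc_qs (IsAlgSpace.yon_obj V) hY₀ v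
    ((isQuasiCompactSp_iff (IsAlgSpace.yon_obj V)).2 inferInstance) hYs
  have sqZ₀ := IsPullback.of_hasPullback f₀ v
  have hZ₀ : IsAlgSpace (pullback f₀ v) := isAlgSpace_pullback hY₀ hX₀ (IsAlgSpace.yon_obj V) sqZ₀
  have hZ₀c : IsQuasiCompactSp (pullback f₀ v) :=
    isQuasiCompactSp_of_mor hZ₀ hX₀ (isQuasiCompactMor_of_isPullback sqZ₀.flip hvq) hXc
  have hZ₀s : IsQuasiSeparatedSp (pullback f₀ v) := isQuasiSeparatedSp_of_mor
    (isQuasiSeparatedMor_of_isPullback sqZ₀.flip (isQuasiSeparatedMor_of_sp v hVs)) hXs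
  let w : pullback f₀ v ⟶ D.obj i₀ := pullback.fst f₀ v ≫ f₀ ≫ b₀
  let t : Over.forget i₀ ⋙ D ⟶ (Functor.const (Over i₀)).obj (D.obj i₀) := overSp i₀
  let o : Over i₀ := Over.mk (𝟙 i₀)
  have hDa' : ∀ (j k : Over i₀) (φ : j ⟶ k), IsAffineMor ((Over.forget i₀ ⋙ D).map φ) :=
    fun _ _ φ => hDa _ _ φ.left
  -- the limit is affine
  haveI hPaff : IsAffine (chartPt hDa (v ≫ b₀) c hc).left := by
    haveI : IsAffineHom (chartPtSnd hDa (v ≫ b₀) c hc).left :=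
      (isAffineMor_iff_repWith.1 (isAffineMor_π hDa c hc i₀)).2 _ _ _ (chartPt_sq hDa (v ≫ b₀) c hc)
    exact isAffine_of_isAffineHom (chartPtSnd hDa (v ≫ b₀) c hc).left
  obtain ⟨b, r, m, -, sqrm⟩ := exists_chart_of_baseChange hY hX sqZ₀ (chartPt_sq hDa (v ≫ b₀) c hc)
    (IsPullback.of_hasPullback (c.π.app i₀) w)
  obtain ⟨T, i, fst, sqT, hT⟩ := hf hPaff b
  haveI : IsAffine T.left := hT
  let e : (yon S).obj T ≅ pullback (c.π.app i₀) w := sqT.isoIsPullback _ _ sqrm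
  have haff : ∀ k : Over o, IsAffineMor (pullback.snd (t.app k.left) w) := fun k =>
    isAffineMor_of_isPullback (IsPullback.of_hasPullback (t.app k.left) w) (hDa _ _ k.left.hom)
  have halg : ∀ k : Over o, IsAlgSpace (pullback (t.app k.left) w) := fun k =>
    isAlgSpace_pullback (hD i₀) (hD k.left.left) hZ₀ (IsPullback.of_hasPullback (t.app k.left) w)
  obtain ⟨l, -, T', hT', ⟨e'⟩⟩ := exists_isAffine_of_limit (D := bcSys t w o) halg
    (fun _ _ φ => isAffineMor_bcMap hDa' t w o φ)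
    (fun k => isQuasiSeparatedSp_of_mor (isQuasiSeparatedMor_of_isAffineMor (halg k) hZ₀ (haff k)) hZ₀s)
    (bcCone (restrictCone c i₀) t w o (c.π.app i₀) (fun k => c.w k.hom))
    (bcIsLimit (restrictCone c i₀) t w o (c.π.app i₀) (fun k => c.w k.hom) (restrictIsLimit c hc i₀))
    (fun k => isQuasiCompactSp_of_mor (halg k) hZ₀ (isQuasiCompactMor_of_isAffineMor (halg k) hZ₀ (haff k)) hZ₀c)
    T e (Over.mk (𝟙 o))
  refine ⟨l.left.left, l.left.hom, fun Xi Yi fi pYi qYi hYi pXi hXi => ?_⟩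
  obtain ⟨bi, ri, mi, sqbi, sqi⟩ := exists_chart_of_baseChange hYi hXi sqZ₀
    (chart_sq hDa (v ≫ b₀) l.left) (IsPullback.of_hasPullback (t.app l.left) w)
  haveI : IsAffine ((chartSys hDa (v ≫ b₀)).obj l.left).left := isAffine_chartSys hDa (v ≫ b₀) l.left
  haveI : IsAffine T'.left := hT'
  refine isAffineMor_of_etale_cover fi bi (repWith_of_isPullback sqbi.flip hve)
    (repWith_of_isPullback sqbi.flip hvs) sqi ?_
  obtain ⟨p, hp⟩ := (yon S).map_surjective (e'.hom ≫ mi)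
  haveI : IsAffineHom p.left := isAffineHom_of_isAffine p.left
  refine isAffineMor_iff_repWith.2 ((repWith_respectsIso_left e'.hom).1 ?_)
  exact hp ▸ (repWith_yon_map_iff _ p).2 (inferInstance : IsAffineHom p.left)

end Groth.Agent.LimSys14
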