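import Groth.Agent.Lib.LimSys14.Basic
import Groth.Agent.Lib.AlgSpace.AffineDescent
import Groth.Agent.Lib.OverBC14.Apps

/-!
# Affineness of a sheaf from an affine cover pulled back along a map of affine schemes
-/

set_option autoImplicit false
set_option backward.isDefEq.respectTransparency.types false
set_option backward.isDefEq.respectTransparency false
set_option linter.style.haveILetI false

universe u

open CategoryTheory CategoryTheory.Limits AlgebraicGeometry Opposite

noncomputable section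

namespace Groth.Agent.LimSys14

open AlgSp Groth.Agent.AlgSpace Groth.Agent.OverBC14

variable {S S' : Scheme.{u}} (g : S ⟶ S')

/-- A sheaf whose extension is a scheme is one. -/
theorem nonempty_iso_of_L {F : Sp S} {A : Over S'} (i : (L g).obj F ≅ (yon S').obj A) :
    ∃ A' : Over S, A'.left = A.left ∧ Nonempty ((yon S).obj A' ≅ F) := by
  obtain ⟨a, ha⟩ := (yon S').map_surjective (i.inv ≫ π g F)
  let A' : Over S := Over.mk a.left
  let j : (Over.map g).obj A' ≅ A := Over.isoMk (Iso.refl _)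
    ((Category.id_comp _).trans (Over.w a).symm)
  let k : (L g).obj F ≅ (L g).obj ((yon S).obj A') := i ≪≫ ((yon S').mapIso j.symm) ≪≫ (θ g A').symm
  have hk : k.hom ≫ π g ((yon S).obj A') = π g F := by
    rw [← θ_π]
    simp only [k, Iso.trans_hom, Iso.symm_hom, Functor.mapIso_hom, Category.assoc, Iso.inv_hom_id_assoc]
    rw [← Functor.map_comp]
    have e : j.inv ≫ (Over.homMk A'.hom rfl : (Over.map g).obj A' ⟶ Over.mk g) = a :=
      Over.OverMorphism.ext (Category.id_comp _)
    rw [e, ha, Iso.hom_inv_id_assoc]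
  obtain ⟨f₁, hf₁⟩ := exists_map g hk
  have hk' : k.inv ≫ π g F = π g ((yon S).obj A') := by rw [← hk, Iso.inv_hom_id_assoc]
  obtain ⟨f₂, hf₂⟩ := exists_map g hk'
  refine ⟨A', rfl, ⟨⟨f₂, f₁, (L g).map_injective ?_, (L g).map_injective ?_⟩⟩⟩
  · rw [Functor.map_comp, hf₁, hf₂, Iso.inv_hom_id, CategoryTheory.Functor.map_id]
  · rw [Functor.map_comp, hf₁, hf₂, Iso.hom_inv_id, CategoryTheory.Functor.map_id]

/-- A sheaf with a cartesian chart by an affine scheme over an etale surjection of affine schemes. -/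
theorem isAffine_of_cartesian_chart {F : Sp S} {U V T : Over S} [IsAffine U.left]
    {a : (yon S).obj U ⟶ F} {m : U ⟶ V} {τ : F ⟶ (yon S).obj T} {vT : V ⟶ T}
    (sq : IsPullback a ((yon S).map m) τ ((yon S).map vT))
    {T₀ V₀ : Scheme.{u}} [IsAffine T₀] [IsAffine V₀] {v : V₀ ⟶ T₀} [Etale v] [Surjective v]
    {prV : V.left ⟶ V₀} {prT : T.left ⟶ T₀} (sq₀ : IsPullback prV vT.left v prT)
    {ε : T₀ ⟶ S'} (hε : prT ≫ ε = T.hom ≫ g) :
    ∃ A : Over S, IsAffine A.left ∧ Nonempty ((yon S).obj A ≅ F) := by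
  let Z : Over S' := Over.mk ε
  let VZ : Over S' := Over.mk (v ≫ ε)
  let vz : VZ ⟶ Z := Over.homMk v rfl
  let pT : (Over.map g).obj T ⟶ Z := Over.homMk prT hε
  let pV : (Over.map g).obj V ⟶ VZ := Over.homMk prV (by
    show prV ≫ v ≫ ε = V.hom ≫ g
    rw [reassoc_of% sq₀.w, hε, ← Category.assoc, Over.w])
  haveI : IsAffine Z.left := ‹IsAffine T₀›
  haveI : IsAffine VZ.left := ‹IsAffine V₀›
  haveI : IsAffine ((Over.map g).obj U).left := ‹IsAffine U.left›
  haveI : Etale vz.left := ‹Etale v›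
  haveI : Surjective vz.left := ‹Surjective v›
  have sqS : IsPullback ((Over.map g).map vT) pV pT vz :=
    IsPullback.of_map (Over.forget S') (Over.OverMorphism.ext sq₀.w.symm) sq₀.flip
  have s1 : IsPullback (mapPt g a) ((yon S').map ((Over.map g).map m)) ((L g).map τ)
      (mapPt g ((yon S).map vT)) := isPullback_mapPt g sq
  have s2 : IsPullback (mapPt g ((yon S).map vT)) ((yon S').map pV) ((θ g T).hom ≫ (yon S').map pT)
      ((yon S').map vz) := by
    refine (sqS.map (yon S')).of_iso (Iso.refl _) (θ g T).symm (Iso.refl _) (Iso.refl _) ?_ ?_ ?_ ?_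
    · rw [Iso.refl_hom, Category.id_comp, mapPt, Iso.symm_hom, Iso.comp_inv_eq, Category.assoc,
        θ_natural, Iso.inv_hom_id_assoc]
    all_goals simp
  have s := s1.flip.paste_horiz s2.flip
  rw [← Functor.map_comp] at s
  obtain ⟨A, i, fst, -, hA, sqA, -⟩ := exists_affine_of_cover _ (𝟙 ((yon S').obj Z)) vz
    ((Over.map g).map m ≫ pV) (mapPt g a) (by rw [Category.comp_id]; exact s.flip)
  haveI : IsIso fst := sqA.isIso_fst_of_isIso
  obtain ⟨A', hA', hiso⟩ := nonempty_iso_of_L g (asIso fst).symm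
  exact ⟨A', hA' ▸ hA, hiso⟩

end Groth.Agent.LimSys14
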