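import Groth.Agent.Lib.LimSys14.Separated
import Groth.Agent.Lib.SpQuot16.Yon

/-!
# Quasi-compact open subspaces of a limit come from a finite stage
-/

set_option autoImplicit false
set_option backward.isDefEq.respectTransparency.types false
set_option backward.isDefEq.respectTransparency false
set_option linter.style.haveILetI false

universe u

open CategoryTheory CategoryTheory.Limits AlgebraicGeometry Opposite

noncomputable section

namespace Groth.Agent.LimSys14

open AlgSp Groth.Agent.AlgSpace FlatH4 Groth.Agent.AlgSpDecent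

variable {S : Scheme.{u}} {I : Type u} [SmallCategory I] [IsCofiltered I] {D : I ⥤ Sp S}
  (hDa : ∀ (i j : I) (φ : i ⟶ j), IsAffineMor (D.map φ)) (c : Cone D) (hc : IsLimit c)
  {W : Over S} {i₀ : I} (q : (yon S).obj W ⟶ D.obj i₀)

theorem chartPi_sq (l : Over i₀) :
    IsPullback (chartPtFst hDa q c hc) ((yon S).map (chartPi hDa q c hc l)) (c.π.app l.left)
      ((chartFst hDa q).app l) := by
  refine IsPullback.of_bot ?_ (chartPi_fst hDa q c hc l).symm (chart_sq hDa q l)
  rw [chartPi_snd, c.w l.hom]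
  exact chartPt_sq hDa q c hc

/-- A morphism whose square with an open immersion has the right points is a pullback. -/
theorem isPullback_of_range {U X Y V : Sp S} {j : U ⟶ X} (hj : RepWith @IsOpenImmersion j)
    {ι : V ⟶ Y} [Mono ι] {p : X ⟶ Y} {r : U ⟶ V} (w : j ≫ p = r ≫ ι)
    (h : Points.map p ⁻¹' Set.range (Points.map ι) ⊆ Set.range (Points.map j)) :
    IsPullback j r p ι := by
  haveI : Mono j := mono_of_repWith _
    (repWith_mono (fun _ _ u (_ : IsOpenImmersion u) => (inferInstance : Mono u)) hj)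
  refine SpQuot16.isPullback_of_yon w fun T a b hab => ?_
  obtain ⟨z, hz⟩ := exists_factor_of_range hj a (by
    rintro _ ⟨x, rfl⟩
    refine h ⟨Points.map b x, ?_⟩
    rw [← Points.map_comp, ← Points.map_comp, hab])
  refine ⟨z, ⟨hz, ?_⟩, fun z' hz' => (cancel_mono j).1 (hz'.1.trans hz.symm)⟩
  rw [← cancel_mono ι, Category.assoc, ← w, reassoc_of% hz, hab]

include hDa hc in
theorem exists_open_descends [QuasiSeparatedSpace S] (hD : ∀ i, IsAlgSpace (D.obj i))
    (hqc : ∀ i, IsQuasiCompactSp (D.obj i)) (hqs : ∀ i, IsQuasiSeparatedSp (D.obj i))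
    {U : Sp S} (j : U ⟶ c.pt) (hj : RepWith @IsOpenImmersion j) (hU : IsQuasiCompactSp U)
    (i₁ : I) :
    ∃ (i : I) (_ : i ⟶ i₁) (Ui : Sp S) (ji : Ui ⟶ D.obj i) (r : U ⟶ Ui),
      RepWith @IsOpenImmersion ji ∧ IsQuasiCompactSp Ui ∧ IsPullback j r (c.π.app i) ji := by
  obtain ⟨W, q, hW, hqe, hqs'⟩ := exists_affine_chart (hqc i₁)
  have := compactSpace_yon_of_affine W
  haveI : IsAffine W.left := hW
  have hqmor : IsQuasiCompactMor q := isQuasiCompactMor_of_qc_qs (IsAlgSpace.yon_obj W) (hD i₁) q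
    ((isQuasiCompactSp_iff (IsAlgSpace.yon_obj W)).2 inferInstance) (hqs i₁)
  have hX : IsAlgSpace c.pt := isAlgSpace_pt hDa c hD hc
  have hUsp : IsAlgSpace U := isAlgSpace_of_representable hj.1 hX
  let P := chartPt hDa q c hc
  let u := chartPtFst hDa q c hc
  have hue : RepWith @Etale u := repWith_of_isPullback (chartPt_sq hDa q c hc).flip hqe
  have hus : RepWith @Surjective u := repWith_of_isPullback (chartPt_sq hDa q c hc).flip hqs'
  -- the open subscheme of the chart
  have sqj := hj.1.isPullback u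
  haveI : IsOpenImmersion (hj.1.snd u).left := hj.2 u _ _ sqj
  have hP'c : CompactSpace ↥(hj.1.pullback u).left := by
    rw [← compactSpace_yon_iff]
    exact (isQuasiCompactSp_iff (IsAlgSpace.yon_obj _)).1
      (hqmor hUsp hU (j ≫ c.π.app i₁) _ _ (sqj.flip.paste_horiz (chartPt_sq hDa q c hc).flip))
  let O : P.left.Opens := (hj.1.snd u).left.opensRange
  have hO : IsCompact (O : Set ↥P.left) := isCompact_range (hj.1.snd u).left.continuous
  let E : Over i₁ ⥤ Scheme.{u} := chartSys hDa q ⋙ Over.forget S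
  haveI : ∀ {l m : Over i₁} (a : l ⟶ m), IsAffineHom (E.map a) := fun a =>
    isAffineHom_chartMap hDa q a
  obtain ⟨l, (V : ((chartSys hDa q).obj _).left.Opens), hVc, hV⟩ := exists_preimage_eq E _ (chartIsLimitScheme hDa q c hc) O hO
  -- the open subspace
  let a : (yon S).obj ((chartSys hDa q).obj l) ⟶ D.obj l.left := (chartFst hDa q).app l
  have hae : RepWith @Etale a := repWith_of_isPullback (chart_sq hDa q l).flip hqe
  let A : Over S := Over.mk (V.ι ≫ ((chartSys hDa q).obj l).hom)
  let a' : (yon S).obj A ⟶ D.obj l.left :=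
    (yon S).map (Over.homMk V.ι rfl : A ⟶ (chartSys hDa q).obj l) ≫ a
  have ha'e : RepWith @Etale a' := repWith_comp
    ((repWith_yon_map_iff _ _).2 (show Etale V.ι from inferInstance)) hae
  let K : Set (Points (D.obj l.left)) := Points.ofPt a '' SetLike.coe V
  have hK : IsOpen K := isOpenMap_ofPt a hae _ V.isOpen
  have hKr : Set.range (Points.ofPt a') = K := range_ofPt_restrict a V
  obtain ⟨a'', -, he'', hs''⟩ := exists_atlas_openSub_image a' ha'e hKr
  haveI : CompactSpace ↥A.left := isCompact_iff_compactSpace.1 hVc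
  have hKc : IsQuasiCompactSp (openSub K) := ⟨A, a'', he'', hs'', ‹_›⟩
  have hrange : Points.map (c.π.app l.left) ⁻¹' K = Set.range (Points.map j) := by
    have sqπ := chartPi_sq hDa c hc q l
    ext x
    constructor
    · rintro ⟨v, hv, hvx⟩
      obtain ⟨p, hp₁, hp₂⟩ := exists_pt_of_isPullback sqπ hvx.symm
      have : p ∈ O := hV ▸ (show (chartPi hDa q c hc l).left p ∈ V from hp₂ ▸ hv)
      obtain ⟨w, rfl⟩ := this
      exact ⟨_, (ofPt_sq sqj.w w).trans hp₁⟩
    · rintro ⟨y, rfl⟩
      obtain ⟨p, hp⟩ := surjective_ofPt hus (Points.map j y)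
      obtain ⟨w, -, hw⟩ := exists_pt_of_isPullback sqj hp.symm
      have hv : (chartPi hDa q c hc l).left p ∈ V := by
        have : p ∈ O := ⟨w, hw⟩
        rw [← hV] at this
        exact this
      refine ⟨_, hv, ?_⟩
      rw [← hp]
      exact (ofPt_sq sqπ.w p).symm
  obtain ⟨r, hr⟩ := exists_factor_openSub (W := K) (j ≫ c.π.app l.left) (by
    rintro _ ⟨y, rfl⟩
    rw [Points.map_comp]
    exact hrange.symm.subset ⟨y, rfl⟩)
  refine ⟨l.left, l.hom, openSub K, openSubι K, r, repWith_openSubι hK, hKc, ?_⟩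
  exact isPullback_of_range hj hr.symm (by rw [range_openSubι, hrange])

end Groth.Agent.LimSys14
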