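import Groth.Agent.Lib.LimSys14.AffineModel
import Groth.Agent.Lib.LimSys14.AffineZ
import Groth.Agent.Lib.LimSys14.Separated
import Groth.Agent.Lib.LimSys14.OpenDescend
import Groth.Agent.Lib.LimShf14.Criterion
import Groth.Agent.Lib.AlgSpace.ValLift
import Groth.Agent.Lib.SchBasic.Basic

/-!
# A limit which is affine is affine at some stage
-/

set_option autoImplicit false
set_option backward.isDefEq.respectTransparency.types false
set_option backward.isDefEq.respectTransparency false
set_option linter.style.haveILetI false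

universe u

open CategoryTheory CategoryTheory.Limits AlgebraicGeometry Opposite

noncomputable section

namespace Groth.Agent.LimSys14

open AlgSp Groth.Agent.AlgSpace Groth.Agent.AlgSpDecent

variable {S : Scheme.{u}}

/-- Maps out of a space are given on an etale chart. -/
theorem exists_desc_of_chart {F Y : Sp S} {U R : Over S} {a : (yon S).obj U ⟶ F} (he : RepWith @Etale a)
    (hs : RepWith @Surjective a) {l₁ l₂ : R ⟶ U}
    (sq : IsPullback ((yon S).map l₁) ((yon S).map l₂) a a) (d : (yon S).obj U ⟶ Y)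
    (h : (yon S).map l₁ ≫ d = (yon S).map l₂ ≫ d) : ∃ d₀, a ≫ d₀ = d := by
  have := isLocallySurjective_of_etale he hs
  have : Epi a := Sheaf.epi_of_isLocallySurjective' _
  have : IsRegularEpi a := IsRegularEpiCategory.regularEpiOfEpi _
  obtain ⟨φ, hφ⟩ := (IsRegularEpi.getStruct a).desc' d (hom_ext_yon fun V t => by
    obtain ⟨r, h₁, h₂⟩ : ∃ r : (yon S).obj V ⟶ (yon S).obj R,
        r ≫ (yon S).map l₁ = t ≫ (IsRegularEpi.getStruct a).left ∧
        r ≫ (yon S).map l₂ = t ≫ (IsRegularEpi.getStruct a).right :=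
      have w : (t ≫ (IsRegularEpi.getStruct a).left) ≫ a = (t ≫ (IsRegularEpi.getStruct a).right) ≫ a := by
        rw [Category.assoc, Category.assoc, (IsRegularEpi.getStruct a).w]
      ⟨sq.lift _ _ w, sq.lift_fst _ _ w, sq.lift_snd _ _ w⟩
    rw [← Category.assoc, ← Category.assoc, ← h₁, ← h₂, Category.assoc, Category.assoc, h])
  exact ⟨φ, hφ⟩

theorem chartMap_sq {I : Type u} [SmallCategory I] {D : I ⥤ Sp S}
    (hDa : ∀ (i j : I) (φ : i ⟶ j), IsAffineMor (D.map φ)) {W : Over S} {i₀ : I}
    (q : (yon S).obj W ⟶ D.obj i₀) {j k : Over i₀} (φ : j ⟶ k) :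
    IsPullback ((yon S).map ((chartSys hDa q).map φ)) ((chartFst hDa q).app j)
      ((chartFst hDa q).app k) (D.map φ.left) := by
  have e : (yon S).map ((chartSys hDa q).map φ) ≫ (chartFst hDa q).app k =
      (chartFst hDa q).app j ≫ D.map φ.left := chartMapHom_fst hDa q φ
  refine (IsPullback.of_bot ?_ e.symm (chart_sq hDa q k)).flip
  have h := chart_sq hDa q j
  rw [← Over.w φ, D.map_comp] at h
  rwa [← Functor.map_comp,
    show (chartSys hDa q).map φ ≫ (chartSnd hDa q).app k = (chartSnd hDa q).app j from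
      chartMapHom_snd hDa q φ]

variable [QuasiSeparatedSpace S] {I : Type u} [SmallCategory I] [IsCofiltered I] {D : I ⥤ Sp S}
  (hD : ∀ i, IsAlgSpace (D.obj i)) (hDa : ∀ (i j : I) (φ : i ⟶ j), IsAffineMor (D.map φ))
  (hqs : ∀ i, IsQuasiSeparatedSp (D.obj i)) (c : Cone D) (hc : IsLimit c)

include hqs hD in
/-- A map from the limit of the charts which is compatible descends to a stage. -/
theorem exists_stage_map {W : Over S} [IsAffine W.left] {i₁ : I} (q : (yon S).obj W ⟶ D.obj i₁)
    (hqe : RepWith @Etale q) (hqs' : RepWith @Surjective q) {VB TB : Over S} (vB : VB ⟶ TB)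
    [LocallyOfFinitePresentation VB.hom] [LocallyOfFiniteType TB.hom]
    (pB : chartPt hDa q c hc ⟶ VB) (τ₀ : c.pt ⟶ (yon S).obj TB)
    (hτ₀ : chartPtFst hDa q c hc ≫ τ₀ = (yon S).map (pB ≫ vB)) :
    ∃ (k : Over i₁) (m : (chartSys hDa q).obj k ⟶ VB) (τ : D.obj k.left ⟶ (yon S).obj TB),
      chartPi hDa q c hc k ≫ m = pB ∧ (chartFst hDa q).app k ≫ τ = (yon S).map (m ≫ vB) ∧
        c.π.app k.left ≫ τ = τ₀ := by
  let o : Over i₁ := Over.mk (𝟙 i₁)
  haveI : LocallyOfFinitePresentation (Over.homMk VB.hom (Category.comp_id _) : VB ⟶ Over.mk (𝟙 S)).left :=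
    ‹LocallyOfFinitePresentation VB.hom›
  obtain ⟨l, z, -, hz⟩ := LimShf14.exists_factor_over (c := chartCone hDa q c hc)
    (chartIsLimitScheme hDa q c hc) (fun k => isAffine_chartSys hDa q k) (i := o)
    (Over.homMk ((chartSys hDa q).obj o).hom (Category.comp_id _) : (chartSys hDa q).obj o ⟶ Over.mk (𝟙 S))
    (Over.homMk VB.hom (Category.comp_id _) : VB ⟶ Over.mk (𝟙 S)) pB (Over.OverMorphism.ext (by
      show pB.left ≫ VB.hom = ((chartCone hDa q c hc).π.app o).left ≫ ((chartSys hDa q).obj o).hom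
      exact (Over.w pB).trans (Over.w ((chartCone hDa q c hc).π.app o)).symm))
  -- the two maps on the self product of the chart
  have := compactSpace_yon_of_affine W
  have hqmor : IsQuasiCompactMor q := isQuasiCompactMor_of_qc_qs (IsAlgSpace.yon_obj W) (hD i₁) q
    ((isQuasiCompactSp_iff (IsAlgSpace.yon_obj W)).2 inferInstance) (hqs i₁)
  have sqR := hqe.1.isPullback' q
  let R₀ := hqe.1.pullback q
  let r₁ : R₀ ⟶ W := hqe.1.fst' q
  let r₂ : R₀ ⟶ W := hqe.1.snd q
  let q' : (yon S).obj R₀ ⟶ D.obj i₁ := (yon S).map r₁ ≫ q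
  haveI : QuasiCompact r₂.left :=
    ((repWith_quasiCompact_iff (IsAlgSpace.yon_obj W) (hD i₁) hqe.1).2 hqmor).2 q _ _ sqR
  haveI : CompactSpace R₀.left := QuasiCompact.compactSpace_of_compactSpace r₂.left
  let L₁ := chartLiftApp hDa q r₁ (rfl : q' = (yon S).map r₁ ≫ q)
  let L₂ := chartLiftApp hDa q r₂ (sqR.w : q' = (yon S).map r₂ ≫ q)
  let E' : Over i₁ ⥤ Scheme.{u} := chartSys hDa q' ⋙ Over.forget S
  haveI : ∀ {j k : Over i₁} (f : j ⟶ k), IsAffineHom (E'.map f) := fun f =>
    isAffineHom_chartMap hDa q' f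
  haveI : ∀ k, CompactSpace (E'.obj k) := fun k => by
    haveI := isAffineHom_chartSnd hDa q' k
    haveI : CompactSpace ↥(((Functor.const (Over i₁)).obj R₀).obj k).left := ‹CompactSpace R₀.left›
    exact QuasiCompact.compactSpace_of_compactSpace ((chartSnd hDa q').app k).left
  let str : E' ⟶ (Functor.const (Over i₁)).obj S :=
    { app := fun k => ((chartSys hDa q').obj k).hom
      naturality := fun j k φ => (Over.w ((chartSys hDa q').map φ)).trans (Category.comp_id _).symm }
  let z' : (chartSys hDa q).obj l.left ⟶ TB := z ≫ vB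
  have hlim : ∀ (r : R₀ ⟶ W) (hr : q' = (yon S).map r ≫ q),
      (yon S).map (chartPi hDa q' c hc l.left ≫ chartLiftApp hDa q r hr l.left ≫ z') =
        chartPtFst hDa q' c hc ≫ τ₀ := fun r hr => by
    have e : chartPi hDa q c hc l.left ≫ z = pB := hz
    rw [← Category.assoc, ← chartPtLift_π hDa q r hr c hc l.left, Category.assoc, reassoc_of% e,
      Functor.map_comp, ← hτ₀, ← Category.assoc, chartPtLift_fst]
  obtain ⟨k, ψ, hψ⟩ := Scheme.exists_hom_comp_eq_comp_of_locallyOfFiniteType E' str TB.hom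
    ((Over.forget S).mapCone (chartCone hDa q' c hc)) (chartIsLimitScheme hDa q' c hc)
    (i := l.left) (L₁ l.left ≫ z').left (L₂ l.left ≫ z').left
    (Over.w _).symm (Over.w _).symm
    (congrArg Over.Hom.left ((yon S).map_injective ((hlim r₁ rfl).trans (hlim r₂ sqR.w).symm)))
  have hψ' : (chartSys hDa q').map ψ ≫ L₁ l.left ≫ z' = (chartSys hDa q').map ψ ≫ L₂ l.left ≫ z' :=
    Over.OverMorphism.ext hψ
  let a := (chartFst hDa q).app k
  have hae : RepWith @Etale a := repWith_of_isPullback (chart_sq hDa q k).flip hqe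
  have has : RepWith @Surjective a := repWith_of_isPullback (chart_sq hDa q k).flip hqs'
  have sq₂ : IsPullback ((yon S).map (L₁ k)) ((yon S).map (L₂ k)) a a := by
    refine isPullback_self (chart_sq hDa q k) sqR (chart_sq hDa q' k) (chartLiftApp_fst hDa q r₁ rfl k)
      ?_ (chartLiftApp_fst hDa q r₂ sqR.w k) ?_
    · rw [← Functor.map_comp, ← Functor.map_comp]
      exact congrArg _ (chartLiftApp_snd hDa q r₁ rfl k)
    · rw [← Functor.map_comp, ← Functor.map_comp]
      exact congrArg _ (chartLiftApp_snd hDa q r₂ sqR.w k)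
  let m : (chartSys hDa q).obj k ⟶ VB := (chartSys hDa q).map ψ ≫ z
  obtain ⟨τ, hτ⟩ := exists_desc_of_chart hae has sq₂ ((yon S).map (m ≫ vB)) (by
    rw [← Functor.map_comp, ← Functor.map_comp]
    refine congrArg (yon S).map ?_
    simp only [m, Category.assoc]
    rw [← Category.assoc (L₁ k), ← Category.assoc (L₂ k), ← chartLiftApp_nat hDa q r₁ rfl ψ,
      ← chartLiftApp_nat hDa q r₂ sqR.w ψ, Category.assoc, Category.assoc]
    exact hψ')
  have hm : chartPi hDa q c hc k ≫ m = pB :=
    (Category.assoc _ _ _).symm.trans ((congrArg (· ≫ z) (chartPi_w hDa q c hc ψ)).trans hz)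
  refine ⟨k, m, τ, hm, hτ, ?_⟩
  have hue : RepWith @Etale (chartPtFst hDa q c hc) := repWith_of_isPullback (chartPt_sq hDa q c hc).flip hqe
  have hus : RepWith @Surjective (chartPtFst hDa q c hc) :=
    repWith_of_isPullback (chartPt_sq hDa q c hc).flip hqs'
  have := isLocallySurjective_of_etale hue hus
  have : Epi (chartPtFst hDa q c hc) := Sheaf.epi_of_isLocallySurjective' _
  rw [← cancel_epi (chartPtFst hDa q c hc), ← Category.assoc, ← chartPi_fst, Category.assoc, hτ,
    ← Functor.map_comp, ← Category.assoc, hm, hτ₀]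

include hD hDa hqs hc in
/-- If the limit is an affine scheme, so is some stage. -/
theorem exists_isAffine_of_limit (hqc : ∀ i, IsQuasiCompactSp (D.obj i)) (T : Over S) [IsAffine T.left]
    (e : (yon S).obj T ≅ c.pt) (i₀ : I) :
    ∃ (i : I) (_ : i ⟶ i₀) (T' : Over S), IsAffine T'.left ∧ Nonempty ((yon S).obj T' ≅ D.obj i) := by
  obtain ⟨W, q, hW, hqe, hqs'⟩ := exists_affine_chart (hqc i₀)
  haveI : IsAffine W.left := hW
  let P := chartPt hDa q c hc
  let u := chartPtFst hDa q c hc
  haveI : IsAffine P.left := by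
    haveI : IsAffineHom (chartPtSnd hDa q c hc).left :=
      (isAffineMor_iff_repWith.1 (isAffineMor_π hDa c hc i₀)).2 q _ _ (chartPt_sq hDa q c hc)
    exact isAffine_of_isAffineHom (chartPtSnd hDa q c hc).left
  obtain ⟨γ, hγ⟩ := (yon S).map_surjective (u ≫ e.inv)
  haveI : Etale γ.left := (repWith_yon_map_iff @Etale γ).1
    (hγ ▸ (repWith_respectsIso_right _).2 (repWith_of_isPullback (chartPt_sq hDa q c hc).flip hqe))
  haveI : Surjective γ.left := (repWith_yon_map_iff @Surjective γ).1
    (hγ ▸ (repWith_respectsIso_right _).2 (repWith_of_isPullback (chartPt_sq hDa q c hc).flip hqs'))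
  obtain ⟨T₀, V₀, _, _, v, t, p, hve, hvs, hlfp, sq₀⟩ := exists_affine_model γ.left
  haveI := hve; haveI := hvs; haveI := hlfp
  -- the models over the base
  let sS := specULiftZIsTerminal.from S
  let sT := specULiftZIsTerminal.from T₀
  let TB : Over S := Over.mk (pullback.fst sS sT)
  let VB : Over S := Over.mk (pullback.fst sS (v ≫ sT))
  let prT : TB.left ⟶ T₀ := pullback.snd sS sT
  let prV : VB.left ⟶ V₀ := pullback.snd sS (v ≫ sT)
  let vb : VB.left ⟶ TB.left := pullback.map sS (v ≫ sT) sS sT (𝟙 S) v (𝟙 _) (by simp) (by simp)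
  let vB : VB ⟶ TB := Over.homMk vb ((pullback.lift_fst _ _ _).trans (Category.comp_id _))
  have sqv : IsPullback prV vB.left v prT := by
    refine IsPullback.of_bot ?_ (pullback.lift_snd _ _ _).symm (IsPullback.of_hasPullback sS sT).flip
    rw [show vB.left ≫ pullback.fst sS sT = pullback.fst sS (v ≫ sT) from
      (pullback.lift_fst _ _ _).trans (Category.comp_id _)]
    exact (IsPullback.of_hasPullback sS (v ≫ sT)).flip
  haveI : LocallyOfFinitePresentation TB.hom := MorphismProperty.pullback_fst _ _ hlfp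
  haveI : LocallyOfFinitePresentation VB.hom :=
    MorphismProperty.pullback_fst _ _ (inferInstance : LocallyOfFinitePresentation (v ≫ sT))
  haveI hvBe : Etale vB.left := MorphismProperty.of_isPullback sqv hve
  haveI hvBa : IsAffineHom vB.left :=
    MorphismProperty.of_isPullback sqv (isAffineHom_of_isAffine v)
  let tB : T ⟶ TB := Over.homMk (pullback.lift T.hom t (specULiftZIsTerminal.hom_ext _ _))
    (pullback.lift_fst _ _ _)
  let pB : P ⟶ VB := Over.homMk (pullback.lift P.hom p (specULiftZIsTerminal.hom_ext _ _))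
    (pullback.lift_fst _ _ _)
  have sqB : IsPullback pB γ vB tB := by
    have hw : pB.left ≫ vB.left = γ.left ≫ tB.left := by
      apply pullback.hom_ext
      · exact (Category.assoc _ _ _).trans ((congrArg (_ ≫ ·) (Over.w vB)).trans
          ((Over.w pB).trans ((Over.w γ).symm.trans ((congrArg (_ ≫ ·) (Over.w tB).symm).trans
            (Category.assoc _ _ _).symm))))
      · refine (Category.assoc _ _ _).trans ?_
        rw [show vB.left ≫ pullback.snd sS sT = prV ≫ v from pullback.lift_snd _ _ _,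
          show pB.left ≫ prV ≫ v = p ≫ v from (Category.assoc _ _ _).symm.trans
            (congrArg (· ≫ v) (pullback.lift_snd _ _ _)), sq₀.w, Category.assoc]
        exact congrArg (γ.left ≫ ·) (pullback.lift_snd _ _ _).symm
    refine IsPullback.of_map (Over.forget S) (Over.OverMorphism.ext hw) ?_
    refine IsPullback.of_right ?_ hw sqv
    show IsPullback (pB.left ≫ prV) γ.left v (tB.left ≫ prT)
    rw [show pB.left ≫ prV = p from pullback.lift_snd _ _ _, show tB.left ≫ prT = t from pullback.lift_snd _ _ _]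
    exact sq₀
  let τ₀ : c.pt ⟶ (yon S).obj TB := e.inv ≫ (yon S).map tB
  have hτ₀ : u ≫ τ₀ = (yon S).map (pB ≫ vB) := by
    rw [sqB.w, Functor.map_comp, hγ, Category.assoc]
  obtain ⟨k, m, τ, hm, hτ, hτπ⟩ := exists_stage_map hD hDa hqs c hc q hqe hqs' vB pB τ₀ hτ₀
  let a := (chartFst hDa q).app k
  have sqZ := IsPullback.of_hasPullback τ ((yon S).map vB)
  let Z := pullback τ ((yon S).map vB)
  let f₀ : (yon S).obj ((chartSys hDa q).obj k) ⟶ Z :=
    pullback.lift a ((yon S).map m) (hτ.trans ((yon S).map_comp _ _))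
  have hf₀ : f₀ ≫ pullback.fst τ ((yon S).map vB) = a := pullback.lift_fst _ _ _
  have hvBr : RepWith (@Etale ⊓ @IsAffineHom) ((yon S).map vB) :=
    (repWith_yon_map_iff _ _).2 ⟨hvBe, hvBa⟩
  have hb₀ := repWith_of_isPullback sqZ.flip hvBr
  have hb₀a : IsAffineMor (pullback.fst τ ((yon S).map vB)) :=
    isAffineMor_iff_repWith.2 (repWith_mono inf_le_right hb₀)
  have hZ : IsAlgSpace Z := isAlgSpace_of_representable hb₀.1 (hD k.left)
  have hZc : IsQuasiCompactSp Z :=
    isQuasiCompactSp_of_mor hZ (hD _) (isQuasiCompactMor_of_isAffineMor hZ (hD _) hb₀a) (hqc _)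
  have hZs : IsQuasiSeparatedSp Z :=
    isQuasiSeparatedSp_of_mor (isQuasiSeparatedMor_of_isAffineMor hZ (hD _) hb₀a) (hqs _)
  haveI : IsAffine ((chartSys hDa q).obj k).left := isAffine_chartSys hDa q k
  have := compactSpace_yon_of_affine ((chartSys hDa q).obj k)
  let pY : (yon S).obj P ⟶ Z := (yon S).map (chartPi hDa q c hc k) ≫ f₀
  have hpY : pY ≫ pullback.snd τ ((yon S).map vB) = (yon S).map pB := by
    rw [Category.assoc, pullback.lift_snd, ← Functor.map_comp, hm]
  have hpY' : pY ≫ pullback.fst τ ((yon S).map vB) = u ≫ c.π.app k.left := by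
    rw [Category.assoc, hf₀]; exact chartPi_fst hDa q c hc k
  have sqY : IsPullback pY u (pullback.fst τ ((yon S).map vB)) (c.π.app k.left) := by
    refine IsPullback.of_right ?_ hpY' sqZ.flip
    rw [hpY, hτπ]
    exact (sqB.map (yon S)).of_iso (Iso.refl _) (Iso.refl _) e (Iso.refl _) (by simp) (by
      rw [Iso.refl_hom, Category.id_comp, hγ, Category.assoc, Iso.inv_hom_id, Category.comp_id])
      (by simp) (by simp [τ₀])
  have sqX : IsPullback ((yon S).map (chartPi hDa q c hc k)) (𝟙 _) f₀ pY := by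
    refine IsPullback.of_bot ?_ (Category.id_comp _).symm sqY
    rw [hf₀, Category.id_comp]
    exact (chartPi_sq hDa c hc q k).flip
  have hf₀l : LocP @LocallyOfFinitePresentation f₀ := by
    refine locP_of_comp (P := @LocallyOfFinitePresentation) (Q' := @LocallyOfFinitePresentation)
      (R := @LocallyOfFiniteType) (fun A C E k l hkl hl => ?_) (IsAlgSpace.yon_obj _) hZ (hD k.left) ?_ ?_
      (g := pullback.fst τ ((yon S).map vB))
    · haveI := hkl; haveI := hl
      exact Groth.Agent.SchBasic.locallyOfFinitePresentation_of_comp k l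
    · rw [hf₀]
      exact locP_of_repWith (hD _) (repWith_mono (Q := @LocallyOfFinitePresentation)
        (fun _ _ w (_ : Etale w) => inferInstance) (repWith_of_isPullback (chart_sq hDa q k).flip hqe))
    · exact locP_of_repWith (hD _) (repWith_mono (Q := @LocallyOfFiniteType)
        (fun _ _ w hw => by haveI : Etale w := hw.1; infer_instance) hb₀)
  obtain ⟨j, φ, hj⟩ := descend_iso_of_representable hD hDa c hc (i₀ := k.left)
    (f₀ := f₀) (b₀ := pullback.fst τ ((yon S).map vB)) (IsAlgSpace.yon_obj _) hZ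
    ((isQuasiCompactSp_iff (IsAlgSpace.yon_obj _)).2 inferInstance)
    (isQuasiSeparatedSp_yon _) hZc hZs sqY sqX (hZ.representable_from_yon f₀) hf₀l
  let k' : Over i₀ := Over.mk (φ ≫ k.hom)
  let ψ : k' ⟶ k := Over.homMk φ rfl
  let a' : (yon S).obj ((chartSys hDa q).obj k') ⟶ D.obj j := (chartFst hDa q).app k'
  let τ' : D.obj j ⟶ (yon S).obj TB := D.map φ ≫ τ
  let m' : (chartSys hDa q).obj k' ⟶ VB := (chartSys hDa q).map ψ ≫ m
  have sqYi := IsPullback.of_hasPullback τ' ((yon S).map vB)
  let pYi : pullback τ' ((yon S).map vB) ⟶ Z :=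
    pullback.lift (pullback.fst τ' ((yon S).map vB) ≫ D.map φ) (pullback.snd τ' ((yon S).map vB))
      ((Category.assoc _ _ _).trans sqYi.w)
  have hYi : IsPullback pYi (pullback.fst τ' ((yon S).map vB)) (pullback.fst τ ((yon S).map vB)) (D.map φ) := by
    refine IsPullback.of_right ?_ (pullback.lift_fst _ _ _) sqZ.flip
    rw [show pYi ≫ pullback.snd τ ((yon S).map vB) = pullback.snd τ' ((yon S).map vB) from
      pullback.lift_snd _ _ _]
    exact sqYi.flip
  have sqc : IsPullback ((yon S).map ((chartSys hDa q).map ψ)) a' a (D.map φ) := chartMap_sq hDa q ψ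
  let fi : (yon S).obj ((chartSys hDa q).obj k') ⟶ pullback τ' ((yon S).map vB) :=
    pullback.lift a' ((yon S).map m') (by
      show a' ≫ D.map φ ≫ τ = _
      rw [← Category.assoc, ← sqc.w, Category.assoc, hτ, ← Functor.map_comp, ← Functor.map_comp,
        Category.assoc])
  have hXi : IsPullback ((yon S).map ((chartSys hDa q).map ψ)) fi f₀ pYi := by
    refine IsPullback.of_bot ?_ ?_ hYi
    · rw [hf₀, show fi ≫ pullback.fst τ' ((yon S).map vB) = a' from pullback.lift_fst _ _ _]
      exact sqc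
    · apply pullback.hom_ext
      · rw [Category.assoc, hf₀, Category.assoc, show pYi ≫ pullback.fst τ ((yon S).map vB) =
          pullback.fst τ' ((yon S).map vB) ≫ D.map φ from pullback.lift_fst _ _ _,
          ← Category.assoc fi, show fi ≫ pullback.fst τ' ((yon S).map vB) = a' from pullback.lift_fst _ _ _]
        exact sqc.w
      · rw [Category.assoc, Category.assoc, pullback.lift_snd, show pYi ≫ pullback.snd τ ((yon S).map vB) =
          pullback.snd τ' ((yon S).map vB) from pullback.lift_snd _ _ _,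
          show fi ≫ pullback.snd τ' ((yon S).map vB) = (yon S).map m' from pullback.lift_snd _ _ _,
          ← Functor.map_comp]
  haveI : IsIso fi := hj _ _ fi pYi _ hYi _ hXi
  have ha' : fi ≫ pullback.fst τ' ((yon S).map vB) = a' := pullback.lift_fst _ _ _
  have hm' : fi ≫ pullback.snd τ' ((yon S).map vB) = (yon S).map m' := pullback.lift_snd _ _ _
  have sqf : IsPullback a' ((yon S).map m') τ' ((yon S).map vB) :=
    IsPullback.of_iso_pullback ⟨by rw [← ha', ← hm', Category.assoc, Category.assoc, pullback.condition]⟩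
      (asIso fi) ha' hm'
  haveI : IsAffine ((chartSys hDa q).obj k').left := isAffine_chartSys hDa q k'
  obtain ⟨T', hT', hiso⟩ := isAffine_of_cartesian_chart sS sqf sqv (ε := sT)
    (pullback.condition (f := sS) (g := sT)).symm
  exact ⟨j, φ ≫ k.hom, T', hT', hiso⟩

end Groth.Agent.LimSys14
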