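import Groth.Agent.Lib.Descend.SmoothEtale
import Mathlib.AlgebraicGeometry.Morphisms.UniversallyOpen

/-!
# An etale cover of an affine scheme comes from one of affine schemes of finite type over the integers
-/

set_option autoImplicit false
set_option backward.isDefEq.respectTransparency false
set_option linter.style.haveILetI false

universe u

open CategoryTheory CategoryTheory.Limits AlgebraicGeometry

noncomputable section

namespace Groth.Agent.LimSys14

/-- A morphism from an affine scheme to an affine scheme which lands in an open factors through an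
affine scheme of finite presentation whose image lies in the open. -/
theorem exists_factor_in_open {R A : Type u} [CommRing R] [CommRing A] (φ : R →+* A)
    (W : (Spec (CommRingCat.of R)).Opens)
    (h : Set.range (Spec.map (CommRingCat.ofHom φ)) ⊆ W) :
    ∃ (R₁ : Type u) (_ : CommRing R₁) (ι : R →+* R₁) (ψ : R₁ →+* A), ι.FinitePresentation ∧
      ψ.comp ι = φ ∧ Set.range (Spec.map (CommRingCat.ofHom ι)) ⊆ W := by
  classical
  obtain ⟨s, hs⟩ : ∃ s : Set R, (W : Set (Spec (CommRingCat.of R))) = (PrimeSpectrum.zeroLocus s)ᶜ := by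
    obtain ⟨s, hs⟩ := (PrimeSpectrum.isClosed_iff_zeroLocus _).1 W.2.isClosed_compl
    exact ⟨s, (compl_compl _).symm.trans (congrArg _ hs)⟩
  have h1 : (1 : A) ∈ Submodule.span A (φ '' s) := by
    by_contra h1
    obtain ⟨m, hm, hle⟩ := Ideal.exists_le_maximal (Ideal.span (φ '' s))
      (fun e => h1 (show (1 : A) ∈ Ideal.span (φ '' s) by rw [e]; trivial))
    have := h ⟨⟨m, hm.isPrime⟩, rfl⟩
    rw [hs] at this
    exact this fun x hx => hle (Ideal.subset_span ⟨x, hx, rfl⟩)
  obtain ⟨n, a, g, hsum⟩ := (Submodule.mem_span_set' (R := A)).1 h1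
  have hg : ∀ i, ∃ f ∈ s, φ f = (g i : A) := fun i => (g i).2
  choose f hf hfg using hg
  let I : Ideal (MvPolynomial (Fin n) R) :=
    Ideal.span {∑ i, MvPolynomial.X i * MvPolynomial.C (f i) - 1}
  let ev : MvPolynomial (Fin n) R →+* A := MvPolynomial.eval₂Hom φ a
  have hI : ∀ x ∈ I, ev x = 0 := fun x hx => by
    refine (Ideal.span_le (I := RingHom.ker ev)).2 ?_ hx
    simp only [Set.singleton_subset_iff, SetLike.mem_coe, RingHom.mem_ker, map_sub, map_sum, map_mul,
      map_one, ev, MvPolynomial.eval₂Hom_X', MvPolynomial.eval₂Hom_C, hfg]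
    rw [sub_eq_zero]
    simpa [smul_eq_mul] using hsum
  refine ⟨MvPolynomial (Fin n) R ⧸ I, inferInstance, (Ideal.Quotient.mk I).comp MvPolynomial.C,
    Ideal.Quotient.lift I ev hI, ?_, ?_, ?_⟩
  · refine (RingHom.FinitePresentation.of_surjective _ Ideal.Quotient.mk_surjective ?_).comp ?_
    · rw [Ideal.mk_ker]
      exact Submodule.fg_span (Set.finite_singleton _)
    · exact RingHom.finitePresentation_algebraMap.2 (inferInstance : Algebra.FinitePresentation R (MvPolynomial (Fin n) R))
  · ext r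
    simp [ev]
  · rintro _ ⟨p, rfl⟩
    rw [hs]
    intro hp
    refine p.2.ne_top ((Ideal.eq_top_iff_one _).2 ?_)
    have e : (∑ i, Ideal.Quotient.mk I (MvPolynomial.X i) *
        ((Ideal.Quotient.mk I).comp MvPolynomial.C) (f i)) = 1 := by
      have := Ideal.Quotient.eq.2 (Ideal.subset_span (Set.mem_singleton _) :
        (∑ i, MvPolynomial.X i * MvPolynomial.C (f i)) - 1 ∈ I)
      simpa [map_sum, map_mul] using this
    rw [← e]
    exact Ideal.sum_mem _ fun i _ => Ideal.mul_mem_left _ _ (hp (hf i))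

/-- An etale surjective map of affine schemes is a base change of one of affine schemes of finite
presentation over the integers. -/
theorem exists_affine_model {P T : Scheme.{u}} [IsAffine P] [IsAffine T] (g : P ⟶ T) [Etale g]
    [Surjective g] :
    ∃ (T₀ V₀ : Scheme.{u}) (_ : IsAffine T₀) (_ : IsAffine V₀) (v : V₀ ⟶ T₀) (t : T ⟶ T₀) (p : P ⟶ V₀),
      Etale v ∧ Surjective v ∧ LocallyOfFinitePresentation (specULiftZIsTerminal.from T₀) ∧
      IsPullback p g v t := by
  have hg : g.appTop.hom.Etale := (HasRingHomProperty.iff_of_isAffine (P := @Etale)).1 inferInstance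
  algebraize [g.appTop.hom]
  obtain ⟨A₀, B₀, _, _, hfg, hsm, ⟨e⟩⟩ :=
    Algebra.Etale.exists_subalgebra_fg (R := ℤ) (A := Γ(T, ⊤)) (B := Γ(P, ⊤))
  haveI hb := Descend.locallyOfFinitePresentation_int A₀ hfg
  let m : Spec (CommRingCat.of B₀) ⟶ Spec (CommRingCat.of A₀) :=
    Spec.map (CommRingCat.ofHom (algebraMap A₀ B₀))
  haveI hm : Etale m :=
    (HasRingHomProperty.Spec_iff (P := @Etale)).2 (RingHom.etale_algebraMap.2 hsm)
  obtain ⟨p₀, hM⟩ := Descend.exists_isPullback_model g A₀ B₀ e
  let W : (Spec (CommRingCat.of A₀)).Opens :=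
    ⟨Set.range m, (Scheme.Hom.isOpenMap m).isOpen_range⟩
  have hW : Set.range (Spec.map (CommRingCat.ofHom (algebraMap A₀ Γ(T, ⊤)))) ⊆ W := by
    rintro _ ⟨x, rfl⟩
    obtain ⟨y, rfl⟩ := T.isoSpec.hom.surjective x
    obtain ⟨z, rfl⟩ := g.surjective y
    refine ⟨p₀ z, ?_⟩
    rw [← Scheme.Hom.comp_apply, hM.w, Scheme.Hom.comp_apply, Scheme.Hom.comp_apply]; rfl
  obtain ⟨R₁, _, ι, ψ, hι, hψ, hr⟩ := exists_factor_in_open _ W hW
  let j : Spec (CommRingCat.of R₁) ⟶ Spec (CommRingCat.of A₀) := Spec.map (CommRingCat.ofHom ι)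
  haveI : LocallyOfFinitePresentation j :=
    (HasRingHomProperty.Spec_iff (P := @LocallyOfFinitePresentation)).2 hι
  let t : T ⟶ Spec (CommRingCat.of R₁) := T.isoSpec.hom ≫ Spec.map (CommRingCat.ofHom ψ)
  have hs : Surjective (pullback.fst j m) := ⟨fun x => by
    obtain ⟨y, hy⟩ := hr ⟨x, rfl⟩
    obtain ⟨z, hz, -⟩ := Scheme.Pullback.exists_preimage_pullback x y hy.symm
    exact ⟨z, hz⟩⟩
  have hlfp : LocallyOfFinitePresentation (specULiftZIsTerminal.from (Spec (CommRingCat.of R₁))) := by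
    rw [specULiftZIsTerminal.hom_ext (specULiftZIsTerminal.from (Spec (CommRingCat.of R₁)))
      (j ≫ specULiftZIsTerminal.from _)]
    infer_instance
  have et : t ≫ j = T.isoSpec.hom ≫ Spec.map (CommRingCat.ofHom (algebraMap A₀ Γ(T, ⊤))) := by
    rw [Category.assoc, ← Spec.map_comp]
    congr 2
    exact CommRingCat.hom_ext hψ
  have sq0 : IsPullback (pullback.snd j m) (pullback.fst j m) m j := (IsPullback.of_hasPullback j m).flip
  rw [← et] at hM
  have hpw : p₀ ≫ m = (g ≫ t) ≫ j := hM.w.trans (Category.assoc _ _ _).symm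
  let p : P ⟶ pullback j m := sq0.lift p₀ (g ≫ t) hpw
  refine ⟨_, pullback j m, inferInstance, inferInstance, pullback.fst j m, t, p,
    MorphismProperty.pullback_fst _ _ hm, hs, hlfp, ?_⟩
  exact (IsPullback.of_right (by rw [sq0.lift_fst p₀ (g ≫ t) hpw]; exact hM) (sq0.lift_snd p₀ (g ≫ t) hpw) sq0 : _)

end Groth.Agent.LimSys14
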