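import Groth.Agent.Lib.LimSys14.ClosedTo

/-!
# A limit which is a closed subspace of the base is one at a finite stage
-/

set_option autoImplicit false
set_option backward.isDefEq.respectTransparency.types false
set_option backward.isDefEq.respectTransparency false
set_option linter.style.haveILetI false

universe u

open CategoryTheory CategoryTheory.Limits AlgebraicGeometry Opposite

noncomputable section

namespace Groth.Agent.LimSys14

open AlgSp Groth.Agent.AlgSpace FlatH4 Groth.Agent.AlgSpDecent

variable {S : Scheme.{u}}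

/-- Monomorphisms locally of finite type are locally quasi-finite. -/
theorem locP_lqf_of_mono {A B : Sp S} (hA : IsAlgSpace A) (hB : IsAlgSpace B) {f : A ⟶ B} [Mono f]
    (hf : LocP @LocallyOfFiniteType f) : LocP (@LocallyQuasiFinite ⊓ @LocallyOfFiniteType) f := by
  refine locP_mono ?_ (locP_unramified_of_diagonal hA hB hf (repWith_diagonal_of_mono f))
  intro P Q g hg
  haveI : LocallyOfFiniteType g := hg.1
  haveI : FormallyUnramified g := hg.2
  exact ⟨locallyQuasiFinite_of_unramified g, hg.1⟩

/-- Monomorphisms locally of finite type are representable. -/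
theorem representable_of_mono {A B : Sp S} (hA : IsAlgSpace A) (hB : IsAlgSpace B) {f : A ⟶ B} [Mono f]
    (hf : LocP @LocallyOfFiniteType f) : Representable f :=
  representable_of_lqf_separated hA hB f (repWith_diagonal_of_mono f) (locP_lqf_of_mono hA hB hf)

theorem diag_mono_w {A B Z : Sp S} (a : A ⟶ B) (f : B ⟶ Z) :
    a ≫ pullback.diagonal f = pullback.diagonal (a ≫ f) ≫
      pullback.map (a ≫ f) (a ≫ f) f f a a (𝟙 Z) (by simp) (by simp) := by
  apply pullback.hom_ext
  · rw [Category.assoc, Category.assoc, pullback.diagonal_fst, pullback.lift_fst, Category.comp_id,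
      pullback.diagonal_fst_assoc]
  · rw [Category.assoc, Category.assoc, pullback.diagonal_snd, pullback.lift_snd, Category.comp_id,
      pullback.diagonal_snd_assoc]

/-- The diagonal over a subspace. -/
theorem isPullback_diag_of_mono {A B Z : Sp S} (a : A ⟶ B) [Mono a] (f : B ⟶ Z) (g : A ⟶ Z)
    (h : a ≫ f = g) :
    IsPullback a (pullback.diagonal g) (pullback.diagonal f)
      (pullback.map g g f f a a (𝟙 Z) (by simp [h]) (by simp [h])) := by
  subst h
  refine IsPullback.of_isLimit (PullbackCone.IsLimit.mk
    (diag_mono_w a f)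
    (fun s => s.snd ≫ pullback.fst _ _) (fun s => ?_) (fun s => ?_) (fun s m h₁ h₂ => by simp [← h₂]))
  · have h1 := s.condition =≫ pullback.fst f f
    simp only [Category.assoc, pullback.diagonal_fst, Category.comp_id, pullback.lift_fst] at h1
    exact (Category.assoc _ _ _).trans h1.symm
  · have h1 := s.condition =≫ pullback.fst f f
    have h2 := s.condition =≫ pullback.snd f f
    simp only [Category.assoc, pullback.diagonal_fst, pullback.diagonal_snd, Category.comp_id,
      pullback.lift_fst, pullback.lift_snd] at h1 h2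
    have e : s.snd ≫ pullback.fst (a ≫ f) (a ≫ f) = s.snd ≫ pullback.snd (a ≫ f) (a ≫ f) :=
      (cancel_mono a).1 (((Category.assoc _ _ _).trans h1.symm).trans (h2.trans (Category.assoc _ _ _).symm))
    apply pullback.hom_ext <;> simp [e]

section Prod

variable {I : Type u} [SmallCategory I] {D : I ⥤ Sp S} {Y : Sp S}
  (t : D ⟶ (Functor.const I).obj Y) (i₀ : I)

/-- Transition maps of the self products over the base. -/
def prodMap {j k : Over i₀} (φ : j ⟶ k) :
    pullback (t.app j.left) (t.app j.left) ⟶ pullback (t.app k.left) (t.app k.left) :=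
  pullback.map _ _ _ _ (D.map φ.left) (D.map φ.left) (𝟙 Y)
    ((Category.comp_id _).trans (t_w t φ.left).symm) ((Category.comp_id _).trans (t_w t φ.left).symm)

/-- The self products over the base. -/
def prodSys : Over i₀ ⥤ Sp S where
  obj k := pullback (t.app k.left) (t.app k.left)
  map φ := prodMap t i₀ φ
  map_id k := by apply pullback.hom_ext <;> simp [prodMap]
  map_comp φ ψ := by apply pullback.hom_ext <;> simp [prodMap]

theorem isAffineMor_prodMap (hDa : ∀ (i j : I) (φ : i ⟶ j), IsAffineMor (D.map φ)) {j k : Over i₀}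
    (φ : j ⟶ k) : IsAffineMor (prodMap t i₀ φ) :=
  isAffineMor_iff_repWith.2 (MorphismProperty.pullbackMap (P := RepWith @IsAffineHom)
    (isAffineMor_iff_repWith.1 (hDa _ _ φ.left)) (isAffineMor_iff_repWith.1 (hDa _ _ φ.left))
    (t_w t φ.left).symm (t_w t φ.left).symm)

variable (c : Cone D) (g : c.pt ⟶ Y) (hg : ∀ i, c.π.app i ≫ t.app i = g)

/-- The projections of the self product of the limit. -/
def prodPi (k : Over i₀) : pullback g g ⟶ pullback (t.app k.left) (t.app k.left) :=
  pullback.map _ _ _ _ (c.π.app k.left) (c.π.app k.left) (𝟙 Y)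
    ((Category.comp_id _).trans (hg k.left).symm) ((Category.comp_id _).trans (hg k.left).symm)

theorem prodPi_w {j k : Over i₀} (φ : j ⟶ k) :
    prodPi t i₀ c g hg j ≫ prodMap t i₀ φ = prodPi t i₀ c g hg k := by
  apply pullback.hom_ext <;> simp [prodPi, prodMap]

/-- The self product of the limit as a cone. -/
def prodCone : Cone (prodSys t i₀) where
  pt := pullback g g
  π :=
    { app := prodPi t i₀ c g hg
      naturality := fun _ _ φ => (Category.id_comp _).trans (prodPi_w t i₀ c g hg φ).symm }

/-- A cone of self products projected to the system. -/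
def prodProj (s : Cone (prodSys t i₀)) (b : Bool) : Cone (Over.forget i₀ ⋙ D) where
  pt := s.pt
  π :=
    { app := fun k => s.π.app k ≫
        (if b then pullback.fst (t.app k.left) (t.app k.left) else pullback.snd (t.app k.left) (t.app k.left))
      naturality := fun j k φ => by
        have h : s.π.app k = s.π.app j ≫ prodMap t i₀ φ := (s.w φ).symm
        refine (Category.id_comp _).trans ?_
        rw [h]
        cases b
        · exact ((Category.assoc _ _ _).trans (congrArg (_ ≫ ·) (pullback.lift_snd _ _ _))).trans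
            (Category.assoc _ _ _).symm
        · exact ((Category.assoc _ _ _).trans (congrArg (_ ≫ ·) (pullback.lift_fst _ _ _))).trans
            (Category.assoc _ _ _).symm }

variable [IsCofiltered I] (hc : IsLimit c)

include hg in
theorem prodLift_cond (s : Cone (prodSys t i₀)) :
    (restrictIsLimit c hc i₀).lift (prodProj t i₀ s true) ≫ g =
      (restrictIsLimit c hc i₀).lift (prodProj t i₀ s false) ≫ g := by
  have e : ∀ b, (restrictIsLimit c hc i₀).lift (prodProj t i₀ s b) ≫ c.π.app i₀ =
      (prodProj t i₀ s b).π.app (Over.mk (𝟙 i₀)) := fun b =>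
    (restrictIsLimit c hc i₀).fac (prodProj t i₀ s b) (Over.mk (𝟙 i₀))
  rw [← hg i₀, reassoc_of% (e true), reassoc_of% (e false)]
  exact ((Category.assoc _ _ _).trans ((congrArg (_ ≫ ·) pullback.condition).trans
    (Category.assoc _ _ _).symm))

/-- It is a limit. -/
def prodIsLimit : IsLimit (prodCone t i₀ c g hg) where
  lift s := pullback.lift ((restrictIsLimit c hc i₀).lift (prodProj t i₀ s true))
    ((restrictIsLimit c hc i₀).lift (prodProj t i₀ s false)) (prodLift_cond t i₀ c g hg hc s)
  fac s k := by
    show _ ≫ prodPi t i₀ c g hg k = s.π.app k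
    unfold prodPi
    apply pullback.hom_ext
    · rw [Category.assoc, pullback.lift_fst, pullback.lift_fst_assoc]
      exact (restrictIsLimit c hc i₀).fac _ k
    · rw [Category.assoc, pullback.lift_snd, pullback.lift_snd_assoc]
      exact (restrictIsLimit c hc i₀).fac _ k
  uniq s m hm := by
    apply pullback.hom_ext
    · rw [pullback.lift_fst]
      refine (restrictIsLimit c hc i₀).hom_ext fun k => ?_
      rw [(restrictIsLimit c hc i₀).fac, Category.assoc]
      show _ = s.π.app k ≫ pullback.fst _ _
      rw [← hm k]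
      exact (congrArg (m ≫ ·) (pullback.lift_fst _ _ _).symm).trans (Category.assoc _ _ _).symm
    · rw [pullback.lift_snd]
      refine (restrictIsLimit c hc i₀).hom_ext fun k => ?_
      rw [(restrictIsLimit c hc i₀).fac, Category.assoc]
      show _ = s.π.app k ≫ pullback.snd _ _
      rw [← hm k]
      exact (congrArg (m ≫ ·) (pullback.lift_snd _ _ _).symm).trans (Category.assoc _ _ _).symm

end Prod

variable [QuasiSeparatedSpace S] {I : Type u} [SmallCategory I] [IsCofiltered I] {D : I ⥤ Sp S}

theorem exists_closedImmersion_struct (hD : ∀ i, IsAlgSpace (D.obj i)) {Y : Sp S} (hY : IsAlgSpace Y)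
    (t : D ⟶ (Functor.const I).obj Y)
    (hDc : ∀ (i j : I) (φ : i ⟶ j), RepWith @IsClosedImmersion (D.map φ))
    (c : Cone D) (hc : IsLimit c) (g : c.pt ⟶ Y) (hg : ∀ i, c.π.app i ≫ t.app i = g)
    (hqc : ∀ i, IsQuasiCompactSp (D.obj i)) (hqs : ∀ i, IsQuasiSeparatedSp (D.obj i))
    (hYc : IsQuasiCompactSp Y) (hYs : IsQuasiSeparatedSp Y)
    (hft : ∀ i, LocP @LocallyOfFiniteType (t.app i)) (hX : RepWith @IsClosedImmersion g) :
    ∃ i₁ : I, ∀ (i : I) (_ : i ⟶ i₁), RepWith @IsClosedImmersion (t.app i) := by
  suffices ∃ i₁, RepWith @IsClosedImmersion (t.app i₁) by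
    obtain ⟨i₁, h⟩ := this
    refine ⟨i₁, fun i φ => ?_⟩
    rw [show t.app i = D.map φ ≫ t.app i₁ from ((t.naturality φ).trans (Category.comp_id _)).symm]
    exact repWith_comp (hDc i i₁ φ) h
  obtain ⟨i₀⟩ := IsCofiltered.nonempty (C := I)
  have hDa : ∀ (i j : I) (φ : i ⟶ j), IsAffineMor (D.map φ) :=
    fun i j φ => isAffineMor_of_closedImmersion (hDc i j φ)
  have hMono : ∀ {i j : I} (φ : i ⟶ j), Mono (D.map φ) := fun φ => mono_of_repWith _
    (repWith_mono (fun _ _ u (_ : IsClosedImmersion u) => (inferInstance : Mono u)) (hDc _ _ φ))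
  have : Mono g := mono_of_repWith _
    (repWith_mono (fun _ _ u (_ : IsClosedImmersion u) => (inferInstance : Mono u)) hX)
  have hπm : Mono (c.π.app i₀) := by
    have : Mono (c.π.app i₀ ≫ t.app i₀) := by rw [hg]; infer_instance
    exact mono_of_mono (c.π.app i₀) (t.app i₀)
  -- the diagonal becomes invertible
  let o : Over i₀ := Over.mk (𝟙 i₀)
  obtain ⟨hY₁, hY₁c, hY₁s⟩ := pullback_self_facts (hD i₀) hY (hqc i₀) (hqs i₀) hYs (f₀ := t.app i₀)
  have sqo : IsPullback (prodPi t i₀ c g hg o) (𝟙 (pullback g g)) (𝟙 _) (prodPi t i₀ c g hg o) :=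
    IsPullback.of_vert_isIso ⟨by rw [Category.comp_id, Category.id_comp]⟩
  obtain ⟨k, φk, hk⟩ := descend_iso_of_representable (D := prodSys t i₀)
    (fun k => isAlgSpace_pullback hY (hD k.left) (hD k.left) (IsPullback.of_hasPullback _ _))
    (fun _ _ φ => isAffineMor_prodMap t i₀ hDa φ) (prodCone t i₀ c g hg) (prodIsLimit t i₀ c g hg hc)
    (i₀ := o) (X₀ := D.obj i₀) (Y₀ := pullback (t.app i₀) (t.app i₀))
    (f₀ := pullback.diagonal (t.app i₀)) (b₀ := 𝟙 _)
    (hD i₀) hY₁ (hqc i₀) (hqs i₀) hY₁c hY₁s sqo
    (X := c.pt) (f := pullback.diagonal g) (pX := c.π.app i₀)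
    (isPullback_diag_of_mono (c.π.app i₀) (t.app i₀) g (hg i₀))
    (representable_diagonal (hD i₀) _)
    (locP_of_repWith hY₁ (repWith_diagonal_lfp_of_lft (hD i₀) hY (hft i₀)))
  have : Mono (D.map φk.left) := hMono φk.left
  have sqk : IsPullback (prodMap t i₀ φk) (𝟙 (pullback (t.app k.left) (t.app k.left))) (𝟙 _)
      (prodMap t i₀ φk) := IsPullback.of_vert_isIso ⟨by rw [Category.comp_id, Category.id_comp]⟩
  have hiso : IsIso (pullback.diagonal (t.app k.left)) :=
    hk (D.obj k.left) _ (pullback.diagonal (t.app k.left)) _ (𝟙 _) sqk (D.map φk.left)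
      (isPullback_diag_of_mono (D.map φk.left) (t.app i₀) (t.app k.left) (t_w t φk.left))
  have : Mono (t.app k.left) := (pullback.isIso_diagonal_iff _).1 hiso
  -- the scheme case
  have hrep : Representable (t.app k.left) := representable_of_mono (hD _) hY (hft _)
  obtain ⟨V, v, hV, hve, hvs⟩ := exists_affine_chart hYc
  haveI : IsAffine V.left := hV
  have sqP := hrep.isPullback v
  let q := hrep.fst v
  let h := hrep.snd v
  haveI : QuasiCompact h.left := ((repWith_quasiCompact_iff (hD _) hY hrep).2
    (isQuasiCompactMor_of_qc_qs (hD _) hY _ (hqc _) hYs)).2 v _ _ sqP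
  haveI : QuasiSeparated h.left := ((isQuasiSeparatedMor_iff_of_representable (hD _) hY hrep).1
    (isQuasiSeparatedMor_of_sp _ (hqs _))).2 v _ _ sqP
  haveI : CompactSpace (hrep.pullback v).left := QuasiCompact.compactSpace_of_compactSpace h.left
  haveI : QuasiSeparatedSpace (hrep.pullback v).left := quasiSeparatedSpace_of_quasiSeparated h.left
  haveI : LocallyOfFiniteType h.left := prop_of_isChart (isRepChart_isChart ⟨q, v, sqP, hve, hvs⟩) (hft _)
  let E : Over k.left ⥤ Scheme.{u} := chartSys hDa q ⋙ Over.forget S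
  let tE : E ⟶ (Functor.const (Over k.left)).obj V.left :=
    chartT hDa q ≫ (Functor.const (Over k.left)).map h.left
  have hcls : ∀ l, IsClosedImmersion ((chartSnd hDa q).app l).left := fun l =>
    (hDc _ _ l.hom).2 q _ _ (chart_sq hDa q l)
  haveI : ∀ (l m : Over k.left) (a : l ⟶ m), IsClosedImmersion (E.map a) := fun l m a => by
    haveI := hcls m
    haveI : IsClosedImmersion (((chartSys hDa q).map a).left ≫ ((chartSnd hDa q).app m).left) := by
      have h := congrArg Over.Hom.left (chartMapHom_snd hDa q a)
      rw [Over.comp_left] at h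
      exact h.symm ▸ (hcls l : _)
    exact IsClosedImmersion.of_comp ((chartSys hDa q).map a).left ((chartSnd hDa q).app m).left
  haveI hEc : ∀ l, CompactSpace (E.obj l) := fun l => by
    haveI := hcls l
    haveI : CompactSpace ↥(((Functor.const (Over k.left)).obj (hrep.pullback v)).obj l).left :=
      ‹CompactSpace (hrep.pullback v).left›
    exact QuasiCompact.compactSpace_of_compactSpace ((chartSnd hDa q).app l).left
  haveI hEs : ∀ l, QuasiSeparatedSpace (E.obj l) := fun l => by
    haveI := hcls l
    haveI : QuasiSeparatedSpace ↥(((Functor.const (Over k.left)).obj (hrep.pullback v)).obj l).left :=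
      ‹QuasiSeparatedSpace (hrep.pullback v).left›
    exact quasiSeparatedSpace_of_quasiSeparated ((chartSnd hDa q).app l).left
  haveI : ∀ l, LocallyOfFiniteType (tE.app l) := fun l => by
    haveI := hcls l
    show LocallyOfFiniteType (((chartSnd hDa q).app l).left ≫ h.left)
    infer_instance
  let o' : Over k.left := Over.mk (𝟙 k.left)
  let cE := (Over.forget S).mapCone (chartCone hDa q c hc)
  haveI : IsClosedImmersion (cE.π.app o' ≫ tE.app o') := by
    have sqL : IsPullback (chartPtFst hDa q c hc) ((yon S).map (chartPtSnd hDa q c hc ≫ h)) g v := by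
      rw [Functor.map_comp, ← hg k.left]
      exact (chartPt_sq hDa q c hc).paste_vert sqP
    have h1 : IsClosedImmersion (chartPtSnd hDa q c hc ≫ h).left := hX.2 v _ _ sqL
    have e : cE.π.app o' ≫ tE.app o' = (chartPtSnd hDa q c hc).left ≫ h.left :=
      (Category.assoc _ _ _).symm.trans (congrArg (· ≫ h.left) (chartCone_T hDa q c hc o'))
    rw [e]
    exact h1
  obtain ⟨l, hl⟩ := LimH13.exists_isClosedImmersion_structureMap (t := tE)
    (chartIsLimitScheme hDa q c hc) o'
  refine ⟨l.left, ?_⟩
  have sql : IsPullback ((chartFst hDa q).app l) ((yon S).map ((chartSnd hDa q).app l ≫ h)) (t.app l.left) v := by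
    rw [Functor.map_comp, show t.app l.left = D.map l.hom ≫ t.app k.left from
      ((t.naturality l.hom).trans (Category.comp_id _)).symm]
    exact (chart_sq hDa q l).paste_vert sqP
  have := isLocalAtTarget_fppf_isClosedImmersion.{u}
  have := isLocallySurjective_of_etale hve hvs
  have hrepl : Representable (t.app l.left) := by
    rw [← t_w t l.hom]
    exact (repWith_comp (repWith_top (hDc _ _ l.hom).1) (repWith_top hrep)).1
  exact repWith_of_locallySurjective hrepl sql _ ((repWith_yon_map_iff _ _).2 hl)

end Groth.Agent.LimSys14
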