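import Groth.Agent.Lib.LimSys14.AffineLimit
import Groth.Agent.Lib.LimSys14.ClosedStruct

/-!
# A limit which is affine (or integral) over the base is affine (or finite) at some stage
-/

set_option autoImplicit false
set_option backward.isDefEq.respectTransparency.types false
set_option backward.isDefEq.respectTransparency false
set_option linter.style.haveILetI false

universe u

open CategoryTheory CategoryTheory.Limits AlgebraicGeometry Opposite

noncomputable section

namespace Groth.Agent.LimSys14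

open AlgSp Groth.Agent.AlgSpace Groth.Agent.AlgSpDecent

/-- Affine schemes of finite type with finite transition maps and integral limit are eventually finite. -/
theorem exists_isFinite_of_isIntegral {J : Type u} [SmallCategory J] [IsCofiltered J]
    (E : J ⥤ Scheme.{u}) [∀ j, IsAffine (E.obj j)] {V : Scheme.{u}} [IsAffine V]
    (t : E ⟶ (Functor.const J).obj V) (c : Cone E) (hc : IsLimit c) (o : J)
    [LocallyOfFiniteType (t.app o)] [hint : IsIntegralHom (c.π.app o ≫ t.app o)]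
    (hf : ∀ {i j : J} (φ : i ⟶ j), IsFinite (E.map φ)) :
    ∃ (j : J) (_ : j ⟶ o), IsFinite (t.app j) := by
  classical
  haveI : ∀ i, IsAffine (((Functor.const J).obj V).obj i) := fun _ => ‹IsAffine V›
  haveI : IsAffine c.pt := isAffine_of_isAffineHom (c.π.app o ≫ t.app o)
  have hft : (t.app o).appTop.hom.FiniteType :=
    (HasRingHomProperty.iff_of_isAffine (P := @LocallyOfFiniteType)).1 ‹_›
  have hint' : (c.π.app o ≫ t.app o).appTop.hom.IsIntegral :=
    ((HasAffineProperty.iff_of_isAffine (P := @IsIntegralHom)).1 hint).2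
  letI : Algebra Γ(V, ⊤) Γ(E.obj o, ⊤) := (t.app o).appTop.hom.toAlgebra
  haveI : Algebra.FiniteType Γ(V, ⊤) Γ(E.obj o, ⊤) := hft
  obtain ⟨s, hs⟩ : (⊤ : Subalgebra Γ(V, ⊤) Γ(E.obj o, ⊤)).FG := Algebra.FiniteType.out
  -- eventually each generator is integral
  have key : ∀ s' : Finset Γ(E.obj o, ⊤), ∃ (j : J) (φ : j ⟶ o),
      ∀ x ∈ s', (t.app j).appTop.hom.IsIntegralElem ((E.map φ).appTop x) := by
    intro s'
    induction s' using Finset.induction_on with
    | empty => exact ⟨o, 𝟙 o, by simp⟩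
    | insert x s' _ ih =>
      obtain ⟨j, φ, hj⟩ := ih
      obtain ⟨p, hp, hpx⟩ := hint' ((c.π.app o).appTop x)
      have h0 : (c.π.app o).appTop (p.eval₂ (t.app o).appTop.hom x) = 0 := by
        rw [← hpx, Polynomial.hom_eval₂, Scheme.Hom.comp_appTop, CommRingCat.hom_comp]
      obtain ⟨l, ψ, hl⟩ := exists_appTop_map_eq_zero_of_isAffine_of_isLimit E c hc o _ h0
      obtain ⟨m, a, b, hab⟩ : ∃ (m : J) (a : m ⟶ j) (b : m ⟶ l), a ≫ φ = b ≫ ψ :=
        ⟨IsCofiltered.eq (IsCofiltered.minToLeft j l ≫ φ) (IsCofiltered.minToRight j l ≫ ψ),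
          IsCofiltered.eqHom _ _ ≫ IsCofiltered.minToLeft j l,
          IsCofiltered.eqHom _ _ ≫ IsCofiltered.minToRight j l,
          by rw [Category.assoc, Category.assoc]; exact IsCofiltered.eq_condition _ _⟩
      have ht : ∀ {i k : J} (f : i ⟶ k), (t.app i).appTop = (t.app k).appTop ≫ (E.map f).appTop := fun {i k} f => by
        rw [← Scheme.Hom.comp_appTop]
        exact congrArg Scheme.Hom.appTop ((t.naturality f).trans (Category.comp_id _)).symm
      refine ⟨m, a ≫ φ, fun y hy => ?_⟩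
      rcases Finset.mem_insert.1 hy with rfl | hy
      · refine ⟨p, hp, ?_⟩
        rw [hab, ht (b ≫ ψ), CommRingCat.hom_comp, ← Polynomial.hom_eval₂, Functor.map_comp,
          Scheme.Hom.comp_appTop]
        show (E.map b).appTop ((E.map ψ).appTop (p.eval₂ _ y)) = 0
        rw [hl, map_zero]
      · obtain ⟨r, hr, hr'⟩ := hj y hy
        refine ⟨r, hr, ?_⟩
        rw [ht a, CommRingCat.hom_comp, Functor.map_comp, Scheme.Hom.comp_appTop]
        show r.eval₂ ((E.map a).appTop.hom.comp (t.app j).appTop.hom) ((E.map a).appTop ((E.map φ).appTop y)) = 0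
        rw [← Polynomial.hom_eval₂, hr', map_zero]
  obtain ⟨j, φ, hj⟩ := key s
  refine ⟨j, φ, ?_⟩
  haveI : LocallyOfFiniteType (t.app j) := by
    haveI := hf φ
    rw [← (t.naturality φ).trans (Category.comp_id _)]
    infer_instance
  refine (IsFinite.iff_isIntegralHom_and_locallyOfFiniteType _).2 ⟨?_, ‹_›⟩
  refine (HasAffineProperty.iff_of_isAffine (P := @IsIntegralHom)).2 ⟨inferInstance, fun (y : Γ(E.obj j, ⊤)) => ?_⟩
  have ht : (t.app j).appTop = (t.app o).appTop ≫ (E.map φ).appTop := by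
    rw [← Scheme.Hom.comp_appTop]
    exact congrArg Scheme.Hom.appTop ((t.naturality φ).trans (Category.comp_id _)).symm
  letI : Algebra Γ(E.obj o, ⊤) Γ(E.obj j, ⊤) := (E.map φ).appTop.hom.toAlgebra
  letI : Algebra Γ(V, ⊤) Γ(E.obj j, ⊤) := (t.app j).appTop.hom.toAlgebra
  haveI : IsScalarTower Γ(V, ⊤) Γ(E.obj o, ⊤) Γ(E.obj j, ⊤) := IsScalarTower.of_algebraMap_eq fun r => by
    show (t.app j).appTop r = _
    rw [ht]; rfl
  let g : Γ(E.obj o, ⊤) →ₐ[Γ(V, ⊤)] Γ(E.obj j, ⊤) := IsScalarTower.toAlgHom _ _ _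
  have hrange : g.range ≤ integralClosure Γ(V, ⊤) Γ(E.obj j, ⊤) := by
    rw [← Algebra.map_top, ← hs, AlgHom.map_adjoin, Algebra.adjoin_le_iff]
    rintro _ ⟨x, hx, rfl⟩
    exact hj x hx
  haveI : Algebra.IsIntegral Γ(V, ⊤) g.range := ⟨fun x => by
    have := (isIntegral_algHom_iff g.range.val Subtype.val_injective (x := x)).1 (hrange x.2)
    exact this⟩
  haveI hfin : IsFinite (E.map φ) := hf φ
  have hint₂ : ∀ y, (E.map φ).appTop.hom.IsIntegralElem y :=
    RingHom.Finite.to_isIntegral ((HasAffineProperty.iff_of_isAffine (P := @IsFinite)).1 hfin).2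
  have h2 : IsIntegral g.range y := by
    obtain ⟨r, hr, hr'⟩ := hint₂ y
    refine ⟨r.map g.rangeRestrict.toRingHom, hr.map _, ?_⟩
    rw [Polynomial.eval₂_map]
    exact hr'
  exact isIntegral_trans (R := Γ(V, ⊤)) (A := g.range) y h2

variable {S : Scheme.{u}} [QuasiSeparatedSpace S] {I : Type u} [SmallCategory I] [IsCofiltered I]
  {D : I ⥤ Sp S}

theorem exists_isAffineMor_of_limit (hD : ∀ i, IsAlgSpace (D.obj i)) {Y : Sp S} (hY : IsAlgSpace Y)
    (t : D ⟶ (Functor.const I).obj Y) (hDa : ∀ (i j : I) (φ : i ⟶ j), IsAffineMor (D.map φ))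
    (c : Cone D) (hc : IsLimit c) (g : c.pt ⟶ Y) (hg : ∀ i, c.π.app i ≫ t.app i = g)
    (hqc : ∀ i, IsQuasiCompactSp (D.obj i)) (hqs : ∀ i, IsQuasiSeparatedSp (D.obj i))
    (hYc : IsQuasiCompactSp Y) (hYs : IsQuasiSeparatedSp Y) (hX : IsAffineMor g) (i₀ : I) :
    ∃ (i₁ : I) (_ : i₁ ⟶ i₀), ∀ (i : I) (_ : i ⟶ i₁), IsAffineMor (t.app i) := by
  suffices ∃ (i₁ : I) (_ : i₁ ⟶ i₀), IsAffineMor (t.app i₁) by
    obtain ⟨i₁, ψ, h⟩ := this
    refine ⟨i₁, ψ, fun i φ => ?_⟩
    rw [← t_w t φ]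
    exact isAffineMor_iff_repWith.2 (repWith_comp (isAffineMor_iff_repWith.1 (hDa i i₁ φ))
      (isAffineMor_iff_repWith.1 h))
  obtain ⟨V, b, hV, hbe, hbs'⟩ := exists_affine_chart hYc
  haveI : IsAffine V.left := hV
  have := compactSpace_yon_of_affine V
  have hVs : IsQuasiSeparatedSp ((yon S).obj V) := isQuasiSeparatedSp_yon V
  have hbq : IsQuasiCompactMor b := isQuasiCompactMor_of_qc_qs (IsAlgSpace.yon_obj V) hY b
    ((isQuasiCompactSp_iff (IsAlgSpace.yon_obj V)).2 inferInstance) hYs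
  have hbs : IsQuasiSeparatedMor b := isQuasiSeparatedMor_of_sp b hVs
  obtain ⟨T, i, fst, sqT, hT⟩ := hX hV b
  haveI : IsAffine T.left := hT
  have halg : ∀ k : Over i₀, IsAlgSpace (pullback (t.app k.left) b) := fun k =>
    isAlgSpace_pullback hY (hD k.left) (IsAlgSpace.yon_obj V) (IsPullback.of_hasPullback (t.app k.left) b)
  obtain ⟨k, -, T', hT', ⟨e'⟩⟩ := exists_isAffine_of_limit (D := bcSys t b i₀) halg
    (fun _ _ φ => isAffineMor_bcMap hDa t b i₀ φ)
    (fun k => isQuasiSeparatedSp_of_mor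
      (isQuasiSeparatedMor_of_isPullback (IsPullback.of_hasPullback (t.app k.left) b).flip hbs) (hqs k.left))
    (bcCone c t b i₀ g hg) (bcIsLimit c t b i₀ g hg hc)
    (fun k => isQuasiCompactSp_of_mor (halg k) (hD k.left)
      (isQuasiCompactMor_of_isPullback (IsPullback.of_hasPullback (t.app k.left) b).flip hbq) (hqc k.left))
    T sqT.isoPullback (Over.mk (𝟙 i₀))
  refine ⟨k.left, k.hom, isAffineMor_of_etale_cover _ b hbe hbs' (IsPullback.of_hasPullback (t.app k.left) b) ?_⟩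
  haveI : IsAffine T'.left := hT'
  obtain ⟨r, hr⟩ := (yon S).map_surjective (e'.hom ≫ pullback.snd (t.app k.left) b)
  haveI : IsAffineHom r.left := isAffineHom_of_isAffine r.left
  refine isAffineMor_iff_repWith.2 ((repWith_respectsIso_left e'.hom).1 ?_)
  exact hr ▸ (repWith_yon_map_iff _ r).2 (inferInstance : IsAffineHom r.left)

theorem exists_isFiniteMor_of_limit (hD : ∀ i, IsAlgSpace (D.obj i)) {Y : Sp S} (hY : IsAlgSpace Y)
    (t : D ⟶ (Functor.const I).obj Y) (hDf : ∀ (i j : I) (φ : i ⟶ j), IsFiniteMor (D.map φ))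
    (c : Cone D) (hc : IsLimit c) (g : c.pt ⟶ Y) (hg : ∀ i, c.π.app i ≫ t.app i = g)
    (hqc : ∀ i, IsQuasiCompactSp (D.obj i)) (hqs : ∀ i, IsQuasiSeparatedSp (D.obj i))
    (hYc : IsQuasiCompactSp Y) (hYs : IsQuasiSeparatedSp Y)
    (hft : ∀ i, LocP @LocallyOfFiniteType (t.app i)) (hX : IsIntegralMor g) :
    ∃ i₁ : I, ∀ (i : I) (_ : i ⟶ i₁), IsFiniteMor (t.app i) := by
  suffices ∃ i₁ : I, IsFiniteMor (t.app i₁) by
    obtain ⟨i₁, h⟩ := this
    refine ⟨i₁, fun i φ => ?_⟩
    rw [← t_w t φ]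
    exact isFiniteMor_iff_repWith.2 (repWith_comp (isFiniteMor_iff_repWith.1 (hDf i i₁ φ))
      (isFiniteMor_iff_repWith.1 h))
  have hDr := fun i j φ => isFiniteMor_iff_repWith.1 (hDf i j φ)
  have hDa : ∀ (i j : I) (φ : i ⟶ j), IsAffineMor (D.map φ) := fun i j φ =>
    isAffineMor_iff_repWith.2 (repWith_mono (Q := @IsAffineHom) (fun _ _ e (_ : IsFinite e) => inferInstance) (hDr i j φ))
  have hga : IsAffineMor g := isAffineMor_iff_repWith.2
    (repWith_mono (Q := @IsAffineHom) (fun _ _ e (_ : IsIntegralHom e) => inferInstance) (isIntegralMor_iff_repWith.1 hX))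
  obtain ⟨i₀⟩ := IsCofiltered.nonempty (C := I)
  obtain ⟨k, -, hk⟩ := exists_isAffineMor_of_limit hD hY t hDa c hc g hg hqc hqs hYc hYs hga i₀
  have hrep := (isAffineMor_iff_repWith.1 (hk k (𝟙 k))).1
  obtain ⟨V, v, hV, hve, hvs⟩ := exists_affine_chart hYc
  haveI : IsAffine V.left := hV
  have sqP := hrep.isPullback v
  let q := hrep.fst v
  let h := hrep.snd v
  haveI : IsAffineHom h.left := (isAffineMor_iff_repWith.1 (hk k (𝟙 k))).2 v _ _ sqP
  haveI : IsAffine (hrep.pullback v).left := isAffine_of_isAffineHom h.left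
  haveI : LocallyOfFiniteType h.left :=
    prop_of_isChart (isRepChart_isChart ⟨q, v, sqP, hve, hvs⟩) (hft _)
  let E : Over k ⥤ Scheme.{u} := chartSys hDa q ⋙ Over.forget S
  haveI : ∀ l, IsAffine (E.obj l) := fun l => isAffine_chartSys hDa q l
  let tE : E ⟶ (Functor.const (Over k)).obj V.left :=
    chartT hDa q ≫ (Functor.const (Over k)).map h.left
  let o : Over k := Over.mk (𝟙 k)
  haveI : LocallyOfFiniteType (tE.app o) := by
    haveI : IsFinite ((chartSnd hDa q).app o).left := (hDr _ _ o.hom).2 q _ _ (chart_sq hDa q o)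
    show LocallyOfFiniteType (((chartSnd hDa q).app o).left ≫ h.left)
    infer_instance
  let cE := (Over.forget S).mapCone (chartCone hDa q c hc)
  haveI : IsIntegralHom (cE.π.app o ≫ tE.app o) := by
    have sqL : IsPullback (chartPtFst hDa q c hc) ((yon S).map (chartPtSnd hDa q c hc ≫ h)) g v := by
      rw [Functor.map_comp, ← hg k]
      exact (chartPt_sq hDa q c hc).paste_vert sqP
    have e : cE.π.app o ≫ tE.app o = (chartPtSnd hDa q c hc).left ≫ h.left :=
      (Category.assoc _ _ _).symm.trans (congrArg (· ≫ h.left) (chartCone_T hDa q c hc o))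
    rw [e]
    exact (isIntegralMor_iff_repWith.1 hX).2 v _ _ sqL
  obtain ⟨l, -, hl⟩ := exists_isFinite_of_isIntegral E tE cE (chartIsLimitScheme hDa q c hc) o
    fun {a b} φ => (hDr _ _ φ.left).2 _ _ _ (chartMap_sq hDa q φ).flip
  refine ⟨l.left, isFiniteMor_of_etale_cover _ v hve hvs (fst := (chartFst hDa q).app l)
    (snd := (yon S).map ((chartSnd hDa q).app l ≫ h)) ?_
    (isFiniteMor_iff_repWith.2 ((repWith_yon_map_iff _ _).2 hl))⟩
  rw [Functor.map_comp, ← t_w t l.hom]
  exact (chart_sq hDa q l).paste_vert sqP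

end Groth.Agent.LimSys14
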