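import Groth.Agent.Lib.AlgSpace.Affine
import Groth.Agent.Lib.AlgSpace.Space
import Mathlib.Algebra.Category.Ring.FilteredColimits
import Mathlib.CategoryTheory.Filtered.Final

/-!
# Systems of algebraic spaces with affine transition maps: charts

For a system `D` with affine transition maps and `q : yon W ⟶ D i₀`, the base changes
`V j = W ×_{D i₀} D j` form a system of schemes affine over `W`; its limit is `W ×_{D i₀} lim D`.
-/

set_option autoImplicit false
set_option backward.isDefEq.respectTransparency.types false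
set_option linter.style.haveILetI false

universe u v w

open CategoryTheory CategoryTheory.Limits AlgebraicGeometry Opposite

noncomputable section

namespace Groth.Agent.LimSys14

section CT

variable {C : Type v} [Category.{w} C] {J : Type u} [SmallCategory J] (o : J) (ho : ∀ j, Nonempty (j ⟶ o))
  {E D : J ⥤ C} (α : E ⟶ D) {Z W : C} (β : E ⟶ (Functor.const J).obj W)
  (γ : D ⟶ (Functor.const J).obj Z) {q : W ⟶ Z}

include ho in
theorem cone_const_eq (β : E ⟶ (Functor.const J).obj W) (s : Cone E) (j : J) :
    s.π.app j ≫ β.app j = s.π.app o ≫ β.app o := by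
  obtain ⟨f⟩ := ho j
  have h : E.map f ≫ β.app o = β.app j := (β.naturality f).trans (Category.comp_id _)
  rw [← h, ← Category.assoc, s.w]

include ho in
theorem isPullback_cone (sq : ∀ j, IsPullback (α.app j) (β.app j) (γ.app j) q)
    {cE : Cone E} (hE : IsLimit cE) {cD : Cone D} (hD : IsLimit cD) (fst : cE.pt ⟶ cD.pt)
    (hfst : ∀ j, fst ≫ cD.π.app j = cE.π.app j ≫ α.app j) :
    IsPullback fst (cE.π.app o ≫ β.app o) (cD.π.app o ≫ γ.app o) q := by
  have hw : fst ≫ cD.π.app o ≫ γ.app o = (cE.π.app o ≫ β.app o) ≫ q := by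
    rw [reassoc_of% (hfst o), (sq o).w, Category.assoc]
  refine IsPullback.of_isLimit' ⟨hw⟩ (PullbackCone.IsLimit.mk _ (fun s => hE.lift
    { pt := s.pt
      π :=
        { app := fun j => (sq j).lift (s.fst ≫ cD.π.app j) s.snd (by
            rw [Category.assoc, cone_const_eq o ho γ cD j]; exact s.condition)
          naturality := fun j k f => by
            dsimp only [Functor.const_obj_map, Functor.const_obj_obj]
            rw [Category.id_comp]
            apply (sq k).hom_ext
            · rw [(sq k).lift_fst, Category.assoc, α.naturality, (sq j).lift_fst_assoc,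
                Category.assoc, cD.w]
            · have h : E.map f ≫ β.app k = β.app j := (β.naturality f).trans (Category.comp_id _)
              rw [(sq k).lift_snd, Category.assoc, h, (sq j).lift_snd] } })
    (fun s => hD.hom_ext fun j => ?_) (fun s => ?_) (fun s m h₁ h₂ => hE.hom_ext fun j => ?_))
  · rw [Category.assoc, hfst, hE.fac_assoc]; exact (sq j).lift_fst _ _ _
  · rw [hE.fac_assoc]; exact (sq o).lift_snd _ _ _
  · rw [hE.fac]
    apply (sq j).hom_ext
    · rw [(sq j).lift_fst, Category.assoc, ← hfst, reassoc_of% h₁]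
    · rw [(sq j).lift_snd, Category.assoc, cone_const_eq o ho β cE j, h₂]

/-- A cone over the base changed system with cartesian vertex is a limit cone. -/
def isLimitOfIsPullback (sq : ∀ j, IsPullback (α.app j) (β.app j) (γ.app j) q)
    {cE : Cone E} {cD : Cone D} (hD : IsLimit cD) (fst : cE.pt ⟶ cD.pt)
    (hfst : ∀ j, fst ≫ cD.π.app j = cE.π.app j ≫ α.app j)
    (ho : ∀ j, Nonempty (j ⟶ o))
    (sqL : IsPullback fst (cE.π.app o ≫ β.app o) (cD.π.app o ≫ γ.app o) q) : IsLimit cE where
  lift s := sqL.lift (hD.lift ((Cone.postcompose α).obj s)) (s.π.app o ≫ β.app o) (by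
    rw [← Category.assoc, hD.fac]
    show (s.π.app o ≫ α.app o) ≫ γ.app o = (s.π.app o ≫ β.app o) ≫ q
    rw [Category.assoc, Category.assoc, (sq o).w])
  fac s j := by
    apply (sq j).hom_ext
    · rw [Category.assoc, ← hfst, sqL.lift_fst_assoc, hD.fac]
      rfl
    · rw [Category.assoc, cone_const_eq o ho β cE j, sqL.lift_snd, cone_const_eq o ho β s j]
  uniq s m hm := by
    apply sqL.hom_ext
    · rw [sqL.lift_fst]
      refine hD.hom_ext fun j => ?_
      rw [hD.fac, Category.assoc, hfst, reassoc_of% (hm j)]
      rfl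
    · rw [sqL.lift_snd, reassoc_of% (hm o)]

end CT

open AlgSp Groth.Agent.AlgSpace

variable {S : Scheme.{u}} {I : Type u} [SmallCategory I] {D : I ⥤ Sp S}
  (hDa : ∀ (i j : I) (φ : i ⟶ j), IsAffineMor (D.map φ)) {i₀ : I} {W : Over S}
  (q : (yon S).obj W ⟶ D.obj i₀)

include hDa in
theorem rep_map (j : Over i₀) : RepWith @IsAffineHom (D.map j.hom) :=
  isAffineMor_iff_repWith.1 (hDa _ _ j.hom)

/-- The transition maps between the base changes. -/
def chartMapHom {j k : Over i₀} (φ : j ⟶ k) :
    (rep_map hDa j).1.pullback q ⟶ (rep_map hDa k).1.pullback q :=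
  (yon S).preimage (((rep_map hDa k).1.isPullback q).lift ((rep_map hDa j).1.fst q ≫ D.map φ.left)
    ((yon S).map ((rep_map hDa j).1.snd q)) (by
      rw [Category.assoc, ← D.map_comp, Over.w φ, ((rep_map hDa j).1.isPullback q).w]))

theorem chartMapHom_fst {j k : Over i₀} (φ : j ⟶ k) :
    (yon S).map (chartMapHom hDa q φ) ≫ (rep_map hDa k).1.fst q =
      (rep_map hDa j).1.fst q ≫ D.map φ.left := by
  rw [chartMapHom, Functor.map_preimage]; exact IsPullback.lift_fst _ _ _ _

theorem chartMapHom_snd {j k : Over i₀} (φ : j ⟶ k) :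
    chartMapHom hDa q φ ≫ (rep_map hDa k).1.snd q = (rep_map hDa j).1.snd q := by
  apply (yon S).map_injective
  rw [Functor.map_comp, chartMapHom, Functor.map_preimage]; exact IsPullback.lift_snd _ _ _ _

/-- The base changes of `q` along the system above `i₀`. -/
def chartSys : Over i₀ ⥤ Over S where
  obj j := (rep_map hDa j).1.pullback q
  map φ := chartMapHom hDa q φ
  map_id j := (yon S).map_injective (((rep_map hDa j).1.isPullback q).hom_ext
    (by rw [chartMapHom_fst]; simp) (by rw [← Functor.map_comp, chartMapHom_snd]; simp))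
  map_comp {j k l} φ ψ := (yon S).map_injective (((rep_map hDa l).1.isPullback q).hom_ext
    (by rw [chartMapHom_fst, Functor.map_comp, Category.assoc, chartMapHom_fst, ← Category.assoc,
      chartMapHom_fst, Over.comp_left, D.map_comp, Category.assoc])
    (by rw [← Functor.map_comp, ← Functor.map_comp, chartMapHom_snd, Category.assoc, chartMapHom_snd,
      chartMapHom_snd]))

/-- The projection to the system. -/
def chartFst : chartSys hDa q ⋙ yon S ⟶ Over.forget i₀ ⋙ D where
  app j := (rep_map hDa j).1.fst q
  naturality _ _ φ := chartMapHom_fst hDa q φ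

/-- The projection to the chart. -/
def chartSnd : chartSys hDa q ⟶ (Functor.const (Over i₀)).obj W where
  app j := (rep_map hDa j).1.snd q
  naturality _ _ φ := (chartMapHom_snd hDa q φ).trans (Category.comp_id _).symm

/-- The projection to the chart, in sheaves. -/
def chartSndY : chartSys hDa q ⋙ yon S ⟶ (Functor.const (Over i₀)).obj ((yon S).obj W) where
  app j := (yon S).map ((chartSnd hDa q).app j)
  naturality j k φ := by
    show (yon S).map ((chartSys hDa q).map φ) ≫ (yon S).map ((chartSnd hDa q).app k) = _ ≫ 𝟙 _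
    rw [Category.comp_id, ← Functor.map_comp, (chartSnd hDa q).naturality φ]
    exact congrArg (yon S).map (Category.comp_id _)

/-- The structure maps of the system above `i₀`. -/
def overSp (i₀ : I) : Over.forget i₀ ⋙ D ⟶ (Functor.const (Over i₀)).obj (D.obj i₀) where
  app k := D.map k.hom
  naturality k l a := by simp [← D.map_comp]

theorem chart_sq (j : Over i₀) :
    IsPullback ((chartFst hDa q).app j) ((yon S).map ((chartSnd hDa q).app j)) (D.map j.hom) q :=
  (rep_map hDa j).1.isPullback q

theorem isAffineHom_chartSnd (j : Over i₀) : IsAffineHom ((chartSnd hDa q).app j).left :=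
  (rep_map hDa j).2 _ _ _ (chart_sq hDa q j)

theorem isAffine_chartSys [IsAffine W.left] (j : Over i₀) : IsAffine ((chartSys hDa q).obj j).left := by
  have := isAffineHom_chartSnd hDa q j
  haveI : IsAffine (((Functor.const (Over i₀)).obj W).obj j).left := ‹IsAffine W.left›
  exact isAffine_of_isAffineHom ((chartSnd hDa q).app j).left

theorem isAffineHom_chartMap {j k : Over i₀} (φ : j ⟶ k) : IsAffineHom ((chartSys hDa q).map φ).left := by
  have h := congrArg (fun t => t.left) (chartMapHom_snd hDa q φ)
  have := isAffineHom_chartSnd hDa q j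
  have := isAffineHom_chartSnd hDa q k
  have : IsAffineHom (((chartSys hDa q).map φ).left ≫ ((chartSnd hDa q).app k).left) := by
    rw [Over.comp_left] at h
    exact h.symm ▸ (isAffineHom_chartSnd hDa q j : _)
  exact IsAffineHom.of_comp _ ((chartSnd hDa q).app k).left

variable [IsCofiltered I] (c : Cone D)

/-- The cone of the system above `i₀`. -/
abbrev restrictCone (i₀ : I) : Cone (Over.forget i₀ ⋙ D) := c.whisker (Over.forget i₀)

/-- The restricted cone is a limit. -/
def restrictIsLimit (hc : IsLimit c) (i₀ : I) : IsLimit (restrictCone c i₀) :=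
  (Functor.Initial.isLimitWhiskerEquiv (Over.forget i₀) c).symm hc

theorem hom_terminal (i₀ : I) (j : Over i₀) : Nonempty (j ⟶ Over.mk (𝟙 i₀)) :=
  ⟨Over.homMk j.hom (Category.comp_id _)⟩

/-- A limit cone of the charts gives a cartesian square over the limit. -/
theorem isPullback_chartLimit (hc : IsLimit c) {e : Cone (chartSys hDa q)} (he : IsLimit e) :
    IsPullback ((restrictIsLimit c hc i₀).lift ((Cone.postcompose (chartFst hDa q)).obj ((yon S).mapCone e)))
      ((yon S).map (e.π.app (Over.mk (𝟙 i₀)) ≫ (chartSnd hDa q).app (Over.mk (𝟙 i₀))))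
      (c.π.app i₀) q := by
  have h := isPullback_cone (Over.mk (𝟙 i₀)) (hom_terminal i₀) (chartFst hDa q) (chartSndY hDa q)
    (overSp i₀) (q := q) (fun j => chart_sq hDa q j) (isLimitOfPreserves (yon S) he)
    (restrictIsLimit c hc i₀)
    ((restrictIsLimit c hc i₀).lift ((Cone.postcompose (chartFst hDa q)).obj ((yon S).mapCone e)))
    (fun j => (restrictIsLimit c hc i₀).fac _ j)
  simpa [chartSndY, overSp] using h

include hDa in
/-- The projections of a limit with affine transition maps are affine. -/
theorem isAffineMor_π (hc : IsLimit c) (i₀ : I) : IsAffineMor (c.π.app i₀) := by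
  intro W hW q
  haveI := fun j => isAffine_chartSys hDa q j
  let R : (Over i₀)ᵒᵖ ⥤ CommRingCat.{u} := (chartSys hDa q ⋙ Over.forget S).op ⋙ Scheme.Γ
  let π : ∀ j : Over i₀, Spec (colimit R) ⟶ ((chartSys hDa q).obj j).left := fun j =>
    Spec.map (colimit.ι R (op j)) ≫ ((chartSys hDa q).obj j).left.isoSpec.inv
  have hπ : ∀ {j k : Over i₀} (φ : j ⟶ k), π j ≫ ((chartSys hDa q).map φ).left = π k := fun {j k} φ => by
    simp only [π, Category.assoc]
    erw [← Scheme.isoSpec_inv_naturality ((chartSys hDa q).map φ).left, ← Spec.map_comp_assoc]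
    congr 2
    exact colimit.w R φ.op
  let cS : Cone (chartSys hDa q ⋙ Over.forget S) :=
    { pt := Spec (colimit R)
      π := { app := π, naturality := fun j k φ => (Category.id_comp _).trans (hπ φ).symm } }
  have hcS : IsLimit cS := by
    let iso : (R.op ⋙ Scheme.Spec) ≅ (opOpEquivalence (Over i₀)).functor ⋙ chartSys hDa q ⋙ Over.forget S :=
      NatIso.ofComponents (fun j => ((chartSys hDa q).obj j.unop.unop).left.isoSpec.symm) (fun {j k} φ =>
        Scheme.isoSpec_inv_naturality ((chartSys hDa q).map φ.unop.unop).left)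
    have h₁ := (IsLimit.postcomposeHomEquiv iso _).symm
      (isLimitOfPreserves Scheme.Spec (colimit.isColimit R).op)
    exact IsLimit.ofWhiskerEquivalence (opOpEquivalence (Over i₀))
      (IsLimit.ofIsoLimit h₁ (Cone.ext (Iso.refl _) (fun j => (Category.id_comp _).symm)))
  let e : Cone (chartSys hDa q) :=
    { pt := Over.mk (π (Over.mk (𝟙 i₀)) ≫ ((chartSys hDa q).obj (Over.mk (𝟙 i₀))).hom)
      π :=
        { app := fun j => Over.homMk (π j) (by
            obtain ⟨φ⟩ := hom_terminal i₀ j
            show π j ≫ ((chartSys hDa q).obj j).hom =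
              π (Over.mk (𝟙 i₀)) ≫ ((chartSys hDa q).obj (Over.mk (𝟙 i₀))).hom
            exact ((Category.assoc _ _ _).trans (congrArg (π j ≫ ·) (Over.w ((chartSys hDa q).map φ)))).symm.trans
              (congrArg (· ≫ _) (hπ φ)))
          naturality := fun j k φ => Over.OverMorphism.ext
            ((Category.id_comp _).trans (hπ φ).symm) } }
  have hconn : IsConnected (Over i₀) := IsCofiltered.isConnected _
  have he : IsLimit e :=
    isLimitOfReflects (Over.forget S) (IsLimit.ofIsoLimit hcS (Cone.ext (Iso.refl _) (fun j =>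
      (Category.id_comp _).symm)))
  exact ⟨_, _, _, isPullback_chartLimit hDa q c hc he, inferInstanceAs (IsAffine (Spec _))⟩

include hDa in
theorem isAlgSpace_pt (hD : ∀ i, IsAlgSpace (D.obj i)) (hc : IsLimit c) : IsAlgSpace c.pt := by
  obtain ⟨i₀⟩ := IsCofiltered.nonempty (C := I)
  exact isAlgSpace_of_representable (isAffineMor_iff_repWith.1 (isAffineMor_π hDa c hc i₀)).1 (hD i₀)

variable (hc : IsLimit c)

/-- The limit of the charts. -/
def chartPt : Over S := (isAffineMor_iff_repWith.1 (isAffineMor_π hDa c hc i₀)).1.pullback q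

/-- Its map to the limit. -/
def chartPtFst : (yon S).obj (chartPt hDa q c hc) ⟶ c.pt :=
  (isAffineMor_iff_repWith.1 (isAffineMor_π hDa c hc i₀)).1.fst q

/-- Its map to the chart. -/
def chartPtSnd : chartPt hDa q c hc ⟶ W :=
  (isAffineMor_iff_repWith.1 (isAffineMor_π hDa c hc i₀)).1.snd q

theorem chartPt_sq :
    IsPullback (chartPtFst hDa q c hc) ((yon S).map (chartPtSnd hDa q c hc)) (c.π.app i₀) q :=
  (isAffineMor_iff_repWith.1 (isAffineMor_π hDa c hc i₀)).1.isPullback q

/-- The projections from the limit of the charts. -/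
def chartPi (j : Over i₀) : chartPt hDa q c hc ⟶ (chartSys hDa q).obj j :=
  (yon S).preimage ((chart_sq hDa q j).lift
    (chartPtFst hDa q c hc ≫ c.π.app j.left) ((yon S).map (chartPtSnd hDa q c hc))
    ((Category.assoc _ _ _).trans ((congrArg (chartPtFst hDa q c hc ≫ ·) (c.w j.hom)).trans
      (chartPt_sq hDa q c hc).w)))

theorem chartPi_fst (j : Over i₀) :
    (yon S).map (chartPi hDa q c hc j) ≫ (chartFst hDa q).app j =
      chartPtFst hDa q c hc ≫ c.π.app j.left := by
  rw [chartPi, Functor.map_preimage]; exact IsPullback.lift_fst _ _ _ _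

theorem chartPi_snd (j : Over i₀) :
    (yon S).map (chartPi hDa q c hc j) ≫ (yon S).map ((chartSnd hDa q).app j) =
      (yon S).map (chartPtSnd hDa q c hc) := by
  rw [chartPi, Functor.map_preimage]; exact IsPullback.lift_snd _ _ _ _

theorem chartPi_w {j k : Over i₀} (φ : j ⟶ k) :
    chartPi hDa q c hc j ≫ (chartSys hDa q).map φ = chartPi hDa q c hc k := by
  apply (yon S).map_injective
  apply (chart_sq hDa q k).hom_ext
  · refine Eq.trans ?_ (chartPi_fst hDa q c hc k).symm
    rw [Functor.map_comp, Category.assoc]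
    exact (congrArg (_ ≫ ·) (chartMapHom_fst hDa q φ)).trans ((Category.assoc _ _ _).symm.trans
      ((congrArg (· ≫ _) (chartPi_fst hDa q c hc j)).trans ((Category.assoc _ _ _).trans
      (congrArg (_ ≫ ·) (c.w φ.left)))))
  · refine Eq.trans ?_ (chartPi_snd hDa q c hc k).symm
    rw [Functor.map_comp, Category.assoc]
    exact (congrArg (_ ≫ ·) (((yon S).map_comp _ _).symm.trans (congrArg (yon S).map
      (chartMapHom_snd hDa q φ)))).trans (chartPi_snd hDa q c hc j)

/-- The cone of the charts. -/
def chartCone : Cone (chartSys hDa q) where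
  pt := chartPt hDa q c hc
  π :=
    { app := chartPi hDa q c hc
      naturality := fun j k φ => (Category.id_comp _).trans (chartPi_w hDa q c hc φ).symm }

theorem chartCone_fst (j : Over i₀) :
    (yon S).map ((chartCone hDa q c hc).π.app j) ≫ (chartFst hDa q).app j =
      chartPtFst hDa q c hc ≫ c.π.app j.left :=
  chartPi_fst hDa q c hc j

theorem chartCone_snd (j : Over i₀) :
    (chartCone hDa q c hc).π.app j ≫ (chartSnd hDa q).app j = chartPtSnd hDa q c hc :=
  (yon S).map_injective (((yon S).map_comp _ _).trans (chartPi_snd hDa q c hc j))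

/-- The cone of the charts is a limit. -/
def chartIsLimit : IsLimit (chartCone hDa q c hc) :=
  isLimitOfReflects (yon S) (isLimitOfIsPullback (Over.mk (𝟙 i₀)) (chartFst hDa q) (chartSndY hDa q)
    (overSp i₀) (q := q) (fun j => chart_sq hDa q j) (restrictIsLimit c hc i₀)
    (chartPtFst hDa q c hc) (fun j => (chartCone_fst hDa q c hc j).symm) (hom_terminal i₀) (by
      have h := chartPt_sq hDa q c hc
      have e1 : ((yon S).mapCone (chartCone hDa q c hc)).π.app (Over.mk (𝟙 i₀)) ≫
          (chartSndY hDa q).app (Over.mk (𝟙 i₀)) = (yon S).map (chartPtSnd hDa q c hc) :=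
        ((yon S).map_comp _ _).symm.trans (congrArg (yon S).map (chartCone_snd hDa q c hc _))
      have e2 : (restrictCone c i₀).π.app (Over.mk (𝟙 i₀)) ≫ (overSp i₀).app (Over.mk (𝟙 i₀)) =
          c.π.app i₀ := c.w (𝟙 i₀)
      rw [e1, e2]
      exact h))

/-- A cone of schemes over the charts is a cone over `S`. -/
def liftConeS (s : Cone (chartSys hDa q ⋙ Over.forget S)) : Cone (chartSys hDa q) where
  pt := Over.mk (s.π.app (Over.mk (𝟙 i₀)) ≫ ((chartSys hDa q).obj (Over.mk (𝟙 i₀))).hom)
  π :=
    { app := fun j => Over.homMk (s.π.app j) (by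
        obtain ⟨φ⟩ := hom_terminal i₀ j
        show s.π.app j ≫ ((chartSys hDa q).obj j).hom =
          s.π.app (Over.mk (𝟙 i₀)) ≫ ((chartSys hDa q).obj (Over.mk (𝟙 i₀))).hom
        exact ((congrArg (· ≫ _) (s.w φ).symm).trans ((Category.assoc _ _ _).trans
          (congrArg (s.π.app j ≫ ·) (Over.w ((chartSys hDa q).map φ))))).symm)
      naturality := fun _ _ φ => Over.OverMorphism.ext (s.π.naturality φ) }

/-- The cone of the charts is a limit of schemes. -/
def chartIsLimitScheme : IsLimit ((Over.forget S).mapCone (chartCone hDa q c hc)) where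
  lift s := ((chartIsLimit hDa q c hc).lift (liftConeS hDa q s)).left
  fac s j := congrArg Over.Hom.left ((chartIsLimit hDa q c hc).fac (liftConeS hDa q s) j)
  uniq s m hm := by
    have h : m ≫ (chartCone hDa q c hc).pt.hom = (liftConeS hDa q s).pt.hom := by
      show _ = s.π.app (Over.mk (𝟙 i₀)) ≫ ((chartSys hDa q).obj (Over.mk (𝟙 i₀))).hom
      rw [← hm (Over.mk (𝟙 i₀))]
      exact ((Category.assoc _ _ _).trans (congrArg (m ≫ ·)
        (Over.w ((chartCone hDa q c hc).π.app (Over.mk (𝟙 i₀)))))).symm
    exact congrArg Over.Hom.left ((chartIsLimit hDa q c hc).hom_ext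
      (f := (Over.homMk m h : (liftConeS hDa q s).pt ⟶ (chartCone hDa q c hc).pt)) fun j => by
        rw [IsLimit.fac]
        exact Over.OverMorphism.ext (hm j))

/-- The structure maps of the charts as schemes over `W`. -/
def chartT : chartSys hDa q ⋙ Over.forget S ⟶ (Functor.const (Over i₀)).obj W.left where
  app j := ((chartSnd hDa q).app j).left
  naturality j k φ := by
    show ((chartSys hDa q).map φ).left ≫ ((chartSnd hDa q).app k).left = _ ≫ 𝟙 _
    rw [Category.comp_id, ← Over.comp_left, (chartSnd hDa q).naturality φ]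
    exact congrArg Over.Hom.left (Category.comp_id _)

instance isAffineHom_chartT (j : Over i₀) : IsAffineHom ((chartT hDa q).app j) :=
  isAffineHom_chartSnd hDa q j

theorem chartCone_T (j : Over i₀) :
    ((Over.forget S).mapCone (chartCone hDa q c hc)).π.app j ≫ (chartT hDa q).app j =
      (chartPtSnd hDa q c hc).left :=
  congrArg (fun t => t.left) (chartCone_snd hDa q c hc j)

end Groth.Agent.LimSys14
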