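import Groth.Agent.Lib.LimSys14.ClosedTo
import Groth.Agent.Lib.SpQuot16.Yon

/-!
# The limit of closed immersions is a closed immersion
-/

set_option autoImplicit false
set_option backward.isDefEq.respectTransparency.types false
set_option backward.isDefEq.respectTransparency false
set_option linter.style.haveILetI false

universe u

open CategoryTheory CategoryTheory.Limits AlgebraicGeometry Opposite

noncomputable section

namespace Groth.Agent.LimSys14

open AlgSp Groth.Agent.AlgSpace FlatH4 Groth.Agent.AlgSpDecent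

variable {S : Scheme.{u}} {I : Type u} [SmallCategory I] {DX DY : I ⥤ Sp S} (τ : DX ⟶ DY)
  (hτ : ∀ i, RepWith @IsClosedImmersion (τ.app i)) (cY : Cone DY) {T : Over S} (v : (yon S).obj T ⟶ cY.pt)

/-- The closed subscheme of the test scheme cut out by all the stages. -/
def interIdeal : T.left.IdealSheafData :=
  ⨆ i, ((hτ i).1.snd (v ≫ cY.π.app i)).left.ker

def interObj : Over S := Over.mk ((interIdeal τ hτ cY v).subschemeι ≫ T.hom)

def interHom : interObj τ hτ cY v ⟶ T := Over.homMk (interIdeal τ hτ cY v).subschemeι rfl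

theorem isClosedImmersion_snd (i : I) : IsClosedImmersion ((hτ i).1.snd (v ≫ cY.π.app i)).left :=
  (hτ i).2 _ _ _ ((hτ i).1.isPullback _)

theorem exists_factor_of_le {W : Over S} (w : W ⟶ T)
    (h : ∀ i, ((hτ i).1.snd (v ≫ cY.π.app i)).left.ker ≤ w.left.ker) :
    ∃ z : W ⟶ interObj τ hτ cY v, z ≫ interHom τ hτ cY v = w := by
  have hle : (interIdeal τ hτ cY v).subschemeι.ker ≤ w.left.ker :=
    ((interIdeal τ hτ cY v).ker_subschemeι.trans_le (iSup_le h))
  refine ⟨Over.homMk (IsClosedImmersion.lift (interIdeal τ hτ cY v).subschemeι w.left hle) ?_, ?_⟩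
  · rw [← Over.w w]
    show _ ≫ (interIdeal τ hτ cY v).subschemeι ≫ T.hom = _
    rw [← Category.assoc, IsClosedImmersion.lift_fac]
  · ext1
    exact IsClosedImmersion.lift_fac _ _ _

theorem exists_stage_factor (i : I) :
    ∃ z : interObj τ hτ cY v ⟶ (hτ i).1.pullback (v ≫ cY.π.app i),
      z ≫ (hτ i).1.snd (v ≫ cY.π.app i) = interHom τ hτ cY v := by
  haveI := isClosedImmersion_snd τ hτ cY v i
  have hle : ((hτ i).1.snd (v ≫ cY.π.app i)).left.ker ≤ (interHom τ hτ cY v).left.ker :=
    ((le_iSup (fun i => ((hτ i).1.snd (v ≫ cY.π.app i)).left.ker) i).trans_eq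
      (interIdeal τ hτ cY v).ker_subschemeι.symm)
  refine ⟨Over.homMk (IsClosedImmersion.lift ((hτ i).1.snd (v ≫ cY.π.app i)).left
    (interHom τ hτ cY v).left hle) ?_, ?_⟩
  · rw [← Over.w ((hτ i).1.snd (v ≫ cY.π.app i)), ← Category.assoc, IsClosedImmersion.lift_fac]
    exact Over.w _
  · ext1
    exact IsClosedImmersion.lift_fac _ _ _

/-- The component at a stage. -/
def interPi (i : I) : (yon S).obj (interObj τ hτ cY v) ⟶ DX.obj i :=
  (yon S).map (exists_stage_factor τ hτ cY v i).choose ≫ (hτ i).1.fst (v ≫ cY.π.app i)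

theorem interPi_τ (i : I) :
    interPi τ hτ cY v i ≫ τ.app i = (yon S).map (interHom τ hτ cY v) ≫ v ≫ cY.π.app i := by
  rw [interPi, Category.assoc, (hτ i).1.w, ← Functor.map_comp_assoc,
    (exists_stage_factor τ hτ cY v i).choose_spec]

theorem interPi_w {i j : I} (φ : i ⟶ j) :
    interPi τ hτ cY v i ≫ DX.map φ = interPi τ hτ cY v j := by
  haveI : Mono (τ.app j) := mono_of_repWith _
    (repWith_mono (fun _ _ u (_ : IsClosedImmersion u) => (inferInstance : Mono u)) (hτ j))
  rw [← cancel_mono (τ.app j), Category.assoc, τ.naturality, reassoc_of% (interPi_τ τ hτ cY v i),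
    interPi_τ, cY.w]

/-- The cone of the closed subscheme. -/
def interCone : Cone DX where
  pt := (yon S).obj (interObj τ hτ cY v)
  π :=
    { app := interPi τ hτ cY v
      naturality := fun _ _ φ => (Category.id_comp _).trans (interPi_w τ hτ cY v φ).symm }

variable {cX : Cone DX} (hcX : IsLimit cX) (hcY : IsLimit cY) (g : cX.pt ⟶ cY.pt)
  (hg : ∀ i, g ≫ cY.π.app i = cX.π.app i ≫ τ.app i)

include hτ hcX hg in
theorem mono_limMap : Mono g := ⟨fun a b h => hcX.hom_ext fun i => by
  haveI : Mono (τ.app i) := mono_of_repWith _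
    (repWith_mono (fun _ _ u (_ : IsClosedImmersion u) => (inferInstance : Mono u)) (hτ i))
  rw [← cancel_mono (τ.app i), Category.assoc, Category.assoc, ← hg, reassoc_of% h]⟩

include hcY hg in
theorem interLift_comp :
    hcX.lift (interCone τ hτ cY v) ≫ g = (yon S).map (interHom τ hτ cY v) ≫ v :=
  hcY.hom_ext fun i => by
    rw [Category.assoc, Category.assoc, hg, ← Category.assoc, hcX.fac]
    exact interPi_τ τ hτ cY v i

include hcY hg in
theorem inter_sq :
    IsPullback (hcX.lift (interCone τ hτ cY v)) ((yon S).map (interHom τ hτ cY v)) g v := by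
  haveI : Mono g := mono_limMap τ hτ cY hcX g hg
  haveI : IsClosedImmersion (interHom τ hτ cY v).left :=
    (inferInstance : IsClosedImmersion (interIdeal τ hτ cY v).subschemeι)
  haveI : Mono (interHom τ hτ cY v) := (Over.forget S).mono_of_mono_map
    (inferInstance : Mono (interHom τ hτ cY v).left)
  refine SpQuot16.isPullback_of_yon (interLift_comp τ hτ cY v hcX hcY g hg) fun W a b hab => ?_
  obtain ⟨w, rfl⟩ := (yon S).map_surjective b
  obtain ⟨z, hz⟩ := exists_factor_of_le τ hτ cY v w fun i => by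
    have h1 : (a ≫ cX.π.app i) ≫ τ.app i = (yon S).map w ≫ v ≫ cY.π.app i := by
      rw [Category.assoc, ← hg, ← Category.assoc, hab, Category.assoc]
    have h2 : ((hτ i).1.lift _ _ h1) ≫ (hτ i).1.snd (v ≫ cY.π.app i) = w :=
      (hτ i).1.lift_snd _ _ h1
    rw [← h2, Over.comp_left]
    exact Scheme.Hom.le_ker_comp _ _
  refine ⟨(yon S).map z, ⟨?_, by rw [← Functor.map_comp, hz]⟩, fun z' ⟨_, hz'⟩ => ?_⟩
  · rw [← cancel_mono g, Category.assoc, interLift_comp τ hτ cY v hcX hcY g hg,
      ← Functor.map_comp_assoc, hz, hab]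
  · haveI : Mono ((yon S).map (interHom τ hτ cY v)) := inferInstance
    rw [← cancel_mono ((yon S).map (interHom τ hτ cY v)), hz', ← Functor.map_comp, hz]

omit v T in
include hτ hcX hcY hg in
theorem closedImmersion_limMap : RepWith @IsClosedImmersion g := by
  have hrep : Representable g := fun {T} v =>
    ⟨_, _, _, inter_sq τ hτ cY v hcX hcY g hg⟩
  refine ⟨hrep, fun {T P} v fst w sq => ?_⟩
  have sq' := inter_sq τ hτ cY v hcX hcY g hg
  let e := sq.isoIsPullback _ _ sq'
  have he : w = ((yon S).preimageIso e).hom ≫ interHom τ hτ cY v := (yon S).map_injective (by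
    rw [Functor.map_comp, Functor.preimageIso_hom, Functor.map_preimage]
    exact (sq.isoIsPullback_hom_snd _ _ sq').symm)
  show IsClosedImmersion w.left
  rw [he, Over.comp_left]
  haveI : IsClosedImmersion (interHom τ hτ cY v).left :=
    (inferInstance : IsClosedImmersion (interIdeal τ hτ cY v).subschemeι)
  haveI : IsIso ((yon S).preimageIso e).hom.left := inferInstance
  infer_instance

end Groth.Agent.LimSys14
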