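import Groth.Agent.Lib.LimSys14.Separated
import Groth.Agent.Lib.SchBasic.Basic
import Mathlib.AlgebraicGeometry.AffineTransitionLimit

/-!
# Systems with closed immersions as transition maps
-/

set_option autoImplicit false
set_option backward.isDefEq.respectTransparency.types false
set_option backward.isDefEq.respectTransparency false
set_option linter.style.haveILetI false

universe u

open CategoryTheory CategoryTheory.Limits AlgebraicGeometry Opposite

noncomputable section

namespace Groth.Agent.LimSys14

/-- If the limit of a system of closed subschemes is of finite presentation in one of them, the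
system is eventually constant. -/
theorem exists_isIso_of_lfp {J : Type u} [SmallCategory J] [IsCofiltered J] {E : J ⥤ Scheme.{u}}
    {e : Cone E} (he : IsLimit e) [∀ {i j : J} (a : i ⟶ j), IsClosedImmersion (E.map a)]
    [∀ i, CompactSpace (E.obj i)] [∀ i, QuasiSeparatedSpace (E.obj i)] (o : J)
    (toO : ∀ i, i ⟶ o) (htoO : ∀ {i j : J} (a : i ⟶ j), a ≫ toO j = toO i)
    [LocallyOfFinitePresentation (e.π.app o)] : ∃ i, IsIso (e.π.app i) := by
  haveI : ∀ {i j : J} (a : i ⟶ j), IsAffineHom (E.map a) := fun a => inferInstance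
  let t : E ⟶ (Functor.const J).obj (E.obj o) :=
    { app := fun i => E.map (toO i)
      naturality := fun i j a => by
        exact (E.map_comp _ _).symm.trans ((congrArg E.map (htoO a)).trans (Category.comp_id _).symm) }
  obtain ⟨i, g, hg, hg'⟩ := Scheme.exists_π_app_comp_eq_of_locallyOfFinitePresentation
    E t (e.π.app o) e he (𝟙 e.pt) (by
      ext i
      exact (e.w (toO i)).trans (Category.id_comp _).symm)
  haveI : Mono (E.map (toO i)) := inferInstance
  refine ⟨i, ⟨⟨g, hg, ?_⟩⟩⟩
  rw [← cancel_mono (E.map (toO i)), Category.assoc, e.w, Category.id_comp]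
  exact hg'

open AlgSp Groth.Agent.AlgSpace

variable {S : Scheme.{u}} {I : Type u} [SmallCategory I] [IsCofiltered I]
  {D : I ⥤ Sp S} (hD : ∀ i, IsAlgSpace (D.obj i))

omit [IsCofiltered I] in
theorem isAffineMor_of_closedImmersion {A B : Sp S} {f : A ⟶ B} (hf : RepWith @IsClosedImmersion f) :
    IsAffineMor f :=
  isAffineMor_iff_repWith.2 (repWith_mono isClosedImmersion_le_isAffineHom hf)

include hD in
/-- A system of closed subspaces whose limit is of finite presentation is eventually constant. -/
theorem exists_isIso_π (hDc : ∀ (i j : I) (φ : i ⟶ j), RepWith @IsClosedImmersion (D.map φ))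
    (c : Cone D) (hc : IsLimit c) (hqc : ∀ i, IsQuasiCompactSp (D.obj i)) (i₀ : I)
    (hlfp : LocP @LocallyOfFinitePresentation (c.π.app i₀)) :
    ∃ i₁ : I, ∀ (i : I) (_ : i ⟶ i₁), IsIso (c.π.app i) := by
  have hDa : ∀ (i j : I) (φ : i ⟶ j), IsAffineMor (D.map φ) :=
    fun i j φ => isAffineMor_of_closedImmersion (hDc i j φ)
  suffices ∃ i₁, IsIso (c.π.app i₁) by
    obtain ⟨i₁, h⟩ := this
    refine ⟨i₁, fun i φ => ?_⟩
    have hm : Mono (D.map φ) := mono_of_repWith _
      (repWith_mono (fun _ _ g (_ : IsClosedImmersion g) => (inferInstance : Mono g)) (hDc _ _ φ))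
    have : IsIso (c.π.app i ≫ D.map φ) := by rw [c.w]; exact h
    refine ⟨⟨D.map φ ≫ inv (c.π.app i ≫ D.map φ), ?_, ?_⟩⟩
    · rw [← Category.assoc, IsIso.hom_inv_id]
    · rw [← cancel_mono (D.map φ), Category.assoc, Category.assoc, IsIso.inv_hom_id, Category.id_comp,
        Category.comp_id]
  obtain ⟨W, q, hW, hqe, hqs⟩ := exists_affine_chart (hqc i₀)
  let o : Over i₀ := Over.mk (𝟙 i₀)
  have hcls : ∀ k, IsClosedImmersion ((chartSnd hDa q).app k).left := fun k =>
    (hDc _ _ k.hom).2 q _ _ (chart_sq hDa q k)
  haveI hclm : ∀ {j k : Over i₀} (a : j ⟶ k),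
      IsClosedImmersion ((chartSys hDa q ⋙ Over.forget S).map a) := fun {j k} a => by
    haveI := hcls k
    haveI : IsClosedImmersion (((chartSys hDa q).map a).left ≫ ((chartSnd hDa q).app k).left) := by
      have h := congrArg Over.Hom.left (chartMapHom_snd hDa q a)
      rw [Over.comp_left] at h
      exact h.symm ▸ (hcls j : _)
    exact IsClosedImmersion.of_comp ((chartSys hDa q).map a).left ((chartSnd hDa q).app k).left
  haveI hE : ∀ k, IsAffine ((chartSys hDa q ⋙ Over.forget S).obj k) := fun k => isAffine_chartSys hDa q k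
  haveI : LocallyOfFinitePresentation
      (((Over.forget S).mapCone (chartCone hDa q c hc)).π.app o) := by
    haveI := hcls o
    have h : LocallyOfFinitePresentation (chartPtSnd hDa q c hc).left :=
      hlfp (chartPtFst hDa q c hc) q (chartPtSnd hDa q c hc)
        (repWith_of_isPullback (chartPt_sq hDa q c hc).flip hqe) hqe (chartPt_sq hDa q c hc).w
    rw [← chartCone_T hDa q c hc o] at h
    haveI : LocallyOfFinitePresentation
        (((Over.forget S).mapCone (chartCone hDa q c hc)).π.app o ≫ ((chartSnd hDa q).app o).left) := h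
    exact SchBasic.locallyOfFinitePresentation_of_comp _ ((chartSnd hDa q).app o).left
  obtain ⟨k, hk⟩ := exists_isIso_of_lfp (chartIsLimitScheme hDa q c hc) o
    (fun k => Over.homMk k.hom (Category.comp_id _)) (fun a => by ext; simp [o])
  refine ⟨k.left, ?_⟩
  have sq : IsPullback (chartPtFst hDa q c hc) ((yon S).map ((chartCone hDa q c hc).π.app k))
      (c.π.app k.left) ((chartFst hDa q).app k) := by
    refine IsPullback.of_bot ?_ (chartCone_fst hDa q c hc k).symm (chart_sq hDa q k)
    rw [show (yon S).map ((chartCone hDa q c hc).π.app k) ≫ (yon S).map ((chartSnd hDa q).app k) =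
      (yon S).map (chartPtSnd hDa q c hc) from chartPi_snd hDa q c hc k, c.w]
    exact chartPt_sq hDa q c hc
  have hbe := repWith_of_isPullback (chart_sq hDa q k).flip hqe
  have hbs := repWith_of_isPullback (chart_sq hDa q k).flip hqs
  have hk' : IsIso ((chartCone hDa q c hc).π.app k).left := hk
  have := isLocalAtTarget_fppf (IsOpenImmersion : MorphismProperty Scheme.{u})
  have := isLocallySurjective_of_etale hbe hbs
  refine isIso_of_isOpenImmersion_of_surjective (repWith_of_locallySurjective
    (isAffineMor_iff_repWith.1 (isAffineMor_π hDa c hc k.left)).1 sq _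
    ((repWith_yon_map_iff _ _).2 (inferInstance : IsOpenImmersion ((chartCone hDa q c hc).π.app k).left))) ?_
  intro x
  obtain ⟨z, rfl⟩ := surjective_map_of_repWith hbs x
  obtain ⟨w, rfl⟩ := surjective_map_of_repWith
    ((repWith_yon_map_iff @Surjective _).2
      (inferInstance : Surjective ((chartCone hDa q c hc).π.app k).left)) z
  exact ⟨Points.map (chartPtFst hDa q c hc) w, by rw [← Points.map_comp, sq.w, Points.map_comp]⟩

end Groth.Agent.LimSys14
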