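import Groth.Agent.Lib.LimSys14.Eventually

/-!
# Closed subspaces of a limit are eventually closed subspaces of the stages
-/

set_option autoImplicit false
set_option backward.isDefEq.respectTransparency.types false
set_option backward.isDefEq.respectTransparency false
set_option linter.style.haveILetI false

universe u

open CategoryTheory CategoryTheory.Limits AlgebraicGeometry Opposite

noncomputable section

namespace Groth.Agent.LimSys14

open AlgSp Groth.Agent.AlgSpace

variable {S : Scheme.{u}} {I : Type u} [SmallCategory I] [IsCofiltered I] {D : I ⥤ Sp S}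

/-- The stages of a cone over a system over `B` have the same map to `B`. -/
theorem cone_comp_eq {B : Sp S} (t : D ⟶ (Functor.const I).obj B) (c : Cone D) (i j : I) :
    c.π.app i ≫ t.app i = c.π.app j ≫ t.app j := by
  have h1 : ∀ {m : I} (b : IsCofiltered.min i j ⟶ m),
      c.π.app m ≫ t.app m = c.π.app (IsCofiltered.min i j) ≫ t.app (IsCofiltered.min i j) := fun b => by
    rw [← c.w b, Category.assoc, t.naturality b]
    exact congrArg (_ ≫ ·) (Category.comp_id _)
  exact (h1 (IsCofiltered.minToLeft i j)).trans (h1 (IsCofiltered.minToRight i j)).symm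

theorem exists_closedImmersion_comp (hD : ∀ i, IsAlgSpace (D.obj i))
    (hDa : ∀ (i j : I) (φ : i ⟶ j), IsAffineMor (D.map φ)) (c : Cone D) (hc : IsLimit c)
    (hqc : ∀ i, IsQuasiCompactSp (D.obj i)) {Y : Sp S} (y : Y ⟶ c.pt)
    (hy : RepWith @IsClosedImmersion y) (hlft : ∀ i, LocP @LocallyOfFiniteType (y ≫ c.π.app i)) (i₀ : I) :
    ∃ i₁ : I, ∀ (i : I) (_ : i ⟶ i₁), RepWith @IsClosedImmersion (y ≫ c.π.app i) := by
  have hrep : ∀ i, Representable (y ≫ c.π.app i) := fun i =>
    (repWith_comp (repWith_mono isClosedImmersion_le_isAffineHom hy)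
      (isAffineMor_iff_repWith.1 (isAffineMor_π hDa c hc i))).1
  suffices ∃ i₁, RepWith @IsClosedImmersion (y ≫ c.π.app i₁) by
    obtain ⟨i₁, h⟩ := this
    refine ⟨i₁, fun i φ => repWith_of_comp_of_diagonal (g := D.map φ) ?_ ?_⟩
    · rw [Category.assoc, c.w]; exact h
    · have ha := isAffineMor_iff_repWith.1 (hDa _ _ φ)
      exact (isSeparatedMor_iff_of_representable (hD _) (hD _) ha.1).2
        (repWith_mono (fun _ _ u (_ : IsAffineHom u) => (inferInstance : IsSeparated u)) ha)
  obtain ⟨W, q, hW, hqe, hqs⟩ := exists_affine_chart (hqc i₀)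
  haveI : IsAffine W.left := hW
  have sqc : ∀ k : Over i₀, IsPullback (chartPtFst hDa q c hc)
      ((yon S).map ((chartCone hDa q c hc).π.app k)) (c.π.app k.left) ((chartFst hDa q).app k) := fun k => by
    refine IsPullback.of_bot ?_ (chartCone_fst hDa q c hc k).symm (chart_sq hDa q k)
    rw [show (yon S).map ((chartCone hDa q c hc).π.app k) ≫ (yon S).map ((chartSnd hDa q).app k) =
      (yon S).map (chartPtSnd hDa q c hc) from chartPi_snd hDa q c hc k, c.w]
    exact chartPt_sq hDa q c hc
  have sqZ := hy.1.isPullback (chartPtFst hDa q c hc)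
  let Z := hy.1.pullback (chartPtFst hDa q c hc)
  let z : Z ⟶ chartPt hDa q c hc := hy.1.snd (chartPtFst hDa q c hc)
  haveI hz : IsClosedImmersion z.left := hy.2 _ _ _ sqZ
  haveI hpt : IsAffine (chartPt hDa q c hc).left := by
    haveI : IsAffineHom (chartPtSnd hDa q c hc).left :=
      (isAffineMor_iff_repWith.1 (isAffineMor_π hDa c hc i₀)).2 q _ _ (chartPt_sq hDa q c hc)
    exact isAffine_of_isAffineHom (chartPtSnd hDa q c hc).left
  haveI : IsAffine Z.left := isAffine_of_isAffineHom z.left
  have sqk : ∀ k : Over i₀, IsPullback (hy.1.fst (chartPtFst hDa q c hc))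
      ((yon S).map (z ≫ (chartCone hDa q c hc).π.app k)) (y ≫ c.π.app k.left) ((chartFst hDa q).app k) :=
    fun k => by rw [Functor.map_comp]; exact sqZ.paste_vert (sqc k)
  let E : Over i₀ ⥤ Scheme.{u} := chartSys hDa q ⋙ Over.forget S
  let h : (Functor.const (Over i₀)).obj Z.left ⟶ E :=
    { app := fun k => (z ≫ (chartCone hDa q c hc).π.app k).left
      naturality := fun j k φ => by
        have e : (chartCone hDa q c hc).π.app k =
            (chartCone hDa q c hc).π.app j ≫ (chartSys hDa q).map φ := ((chartCone hDa q c hc).w φ).symm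
        exact (Category.id_comp _).trans ((congrArg (fun u => (z ≫ u).left) e).trans
          (Category.assoc _ _ _).symm) }
  haveI : ∀ k, IsAffine (E.obj k) := fun k => isAffine_chartSys hDa q k
  haveI : ∀ k, IsAffine (((Functor.const (Over i₀)).obj Z.left).obj k) := fun _ => ‹IsAffine Z.left›
  haveI : ∀ k, LocallyOfFiniteType (h.app k) := fun k =>
    (hlft k.left) (hy.1.fst (chartPtFst hDa q c hc)) ((chartFst hDa q).app k) (z ≫ (chartCone hDa q c hc).π.app k)
      (repWith_of_isPullback (sqk k).flip (repWith_of_isPullback (chart_sq hDa q k).flip hqe))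
      (repWith_of_isPullback (chart_sq hDa q k).flip hqe) (sqk k).w
  haveI : ∀ {j k : Over i₀} (a : j ⟶ k), IsAffineHom (((Functor.const (Over i₀)).obj Z.left).map a) :=
    fun a => inferInstanceAs (IsAffineHom (𝟙 Z.left))
  obtain ⟨k, hk⟩ := LimH13.exists_isClosedImmersion_app_of_isAffine h
    (LimH13.isLimitConstCone (I := Over i₀) Z.left) (chartIsLimitScheme hDa q c hc)
    (fun {j l} a => by
      haveI : IsAffineHom (pullback.fst (h.app l) (E.map a)) :=
        MorphismProperty.pullback_fst _ _ (isAffineHom_chartMap hDa q a)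
      haveI : IsClosedImmersion (LimH13.graphMap h a ≫ pullback.fst (h.app l) (E.map a)) := by
        rw [LimH13.graphMap_fst]
        exact inferInstanceAs (IsClosedImmersion (𝟙 Z.left))
      exact IsClosedImmersion.of_comp (LimH13.graphMap h a) (pullback.fst (h.app l) (E.map a)))
    z.left (fun k => (Category.id_comp _).symm)
  refine ⟨k.left, ?_⟩
  have := isLocalAtTarget_fppf_isClosedImmersion.{u}
  have := isLocallySurjective_of_etale (repWith_of_isPullback (chart_sq hDa q k).flip hqe)
    (repWith_of_isPullback (chart_sq hDa q k).flip hqs)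
  exact repWith_of_locallySurjective (hrep k.left) (sqk k) _ ((repWith_yon_map_iff _ _).2 hk)

end Groth.Agent.LimSys14
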