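import Groth.Agent.Lib.LimSys14.Basic
import Groth.Agent.Lib.AlgSpace.LocP
import Groth.Agent.Lib.AlgSpace.QCQS

/-!
# Descending properties of morphisms along limits of algebraic spaces

A morphism `f : X ⟶ Y` is read on a chart `h : U ⟶ V`: an étale surjection `b : yon V ⟶ Y` together
with an étale surjection `yon U ⟶ X ×_Y V` over `V`. Charts are stable under base change, so a chart
of `f₀` over one stage gives charts over all stages and over the limit, where the descent theorems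
for schemes apply.
-/

set_option autoImplicit false
set_option backward.isDefEq.respectTransparency.types false
set_option linter.style.haveILetI false

universe u

open CategoryTheory CategoryTheory.Limits AlgebraicGeometry Opposite

noncomputable section

namespace Groth.Agent.LimSys14

open AlgSp Groth.Agent.AlgSpace

variable {S : Scheme.{u}}

/-- `h` is a chart of `f`. -/
def IsChart {X Y : Sp S} (f : X ⟶ Y) {U V : Over S} (h : U ⟶ V) : Prop :=
  ∃ (P : Sp S) (fst : P ⟶ X) (snd : P ⟶ (yon S).obj V) (b : (yon S).obj V ⟶ Y)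
    (w : (yon S).obj U ⟶ P), IsPullback fst snd f b ∧ RepWith @Etale b ∧ RepWith @Surjective b ∧
      RepWith @Etale w ∧ RepWith @Surjective w ∧ w ≫ snd = (yon S).map h

/-- `h` is the base change of `f` to a chart of the target. -/
def IsRepChart {X Y : Sp S} (f : X ⟶ Y) {U V : Over S} (h : U ⟶ V) : Prop :=
  ∃ (fst : (yon S).obj U ⟶ X) (b : (yon S).obj V ⟶ Y),
    IsPullback fst ((yon S).map h) f b ∧ RepWith @Etale b ∧ RepWith @Surjective b

variable {X Y X' Y' : Sp S} {f : X ⟶ Y} {f' : X' ⟶ Y'} {pX : X' ⟶ X} {pY : Y' ⟶ Y}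

/-- Base change of a chart. -/
theorem isChart_baseChange {U V : Over S} {h : U ⟶ V} {P : Sp S} {fst : P ⟶ X}
    {snd : P ⟶ (yon S).obj V} {b : (yon S).obj V ⟶ Y} {w : (yon S).obj U ⟶ P}
    (sqP : IsPullback fst snd f b) (hbe : RepWith @Etale b) (hbs : RepWith @Surjective b)
    (hwe : RepWith @Etale w) (hws : RepWith @Surjective w) (hw : w ≫ snd = (yon S).map h)
    (hX : IsPullback pX f' f pY) {U' V' : Over S} {s : V' ⟶ V} {b' : (yon S).obj V' ⟶ Y'}
    (sqV : IsPullback b' ((yon S).map s) pY b) {r : U' ⟶ U} {h' : U' ⟶ V'}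
    (sqU : IsPullback r h' h s) : IsChart f' h' := by
  have sq' := IsPullback.of_hasPullback f' b'
  have sqX : IsPullback (pullback.fst f' b' ≫ pX) (pullback.snd f' b') f ((yon S).map s ≫ b) := by
    rw [← sqV.w]; exact sq'.paste_horiz hX
  let m : pullback f' b' ⟶ P := sqP.lift (pullback.fst f' b' ≫ pX) (pullback.snd f' b' ≫ (yon S).map s)
    (by rw [Category.assoc (pullback.snd f' b')]; exact sqX.w)
  have sqm : IsPullback m (pullback.snd f' b') snd ((yon S).map s) :=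
    IsPullback.of_right (by simpa [m] using sqX) (by simp [m]) sqP
  have sqW := sqU.map (yon S)
  let aW : (yon S).obj U' ⟶ pullback f' b' :=
    sqm.lift ((yon S).map r ≫ w) ((yon S).map h') (by rw [Category.assoc, hw]; exact sqW.w)
  have haW : IsPullback ((yon S).map r) aW w m :=
    IsPullback.of_bot (by simpa [aW, hw] using sqW) (by simp [aW]) sqm
  exact ⟨_, _, _, b', aW, sq', repWith_of_isPullback sqV.flip hbe, repWith_of_isPullback sqV.flip hbs,
    repWith_of_isPullback haW hwe, repWith_of_isPullback haW hws, sqm.lift_snd _ _ _⟩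

/-- Base change of a representable chart. -/
theorem isRepChart_baseChange {U V : Over S} {h : U ⟶ V} {fst : (yon S).obj U ⟶ X}
    {b : (yon S).obj V ⟶ Y} (sqP : IsPullback fst ((yon S).map h) f b) (hbe : RepWith @Etale b)
    (hbs : RepWith @Surjective b)
    (hX : IsPullback pX f' f pY) {U' V' : Over S} {s : V' ⟶ V} {b' : (yon S).obj V' ⟶ Y'}
    (sqV : IsPullback b' ((yon S).map s) pY b) {r : U' ⟶ U} {h' : U' ⟶ V'}
    (sqU : IsPullback r h' h s) : IsRepChart f' h' := by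
  have sqW := (sqU.map (yon S)).paste_horiz sqP
  rw [← sqV.w] at sqW
  refine ⟨hX.lift ((yon S).map r ≫ fst) ((yon S).map h' ≫ b') (by rw [Category.assoc]; exact sqW.w),
    b', IsPullback.of_right ?_ (hX.lift_snd _ _ _) hX, repWith_of_isPullback sqV.flip hbe,
    repWith_of_isPullback sqV.flip hbs⟩
  rw [hX.lift_fst]
  exact sqW

/-- A morphism has the property read on a chart. -/
theorem locP_of_isChart {Pr : MorphismProperty Scheme.{u}} [EtaleLocal Pr] {U V : Over S} {h : U ⟶ V}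
    (hch : IsChart f h) (hh : Pr h.left) : LocP Pr f := by
  obtain ⟨P, fst, snd, b, w, sq, hbe, hbs, hwe, hws, hw⟩ := hch
  exact locP_of_one_chart (w ≫ fst) b h (repWith_comp hwe (repWith_of_isPullback sq.flip hbe))
    (repWith_comp hws (repWith_of_isPullback sq.flip hbs)) hbe
    (by rw [Category.assoc, sq.w, ← Category.assoc, hw]) hh

theorem prop_of_isChart {Pr : MorphismProperty Scheme.{u}} {U V : Over S} {h : U ⟶ V}
    (hch : IsChart f h) (hf : LocP Pr f) : Pr h.left := by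
  obtain ⟨P, fst, snd, b, w, sq, hbe, hbs, hwe, hws, hw⟩ := hch
  exact hf (w ≫ fst) b h (repWith_comp hwe (repWith_of_isPullback sq.flip hbe)) hbe
    (by rw [Category.assoc, sq.w, ← Category.assoc, hw])

theorem repWith_of_isRepChart {Pr : MorphismProperty Scheme.{u}} [Pr.IsStableUnderBaseChange]
    [Pr.IsLocalAtTarget Scheme.fppfPrecoverage] (hf : Representable f) {U V : Over S} {h : U ⟶ V}
    (hch : IsRepChart f h) (hh : Pr h.left) : RepWith Pr f := by
  obtain ⟨fst, b, sq, hbe, hbs⟩ := hch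
  have := isLocallySurjective_of_etale hbe hbs
  exact repWith_of_locallySurjective hf sq Pr ((repWith_yon_map_iff Pr h).2 hh)

theorem prop_of_isRepChart {Pr : MorphismProperty Scheme.{u}} {U V : Over S} {h : U ⟶ V}
    (hch : IsRepChart f h) (hf : RepWith Pr f) : Pr h.left := by
  obtain ⟨fst, b, sq, -, -⟩ := hch
  exact hf.2 b fst h sq

/-- Pullbacks of schemes as pullbacks over `S`. -/
def overPullback {U V V' : Over S} (h : U ⟶ V) (s : V' ⟶ V) : Over S :=
  Over.mk (pullback.snd h.left s.left ≫ V'.hom)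

/-- The first projection. -/
def overPullbackFst {U V V' : Over S} (h : U ⟶ V) (s : V' ⟶ V) : overPullback h s ⟶ U :=
  Over.homMk (pullback.fst h.left s.left) (by
    show pullback.fst h.left s.left ≫ U.hom = pullback.snd h.left s.left ≫ V'.hom
    rw [← Over.w h, ← Over.w s, pullback.condition_assoc])

/-- The second projection. -/
def overPullbackSnd {U V V' : Over S} (h : U ⟶ V) (s : V' ⟶ V) : overPullback h s ⟶ V' :=
  Over.homMk (pullback.snd h.left s.left) rfl

theorem overPullback_sq {U V V' : Over S} (h : U ⟶ V) (s : V' ⟶ V) :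
    IsPullback (overPullbackFst h s) (overPullbackSnd h s) h s :=
  IsPullback.of_map (Over.forget S) (Over.OverMorphism.ext pullback.condition)
    (IsPullback.of_hasPullback h.left s.left)

variable {I : Type u} [SmallCategory I] {D : I ⥤ Sp S}
  (hDa : ∀ (i j : I) (φ : i ⟶ j), IsAffineMor (D.map φ)) {i₀ : I}

/-- The chart over a stage lies cartesian over any base change of `Y₀` to that stage. -/
theorem exists_stage_sq {Y₀ Y' B' : Sp S} {b₀ : Y₀ ⟶ D.obj i₀} {β : B' ⟶ D.obj i₀} {pY' : Y' ⟶ Y₀}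
    {qY' : Y' ⟶ B'} (hY : IsPullback pY' qY' b₀ β) {V₀ V' : Over S} {v : (yon S).obj V₀ ⟶ Y₀}
    {fB : (yon S).obj V' ⟶ B'} {s : V' ⟶ V₀} (sq : IsPullback fB ((yon S).map s) β (v ≫ b₀)) :
    ∃ b' : (yon S).obj V' ⟶ Y', IsPullback b' ((yon S).map s) pY' v := by
  refine ⟨hY.lift ((yon S).map s ≫ v) fB (by rw [Category.assoc]; exact sq.w.symm),
    IsPullback.of_right ?_ (hY.lift_fst _ _ _) hY.flip⟩
  rw [hY.lift_snd]
  exact sq

/-- A property of the chart over some stage. -/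
theorem exists_stage {Y₀ : Sp S} (b₀ : Y₀ ⟶ D.obj i₀) {V₀ U₀ : Over S} (v : (yon S).obj V₀ ⟶ Y₀)
    (h : U₀ ⟶ V₀) (Pr : MorphismProperty Scheme.{u})
    (hk : ∃ k, Pr (pullback.snd h.left ((chartT hDa (v ≫ b₀)).app k))) :
    ∃ (i : I) (φ : i ⟶ i₀) (V U : Over S) (s : V ⟶ V₀) (r : U ⟶ U₀) (h' : U ⟶ V),
      IsPullback r h' h s ∧ Pr h'.left ∧
      ∀ (Yi : Sp S) (pYi : Yi ⟶ Y₀) (qYi : Yi ⟶ D.obj i), IsPullback pYi qYi b₀ (D.map φ) →
        ∃ b' : (yon S).obj V ⟶ Yi, IsPullback b' ((yon S).map s) pYi v := by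
  obtain ⟨k, hk⟩ := hk
  exact ⟨k.left, k.hom, _, _, _, _, _, overPullback_sq h ((chartSnd hDa (v ≫ b₀)).app k), hk,
    fun Yi pYi qYi hY => exists_stage_sq hY (chart_sq hDa (v ≫ b₀) k)⟩

variable [IsCofiltered I] (c : Cone D) (hc : IsLimit c)

/-- The chart over the limit. -/
theorem exists_limit_sq {Y₀ : Sp S} (b₀ : Y₀ ⟶ D.obj i₀) {Y : Sp S} {pY : Y ⟶ Y₀} {qY : Y ⟶ c.pt}
    (hY : IsPullback pY qY b₀ (c.π.app i₀)) {V₀ : Over S} (v : (yon S).obj V₀ ⟶ Y₀) :
    ∃ b' : (yon S).obj (chartPt hDa (v ≫ b₀) c hc) ⟶ Y,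
      IsPullback b' ((yon S).map (chartPtSnd hDa (v ≫ b₀) c hc)) pY v :=
  exists_stage_sq hY (chartPt_sq hDa (v ≫ b₀) c hc)

/-- A morphism to a quasi-compact space has a chart with affine target. -/
theorem exists_affine_target {X₀ Y₀ : Sp S} (f₀ : X₀ ⟶ Y₀) [QuasiSeparatedSpace S]
    (hX₀ : IsAlgSpace X₀) (hY₀ : IsAlgSpace Y₀)
    (hXc : IsQuasiCompactSp X₀) (hYc : IsQuasiCompactSp Y₀) (hYs : IsQuasiSeparatedSp Y₀) :
    ∃ (V₀ : Over S) (v : (yon S).obj V₀ ⟶ Y₀), IsAffine V₀.left ∧ RepWith @Etale v ∧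
      RepWith @Surjective v ∧ IsQuasiCompactSp (pullback f₀ v) := by
  obtain ⟨V₀, v, hV, hve, hvs⟩ := exists_affine_chart hYc
  refine ⟨V₀, v, hV, hve, hvs, ?_⟩
  have := compactSpace_yon_of_affine V₀
  have hvq : IsQuasiCompactMor v := isQuasiCompactMor_of_qc_qs (IsAlgSpace.yon_obj V₀) hY₀ v
    ((isQuasiCompactSp_iff (IsAlgSpace.yon_obj V₀)).2 inferInstance) hYs
  exact hvq hX₀ hXc f₀ (pullback.snd f₀ v) (pullback.fst f₀ v) (IsPullback.of_hasPullback f₀ v).flip

/-- An affine chart of a morphism of quasi-compact spaces. -/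
theorem exists_affine_isChart {X₀ Y₀ : Sp S} (f₀ : X₀ ⟶ Y₀) [QuasiSeparatedSpace S]
    (hX₀ : IsAlgSpace X₀) (hY₀ : IsAlgSpace Y₀)
    (hXc : IsQuasiCompactSp X₀) (hYc : IsQuasiCompactSp Y₀) (hYs : IsQuasiSeparatedSp Y₀) :
    ∃ (V₀ U₀ : Over S) (v : (yon S).obj V₀ ⟶ Y₀) (h : U₀ ⟶ V₀) (w : (yon S).obj U₀ ⟶ pullback f₀ v),
      IsAffine V₀.left ∧ IsAffine U₀.left ∧ RepWith @Etale v ∧ RepWith @Surjective v ∧
      RepWith @Etale w ∧ RepWith @Surjective w ∧ w ≫ pullback.snd f₀ v = (yon S).map h := by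
  obtain ⟨V₀, v, hV, hve, hvs, hP⟩ := exists_affine_target f₀ hX₀ hY₀ hXc hYc hYs
  obtain ⟨U₀, w, hU, hwe, hws⟩ := exists_affine_chart hP
  obtain ⟨h, hh⟩ := (yon S).map_surjective (w ≫ pullback.snd f₀ v)
  exact ⟨V₀, U₀, v, h, w, hV, hU, hve, hvs, hwe, hws, hh.symm⟩

/-- A representable chart of a representable morphism of quasi-compact spaces. -/
theorem exists_isRepChart {X₀ Y₀ : Sp S} (f₀ : X₀ ⟶ Y₀) [QuasiSeparatedSpace S]
    (hX₀ : IsAlgSpace X₀) (hY₀ : IsAlgSpace Y₀) (hf : Representable f₀)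
    (hXc : IsQuasiCompactSp X₀) (hXs : IsQuasiSeparatedSp X₀)
    (hYc : IsQuasiCompactSp Y₀) (hYs : IsQuasiSeparatedSp Y₀) :
    ∃ (V₀ U₀ : Over S) (v : (yon S).obj V₀ ⟶ Y₀) (h : U₀ ⟶ V₀) (fst : (yon S).obj U₀ ⟶ X₀),
      IsAffine V₀.left ∧ IsPullback fst ((yon S).map h) f₀ v ∧ RepWith @Etale v ∧
      RepWith @Surjective v ∧ QuasiCompact h.left ∧ QuasiSeparated h.left := by
  obtain ⟨V₀, v, hV, hve, hvs⟩ := exists_affine_chart hYc
  have sq := hf.isPullback v
  exact ⟨V₀, _, v, hf.snd v, _, hV, sq, hve, hvs,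
    ((repWith_quasiCompact_iff hX₀ hY₀ hf).2 (isQuasiCompactMor_of_qc_qs hX₀ hY₀ f₀ hXc hYs)).2 v _ _ sq,
    ((isQuasiSeparatedMor_iff_of_representable hX₀ hY₀ hf).1 (isQuasiSeparatedMor_of_sp f₀ hXs)).2 v _ _ sq⟩

end Groth.Agent.LimSys14
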