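import Groth.Agent.Lib.LimSys14.ClosedSys

/-!
# Maps into a limit which are eventually monomorphisms or closed immersions
-/

set_option autoImplicit false
set_option backward.isDefEq.respectTransparency.types false
set_option backward.isDefEq.respectTransparency false
set_option linter.style.haveILetI false

universe u

open CategoryTheory CategoryTheory.Limits AlgebraicGeometry Opposite

noncomputable section

namespace Groth.Agent.LimSys14

open AlgSp Groth.Agent.AlgSpace

variable {S : Scheme.{u}} {I : Type u} [SmallCategory I] {D : I ⥤ Sp S} (c : Cone D)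
  {Y : Sp S} (y : Y ⟶ c.pt) (i₀ : I)

/-- The transition maps of the self products. -/
def selfMap {j k : Over i₀} (φ : j ⟶ k) :
    pullback (y ≫ c.π.app j.left) (y ≫ c.π.app j.left) ⟶
      pullback (y ≫ c.π.app k.left) (y ≫ c.π.app k.left) :=
  pullback.lift (pullback.fst _ _) (pullback.snd _ _) (by
    rw [← c.w φ.left, ← Category.assoc y, pullback.condition_assoc])

/-- The self products of `Y` over the stages. -/
def selfSys : Over i₀ ⥤ Sp S where
  obj k := pullback (y ≫ c.π.app k.left) (y ≫ c.π.app k.left)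
  map φ := selfMap c y i₀ φ
  map_id k := by apply pullback.hom_ext <;> simp [selfMap]
  map_comp f g := by apply pullback.hom_ext <;> simp [selfMap]

/-- The diagonals as a cone. -/
def selfCone : Cone (selfSys c y i₀) where
  pt := Y
  π :=
    { app := fun k => pullback.diagonal (y ≫ c.π.app k.left)
      naturality := fun j k φ => by
        show 𝟙 Y ≫ pullback.diagonal _ = pullback.diagonal _ ≫ selfMap c y i₀ φ
        apply pullback.hom_ext <;> simp [selfMap] }

variable [IsCofiltered I] (hc : IsLimit c)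

/-- The limit of the self products of a monomorphism into the limit is the source. -/
def selfIsLimit [Mono y] : IsLimit (selfCone c y i₀) where
  lift s := s.π.app (Over.mk (𝟙 i₀)) ≫ pullback.fst _ _
  fac s k := by
    obtain ⟨φ⟩ := hom_terminal i₀ k
    have hk : s.π.app (Over.mk (𝟙 i₀)) = s.π.app k ≫ selfMap c y i₀ φ := (s.w φ).symm
    have e : (s.π.app (Over.mk (𝟙 i₀)) ≫ pullback.fst _ _) ≫ y =
        (s.π.app (Over.mk (𝟙 i₀)) ≫ pullback.snd _ _) ≫ y := by
      refine (restrictIsLimit c hc i₀).hom_ext fun l => ?_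
      obtain ⟨ψ⟩ := hom_terminal i₀ l
      have hl : s.π.app (Over.mk (𝟙 i₀)) = s.π.app l ≫ selfMap c y i₀ ψ := (s.w ψ).symm
      rw [hl]
      simp only [selfMap, Category.assoc, pullback.lift_fst_assoc, pullback.lift_snd_assoc]
      exact congrArg (s.π.app l ≫ ·) pullback.condition
    rw [cancel_mono, hk] at e
    simp only [selfMap, Category.assoc, pullback.lift_fst, pullback.lift_snd] at e
    show (s.π.app (Over.mk (𝟙 i₀)) ≫ pullback.fst _ _) ≫ pullback.diagonal (y ≫ c.π.app k.left) = s.π.app k
    rw [hk]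
    simp only [selfMap, Category.assoc, pullback.lift_fst_assoc]
    apply pullback.hom_ext
    · simp
    · simp [e]
  uniq s m hm := by
    rw [← hm (Over.mk (𝟙 i₀))]
    show m = (m ≫ pullback.diagonal _) ≫ pullback.fst _ _
    simp

omit [IsCofiltered I] in
theorem selfMap_closedImmersion (hD : ∀ i, IsAlgSpace (D.obj i))
    (hDa : ∀ (i j : I) (φ : i ⟶ j), IsAffineMor (D.map φ)) {j k : Over i₀} (φ : j ⟶ k) :
    RepWith @IsClosedImmersion (selfMap c y i₀ φ) := by
  have ha := isAffineMor_iff_repWith.1 (hDa _ _ φ.left)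
  have hsep : RepWith @IsClosedImmersion (pullback.diagonal (D.map φ.left)) :=
    (isSeparatedMor_iff_of_representable (hD _) (hD _) ha.1).2
      (repWith_mono (fun _ _ u (_ : IsAffineHom u) => (inferInstance : IsSeparated u)) ha)
  have sq := pullback_map_diagonal_isPullback (y ≫ c.π.app j.left) (y ≫ c.π.app j.left) (D.map φ.left)
  have h := repWith_of_isPullback sq hsep
  have e : selfMap c y i₀ φ = pullback.map _ _ _ _ _ _ (D.map φ.left) (Category.id_comp _).symm
      (Category.id_comp _).symm ≫
      (pullback.congrHom (show (y ≫ c.π.app j.left) ≫ D.map φ.left = y ≫ c.π.app k.left by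
        rw [Category.assoc, c.w]) (by rw [Category.assoc, c.w])).hom := by
    apply pullback.hom_ext <;> simp [selfMap]
  rw [e, repWith_respectsIso_right]
  exact h

variable [QuasiSeparatedSpace S]

include hc in
/-- A monomorphism into the limit is eventually a monomorphism. -/
theorem exists_mono_comp (hD : ∀ i, IsAlgSpace (D.obj i))
    (hDa : ∀ (i j : I) (φ : i ⟶ j), IsAffineMor (D.map φ)) (hqs : ∀ i, IsQuasiSeparatedSp (D.obj i))
    (hY : IsAlgSpace Y) (hYc : IsQuasiCompactSp Y) [Mono y]
    (hlft : LocP @LocallyOfFiniteType (y ≫ c.π.app i₀)) :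
    ∃ i₁ : I, ∀ (i : I) (_ : i ⟶ i₁), Mono (y ≫ c.π.app i) := by
  have hP : ∀ k : Over i₀, IsAlgSpace (pullback (y ≫ c.π.app k.left) (y ≫ c.π.app k.left)) := fun k =>
    isAlgSpace_pullback (hD k.left) hY hY (IsPullback.of_hasPullback _ _)
  obtain ⟨k₁, hk⟩ := exists_isIso_π (D := selfSys c y i₀) hP
    (fun j k φ => selfMap_closedImmersion c y i₀ hD hDa φ) (selfCone c y i₀) (selfIsLimit c y i₀ hc)
    (fun k => isQuasiCompactMor_of_qc_qs hY (hD k.left) (y ≫ c.π.app k.left) hYc (hqs k.left) hY hYc
      (y ≫ c.π.app k.left) _ _ (IsPullback.of_hasPullback _ _))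
    (Over.mk (𝟙 i₀)) (locP_of_repWith (hP _) (repWith_diagonal_lfp_of_lft hY (hD i₀) hlft))
  refine ⟨k₁.left, fun i φ => ?_⟩
  have h := hk (Over.mk (φ ≫ k₁.hom)) (Over.homMk φ rfl)
  exact (pullback.isIso_diagonal_iff _).1 h

omit [IsCofiltered I] [QuasiSeparatedSpace S] in
/-- Finite type of a map into a stage from finite type over the base. -/
theorem locP_lft_of_comp {B : Sp S} (hB : IsAlgSpace B) (t : D ⟶ (Functor.const I).obj B)
    (hD : ∀ i, IsAlgSpace (D.obj i)) (hY : IsAlgSpace Y) (i₁ i : I)
    (hcon : y ≫ c.π.app i ≫ t.app i = y ≫ c.π.app i₁ ≫ t.app i₁)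
    (h : LocP @LocallyOfFiniteType (y ≫ c.π.app i₁ ≫ t.app i₁)) :
    LocP @LocallyOfFiniteType (y ≫ c.π.app i) := by
  refine locP_of_comp (P := @LocallyOfFiniteType) (Q' := @LocallyOfFiniteType)
    (R := (⊤ : MorphismProperty Scheme.{u})) (fun A C E k l hkl _ => ?_) hY (hD i) hB ?_ (locP_top (t.app i))
  · haveI := hkl
    exact locallyOfFiniteType_of_comp k l
  · rw [Category.assoc, hcon]; exact h

end Groth.Agent.LimSys14
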