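import Groth.Agent.Lib.LimSys14.AffineLimit
import Groth.Agent.Lib.LimShf14.Criterion

/-!
# Morphisms locally of finite presentation and maps out of limits of qcqs spaces
-/

set_option autoImplicit false
set_option backward.isDefEq.respectTransparency.types false
set_option backward.isDefEq.respectTransparency false
set_option linter.style.haveILetI false

universe u

open CategoryTheory CategoryTheory.Limits AlgebraicGeometry Opposite

noncomputable section

namespace Groth.Agent.LimSys14

open AlgSp Groth.Agent.AlgSpace Groth.Agent.AlgSpDecent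

variable {S : Scheme.{u}}

theorem sect_map {X : Sp S} {T T' : Over S} (p : T' ⟶ T) (a : (yon S).obj T ⟶ X) :
    X.obj.map p.op (sect a) = sect ((yon S).map p ≫ a) :=
  GrothendieckTopology.uliftYonedaEquiv_naturality _ a p

variable {X Y : Space S} (f : X ⟶ Y) (hf : LocP @LocallyOfFinitePresentation f.hom)
  {I : Type u} [SmallCategory I] [IsCofiltered I] {D : I ⥤ Sp S}
  (hD : ∀ i, IsAlgSpace (D.obj i)) (hDa : ∀ (i j : I) (φ : i ⟶ j), IsAffineMor (D.map φ))
  (c : Cone D) (hc : IsLimit c) (hqc : ∀ i, IsQuasiCompactSp (D.obj i))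

include hf hDa hc hqc in
/-- Two maps from a stage over the base which agree on the limit agree at a later stage. -/
theorem exists_eq_of_lfp {i : I} (a b : D.obj i ⟶ X.obj) (hab : a ≫ f.hom = b ≫ f.hom)
    (h : c.π.app i ≫ a = c.π.app i ≫ b) : ∃ (k : I) (φ : k ⟶ i), D.map φ ≫ a = D.map φ ≫ b := by
  obtain ⟨W, q, hW, hqe, hqs'⟩ := exists_affine_chart (hqc i)
  haveI : IsAffine W.left := hW
  haveI : IsAffine (chartPt hDa q c hc).left := by
    haveI : IsAffineHom (chartPtSnd hDa q c hc).left :=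
      (isAffineMor_iff_repWith.1 (isAffineMor_π hDa c hc i)).2 q _ _ (chartPt_sq hDa q c hc)
    exact isAffine_of_isAffineHom (chartPtSnd hDa q c hc).left
  let o : Over i := Over.mk (𝟙 i)
  let α : (yon S).obj ((chartSys hDa q).obj o) ⟶ D.obj i := (chartFst hDa q).app o
  have hπ : (yon S).map ((chartCone hDa q c hc).π.app o) ≫ α = chartPtFst hDa q c hc ≫ c.π.app i :=
    chartPi_fst hDa q c hc o
  obtain ⟨k, φ, hk⟩ := (LimPres14.crit_of_isRelLimitPreserving
    (LimShf14.isRelLimitPreserving_of_locP f hf) (chartSys hDa q) (chartCone hDa q c hc)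
    (chartIsLimitScheme hDa q c hc) (fun k => isAffine_chartSys hDa q k) ‹_›).2 o
    (sect (α ≫ a)) (sect (α ≫ b))
    (by rw [← GrothendieckTopology.uliftYonedaEquiv_comp, ← GrothendieckTopology.uliftYonedaEquiv_comp,
      Category.assoc, Category.assoc, hab])
    (by rw [sect_map, sect_map, reassoc_of% hπ, reassoc_of% hπ, h])
  rw [sect_map, sect_map] at hk
  have hk' : ((chartFst hDa q).app k ≫ D.map φ.left) ≫ a = ((chartFst hDa q).app k ≫ D.map φ.left) ≫ b := by
    have e : (yon S).map ((chartSys hDa q).map φ) ≫ α = (chartFst hDa q).app k ≫ D.map φ.left :=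
      chartMapHom_fst hDa q φ
    rw [← e, Category.assoc, Category.assoc]
    exact sect.injective hk
  have hae : RepWith @Etale ((chartFst hDa q).app k) := repWith_of_isPullback (chart_sq hDa q k).flip hqe
  have has : RepWith @Surjective ((chartFst hDa q).app k) :=
    repWith_of_isPullback (chart_sq hDa q k).flip hqs'
  have := isLocallySurjective_of_etale hae has
  have : Epi ((chartFst hDa q).app k) := Sheaf.epi_of_isLocallySurjective' _
  exact ⟨k.left, φ.left, (cancel_epi _).1 ((Category.assoc _ _ _).symm.trans (hk'.trans (Category.assoc _ _ _)))⟩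

include hf hD hDa hc hqc in
/-- A map from the limit over a map from a stage comes from a stage. -/
theorem exists_factor_of_lfp [QuasiSeparatedSpace S] (hqs : ∀ i, IsQuasiSeparatedSp (D.obj i)) {i : I}
    (y : D.obj i ⟶ Y.obj) (x : c.pt ⟶ X.obj) (h : x ≫ f.hom = c.π.app i ≫ y) :
    ∃ (k : I) (φ : k ⟶ i) (xk : D.obj k ⟶ X.obj), xk ≫ f.hom = D.map φ ≫ y ∧ c.π.app k ≫ xk = x := by
  obtain ⟨W, q, hW, hqe, hqs'⟩ := exists_affine_chart (hqc i)
  haveI : IsAffine W.left := hW
  haveI : IsAffine (chartPt hDa q c hc).left := by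
    haveI : IsAffineHom (chartPtSnd hDa q c hc).left :=
      (isAffineMor_iff_repWith.1 (isAffineMor_π hDa c hc i)).2 q _ _ (chartPt_sq hDa q c hc)
    exact isAffine_of_isAffineHom (chartPtSnd hDa q c hc).left
  let o : Over i := Over.mk (𝟙 i)
  let α : ∀ k, (yon S).obj ((chartSys hDa q).obj k) ⟶ D.obj k.left := fun k => (chartFst hDa q).app k
  have hα : ∀ {j k : Over i} (φ : j ⟶ k),
      (yon S).map ((chartSys hDa q).map φ) ≫ α k = α j ≫ D.map φ.left := fun φ => chartMapHom_fst hDa q φ
  have hπ : ∀ k, (yon S).map ((chartCone hDa q c hc).π.app k) ≫ α k =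
      chartPtFst hDa q c hc ≫ c.π.app k.left := fun k => chartPi_fst hDa q c hc k
  obtain ⟨l, φ, zl, hz₁, hz₂⟩ := (LimPres14.crit_of_isRelLimitPreserving
    (LimShf14.isRelLimitPreserving_of_locP f hf) (chartSys hDa q) (chartCone hDa q c hc)
    (chartIsLimitScheme hDa q c hc) (fun k => isAffine_chartSys hDa q k) ‹_›).1 o
    (sect (α o ≫ y)) (sect (chartPtFst hDa q c hc ≫ x))
    (by rw [← GrothendieckTopology.uliftYonedaEquiv_comp, Category.assoc, h, sect_map, reassoc_of% hπ o]; rfl)
  obtain ⟨z, rfl⟩ := (sect (T := (chartSys hDa q).obj l) (F := X.obj)).surjective zl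
  rw [← GrothendieckTopology.uliftYonedaEquiv_comp, sect_map, reassoc_of% hα φ] at hz₁
  rw [sect_map] at hz₂
  replace hz₁ : z ≫ f.hom = α l ≫ D.map φ.left ≫ y := sect.injective hz₁
  replace hz₂ : (yon S).map (chartPi hDa q c hc l) ≫ z = chartPtFst hDa q c hc ≫ x := sect.injective hz₂
  -- the self product of the chart
  have := compactSpace_yon_of_affine W
  have hqmor : IsQuasiCompactMor q := isQuasiCompactMor_of_qc_qs (IsAlgSpace.yon_obj W) (hD i) q
    ((isQuasiCompactSp_iff (IsAlgSpace.yon_obj W)).2 inferInstance) (hqs i)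
  have sqR := hqe.1.isPullback' q
  let R₀ := hqe.1.pullback q
  let r₁ : R₀ ⟶ W := hqe.1.fst' q
  let r₂ : R₀ ⟶ W := hqe.1.snd q
  let q' : (yon S).obj R₀ ⟶ D.obj i := (yon S).map r₁ ≫ q
  haveI : QuasiCompact r₂.left :=
    ((repWith_quasiCompact_iff (IsAlgSpace.yon_obj W) (hD i) hqe.1).2 hqmor).2 q _ _ sqR
  haveI : CompactSpace R₀.left := QuasiCompact.compactSpace_of_compactSpace r₂.left
  let L₁ := chartLiftApp hDa q r₁ (rfl : q' = (yon S).map r₁ ≫ q)
  let L₂ := chartLiftApp hDa q r₂ (sqR.w : q' = (yon S).map r₂ ≫ q)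
  have hDa' : ∀ (j k : Over i) (φ : j ⟶ k), IsAffineMor ((chartSys hDa q' ⋙ yon S).map φ) := fun j k φ =>
    isAffineMor_iff_repWith.2 ((repWith_yon_map_iff _ _).2 (isAffineHom_chartMap hDa q' φ))
  have hqc' : ∀ k, IsQuasiCompactSp ((chartSys hDa q' ⋙ yon S).obj k) := fun k => by
    haveI := isAffineHom_chartSnd hDa q' k
    haveI : CompactSpace ↥(((Functor.const (Over i)).obj R₀).obj k).left := ‹CompactSpace R₀.left›
    haveI : CompactSpace ↥((chartSys hDa q').obj k).left :=
      QuasiCompact.compactSpace_of_compactSpace ((chartSnd hDa q').app k).left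
    exact (isQuasiCompactSp_iff (IsAlgSpace.yon_obj _)).2 ((compactSpace_yon_iff _).2 ‹_›)
  have hLf : ∀ (r : R₀ ⟶ W) (hr : q' = (yon S).map r ≫ q),
      ((yon S).map (chartLiftApp hDa q r hr l) ≫ z) ≫ f.hom =
        (chartFst hDa q').app l ≫ D.map φ.left ≫ y := fun r hr => by
    rw [Category.assoc, hz₁]
    exact (Category.assoc _ _ _).symm.trans (congrArg (· ≫ _) (chartLiftApp_fst hDa q r hr l))
  have hLπ : ∀ (r : R₀ ⟶ W) (hr : q' = (yon S).map r ≫ q),
      ((yon S).mapCone (chartCone hDa q' c hc)).π.app l ≫ (yon S).map (chartLiftApp hDa q r hr l) ≫ z =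
        chartPtFst hDa q' c hc ≫ x := fun r hr => by
    show (yon S).map (chartPi hDa q' c hc l) ≫ _ = _
    rw [← Functor.map_comp_assoc, ← chartPtLift_π hDa q r hr c hc l, Functor.map_comp, Category.assoc,
      hz₂, ← Category.assoc, chartPtLift_fst]
  obtain ⟨k, ψ, hψ⟩ := exists_eq_of_lfp f hf (D := chartSys hDa q' ⋙ yon S) hDa'
    ((yon S).mapCone (chartCone hDa q' c hc)) (isLimitOfPreserves (yon S) (chartIsLimit hDa q' c hc)) hqc'
    ((yon S).map (L₁ l) ≫ z) ((yon S).map (L₂ l) ≫ z)
    ((hLf r₁ rfl).trans (hLf r₂ sqR.w).symm) ((hLπ r₁ rfl).trans (hLπ r₂ sqR.w).symm)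
  have hae : RepWith @Etale (α k) := repWith_of_isPullback (chart_sq hDa q k).flip hqe
  have has : RepWith @Surjective (α k) := repWith_of_isPullback (chart_sq hDa q k).flip hqs'
  have sq₂ : IsPullback ((yon S).map (L₁ k)) ((yon S).map (L₂ k)) (α k) (α k) := by
    refine isPullback_self (chart_sq hDa q k) sqR (chart_sq hDa q' k) (chartLiftApp_fst hDa q r₁ rfl k)
      ?_ (chartLiftApp_fst hDa q r₂ sqR.w k) ?_
    · rw [← Functor.map_comp, ← Functor.map_comp]
      exact congrArg _ (chartLiftApp_snd hDa q r₁ rfl k)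
    · rw [← Functor.map_comp, ← Functor.map_comp]
      exact congrArg _ (chartLiftApp_snd hDa q r₂ sqR.w k)
  obtain ⟨xk, hxk⟩ := exists_desc_of_chart hae has sq₂ ((yon S).map ((chartSys hDa q).map ψ) ≫ z) (by
    rw [← Functor.map_comp_assoc, ← Functor.map_comp_assoc, ← chartLiftApp_nat hDa q r₁ rfl ψ,
      ← chartLiftApp_nat hDa q r₂ sqR.w ψ, Functor.map_comp_assoc, Functor.map_comp_assoc]
    exact hψ)
  have := isLocallySurjective_of_etale hae has
  have : Epi (α k) := Sheaf.epi_of_isLocallySurjective' _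
  have hue : RepWith @Etale (chartPtFst hDa q c hc) :=
    repWith_of_isPullback (chartPt_sq hDa q c hc).flip hqe
  have hus : RepWith @Surjective (chartPtFst hDa q c hc) :=
    repWith_of_isPullback (chartPt_sq hDa q c hc).flip hqs'
  have := isLocallySurjective_of_etale hue hus
  have : Epi (chartPtFst hDa q c hc) := Sheaf.epi_of_isLocallySurjective' _
  refine ⟨k.left, ψ.left ≫ φ.left, xk, (cancel_epi (α k)).1 ?_, (cancel_epi (chartPtFst hDa q c hc)).1 ?_⟩
  · rw [← Category.assoc, hxk, Category.assoc, hz₁, ← Category.assoc, hα ψ, Category.assoc,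
      Functor.map_comp, Category.assoc]
  · rw [← Category.assoc, ← hπ k, Category.assoc, hxk, ← Functor.map_comp_assoc]
    exact (congrArg (fun t => (yon S).map t ≫ z) (chartPi_w hDa q c hc ψ)).trans hz₂

end Groth.Agent.LimSys14
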