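import Groth.Agent.Lib.LimSys14.OpenDescend
import Groth.Agent.Lib.LimSys14.ClosedTo
import Groth.Agent.Lib.AlgSpDecent.FiniteMin

/-!
# Immersions into a limit are immersions into a finite stage
-/

set_option autoImplicit false
set_option backward.isDefEq.respectTransparency.types false
set_option backward.isDefEq.respectTransparency false
set_option linter.style.haveILetI false

universe u

open CategoryTheory CategoryTheory.Limits AlgebraicGeometry Opposite

noncomputable section

namespace Groth.Agent.LimSys14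

open AlgSp Groth.Agent.AlgSpace FlatH4 Groth.Agent.AlgSpDecent

variable {S : Scheme.{u}}

/-- A compact subset of an open set of a scheme lies in a quasi-compact open inside it. -/
theorem exists_compact_open_between {X : Scheme.{u}} {K : Set X} (hK : IsCompact K) {C : Set X}
    (hC : IsOpen C) (h : K ⊆ C) : ∃ O : X.Opens, IsCompact (O : Set X) ∧ K ⊆ O ∧ (O : Set X) ⊆ C := by
  obtain ⟨s, hs⟩ := hK.elim_finite_subcover
    (fun O : {O : X.affineOpens // (O.1 : Set X) ⊆ C} => (O.1.1 : Set X))
    (fun O => O.1.1.isOpen) (fun x hx => by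
      obtain ⟨O, hO, hxO, hOC⟩ := X.isBasis_affineOpens.exists_subset_of_mem_open (h hx) hC
      obtain ⟨O, hO', rfl⟩ := hO
      exact Set.mem_iUnion.2 ⟨⟨⟨O, hO'⟩, hOC⟩, hxO⟩)
  refine ⟨⨆ O ∈ s, O.1.1, ?_, ?_, ?_⟩
  · simp only [TopologicalSpace.Opens.coe_iSup]
    exact s.isCompact_biUnion fun O _ => O.1.2.isCompact
  · simpa only [TopologicalSpace.Opens.coe_iSup] using hs
  · simp only [TopologicalSpace.Opens.coe_iSup, Set.iUnion_subset_iff]
    exact fun O _ => O.2

theorem range_map_eq_range_ofPt {F : Sp S} {U : Over S} (p : (yon S).obj U ⟶ F) :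
    Set.range (Points.map p) = Set.range (Points.ofPt p) := by
  rw [show Points.ofPt p = Points.map p ∘ Points.schemeEquiv U from
    funext fun x => Points.ofPt_eq_map_ofScheme p x, (Points.schemeEquiv U).surjective.range_comp]

variable [QuasiSeparatedSpace S] {I : Type u} [SmallCategory I] [IsCofiltered I] {D : I ⥤ Sp S}

theorem exists_immersion_comp (hD : ∀ i, IsAlgSpace (D.obj i))
    (hDa : ∀ (i j : I) (φ : i ⟶ j), IsAffineMor (D.map φ)) (c : Cone D) (hc : IsLimit c)
    (hqs : ∀ i, IsQuasiSeparatedSp (D.obj i)) {Y : Sp S} (hY : IsAlgSpace Y) (hYc : IsQuasiCompactSp Y)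
    (y : Y ⟶ c.pt) (hy : RepWith @IsImmersion y)
    (hlft : ∀ i, LocP @LocallyOfFiniteType (y ≫ c.π.app i)) (i₁ : I) :
    ∃ i₀ : I, ∀ (i : I) (_ : i ⟶ i₀), RepWith @IsImmersion (y ≫ c.π.app i) := by
  have hX : IsAlgSpace c.pt := isAlgSpace_pt hDa c hD hc
  have := (isQuasiCompactSp_iff hY).1 hYc
  -- an open neighbourhood of the image in which it is closed
  let R : Set (Points c.pt) := Set.range (Points.map y)
  have hRo : IsOpen (coborder R) := (isEmbedding_map_of_immersion hX hy).2.isOpen_coborder
  -- a first chart around the image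
  obtain ⟨W, q, hW, hqe, hqK⟩ := exists_affine_etale_covering (hD i₁)
    (isCompact_range (Points.continuous_map (y ≫ c.π.app i₁)))
  haveI : IsAffine W.left := hW
  have := compactSpace_yon_of_affine W
  have hqmor : IsQuasiCompactMor q := isQuasiCompactMor_of_qc_qs (IsAlgSpace.yon_obj W) (hD i₁) q
    ((isQuasiCompactSp_iff (IsAlgSpace.yon_obj W)).2 inferInstance) (hqs i₁)
  let P := chartPt hDa q c hc
  let u := chartPtFst hDa q c hc
  have sqy := hy.1.isPullback u
  have hYPc : CompactSpace ↥(hy.1.pullback u).left := by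
    rw [← compactSpace_yon_iff]
    exact (isQuasiCompactSp_iff (IsAlgSpace.yon_obj _)).1
      (hqmor hY hYc (y ≫ c.π.app i₁) _ _ (sqy.flip.paste_horiz (chartPt_sq hDa q c hc).flip))
  obtain ⟨O, hO, hzO, hOC⟩ := exists_compact_open_between
    (isCompact_range (hy.1.snd u).left.continuous) (hRo.preimage (Points.continuous_ofPt u)) (by
      rintro _ ⟨w, rfl⟩
      exact subset_coborder ⟨_, (ofPt_sq sqy.w w)⟩)
  let E : Over i₁ ⥤ Scheme.{u} := chartSys hDa q ⋙ Over.forget S
  haveI : ∀ {l m : Over i₁} (a : l ⟶ m), IsAffineHom (E.map a) := fun a =>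
    isAffineHom_chartMap hDa q a
  obtain ⟨l, (V : ((chartSys hDa q).obj _).left.Opens), hVc, hV⟩ :=
    exists_preimage_eq E _ (chartIsLimitScheme hDa q c hc) O hO
  let a : (yon S).obj ((chartSys hDa q).obj l) ⟶ D.obj l.left := (chartFst hDa q).app l
  have hae : RepWith @Etale a := repWith_of_isPullback (chart_sq hDa q l).flip hqe
  let A : Over S := Over.mk (V.ι ≫ ((chartSys hDa q).obj l).hom)
  let a' : (yon S).obj A ⟶ D.obj l.left :=
    (yon S).map (Over.homMk V.ι rfl : A ⟶ (chartSys hDa q).obj l) ≫ a
  have ha'e : RepWith @Etale a' := repWith_comp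
    ((repWith_yon_map_iff _ _).2 (show Etale V.ι from inferInstance)) hae
  let K : Set (Points (D.obj l.left)) := Points.ofPt a '' SetLike.coe V
  have hK : IsOpen K := isOpenMap_ofPt a hae _ V.isOpen
  have hKr : Set.range (Points.ofPt a') = K := range_ofPt_restrict a V
  obtain ⟨a'', -, he'', hs''⟩ := exists_atlas_openSub_image a' ha'e hKr
  haveI : CompactSpace ↥A.left := isCompact_iff_compactSpace.1 hVc
  -- the refined chart
  obtain ⟨W', w', hW', hwe, hws⟩ := exists_affine_chart
    (show IsQuasiCompactSp (openSub K) from ⟨A, a'', he'', hs'', ‹_›⟩)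
  haveI : IsAffine W'.left := hW'
  let q' : (yon S).obj W' ⟶ D.obj l.left := w' ≫ openSubι K
  have hq'e : RepWith @Etale q' := repWith_comp hwe (repWith_mono (Q := @Etale)
    (fun _ _ v (_ : IsOpenImmersion v) => inferInstance) (repWith_openSubι hK))
  have hq'r : Set.range (Points.map q') = K := by
    rw [show Points.map q' = Points.map (openSubι K) ∘ Points.map w' from
      funext fun x => Points.map_comp _ _ x, Set.range_comp, Set.range_eq_univ.2, Set.image_univ,
      range_openSubι]
    intro x
    obtain ⟨t, rfl⟩ := surjective_ofPt hws x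
    exact ⟨_, (Points.ofPt_eq_map_ofScheme w' t).symm⟩
  let u' := chartPtFst hDa q' c hc
  -- points over the refined chart lie in the neighbourhood
  have sqπ := chartPi_sq hDa c hc q l
  have hKC : ∀ x : Points c.pt, Points.map (c.π.app l.left) x ∈ K → x ∈ coborder R := by
    rintro x ⟨v, hv, hvx⟩
    obtain ⟨p, hp₁, hp₂⟩ := exists_pt_of_isPullback sqπ hvx.symm
    have : p ∈ O := hV ▸ (show (chartPi hDa q c hc l).left p ∈ V from hp₂ ▸ hv)
    exact hp₁ ▸ hOC this
  have hRK : ∀ η : Points Y, Points.map (c.π.app l.left) (Points.map y η) ∈ K := by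
    intro η
    obtain ⟨w, hw⟩ : Points.map (c.π.app i₁) (Points.map y η) ∈ Set.range (Points.ofPt q) := by
      rw [← range_map_eq_range_ofPt, ← Points.map_comp]
      exact hqK ⟨η, rfl⟩
    obtain ⟨p, hp, -⟩ := exists_pt_of_isPullback (chartPt_sq hDa q c hc) hw.symm
    obtain ⟨z, -, hz⟩ := exists_pt_of_isPullback sqy hp.symm
    have hpO : p ∈ O := hzO ⟨z, hz⟩
    rw [← hV] at hpO
    refine ⟨_, hpO, ?_⟩
    rw [← hp]
    exact (ofPt_sq sqπ.w p).symm
  -- the closed subscheme of the refined chart
  have sqz := hy.1.isPullback u'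
  let Z := hy.1.pullback u'
  let z : Z ⟶ chartPt hDa q' c hc := hy.1.snd u'
  haveI hzi : IsImmersion z.left := hy.2 _ _ _ sqz
  haveI : IsClosedImmersion z.left := IsClosedImmersion.of_isPreimmersion _ (by
    have e : Set.range z.left = Points.ofPt u' ⁻¹' R := by
      ext p
      constructor
      · rintro ⟨w, rfl⟩
        exact ⟨_, ofPt_sq sqz.w w⟩
      · rintro ⟨η, hη⟩
        obtain ⟨w, -, hw⟩ := exists_pt_of_isPullback sqz hη
        exact ⟨w, hw⟩
    have e' : Points.ofPt u' ⁻¹' R = Points.ofPt u' ⁻¹' closure R := by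
      refine Set.Subset.antisymm (Set.preimage_mono subset_closure) fun p hp => ?_
      by_contra hpR
      refine hKC (Points.ofPt u' p) ?_ ⟨hp, hpR⟩
      rw [← hq'r, range_map_eq_range_ofPt]
      exact ⟨_, (ofPt_sq (chartPt_sq hDa q' c hc).w p).symm⟩
    rw [e, e']
    exact isClosed_closure.preimage (Points.continuous_ofPt u'))
  haveI hpt : IsAffine (chartPt hDa q' c hc).left := by
    haveI : IsAffineHom (chartPtSnd hDa q' c hc).left :=
      (isAffineMor_iff_repWith.1 (isAffineMor_π hDa c hc l.left)).2 q' _ _ (chartPt_sq hDa q' c hc)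
    exact isAffine_of_isAffineHom (chartPtSnd hDa q' c hc).left
  haveI : IsAffine Z.left := isAffine_of_isAffineHom z.left
  have sqk : ∀ k : Over l.left, IsPullback (hy.1.fst u')
      ((yon S).map (z ≫ (chartCone hDa q' c hc).π.app k)) (y ≫ c.π.app k.left)
      ((chartFst hDa q').app k) := fun k => by
    rw [Functor.map_comp]
    exact sqz.paste_vert (chartPi_sq hDa c hc q' k)
  let E' : Over l.left ⥤ Scheme.{u} := chartSys hDa q' ⋙ Over.forget S
  let h : (Functor.const (Over l.left)).obj Z.left ⟶ E' :=
    { app := fun k => (z ≫ (chartCone hDa q' c hc).π.app k).left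
      naturality := fun j k φ => by
        have e : (chartCone hDa q' c hc).π.app k =
            (chartCone hDa q' c hc).π.app j ≫ (chartSys hDa q').map φ := ((chartCone hDa q' c hc).w φ).symm
        exact (Category.id_comp _).trans ((congrArg (fun u => (z ≫ u).left) e).trans
          (Category.assoc _ _ _).symm) }
  haveI : ∀ k, IsAffine (E'.obj k) := fun k => isAffine_chartSys hDa q' k
  haveI : ∀ k, IsAffine (((Functor.const (Over l.left)).obj Z.left).obj k) := fun _ => ‹IsAffine Z.left›
  haveI : ∀ k, LocallyOfFiniteType (h.app k) := fun k =>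
    (hlft k.left) (hy.1.fst u') ((chartFst hDa q').app k) (z ≫ (chartCone hDa q' c hc).π.app k)
      (repWith_of_isPullback (sqk k).flip (repWith_of_isPullback (chart_sq hDa q' k).flip hq'e))
      (repWith_of_isPullback (chart_sq hDa q' k).flip hq'e) (sqk k).w
  haveI : ∀ {j k : Over l.left} (b : j ⟶ k), IsAffineHom (((Functor.const (Over l.left)).obj Z.left).map b) :=
    fun b => inferInstanceAs (IsAffineHom (𝟙 Z.left))
  obtain ⟨k, hk⟩ := LimH13.exists_isClosedImmersion_app_of_isAffine h
    (LimH13.isLimitConstCone (I := Over l.left) Z.left) (chartIsLimitScheme hDa q' c hc)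
    (fun {j m} b => by
      haveI : IsAffineHom (pullback.fst (h.app m) (E'.map b)) :=
        MorphismProperty.pullback_fst _ _ (isAffineHom_chartMap hDa q' b)
      haveI : IsClosedImmersion (LimH13.graphMap h b ≫ pullback.fst (h.app m) (E'.map b)) := by
        rw [LimH13.graphMap_fst]
        exact inferInstanceAs (IsClosedImmersion (𝟙 Z.left))
      exact IsClosedImmersion.of_comp (LimH13.graphMap h b) (pullback.fst (h.app m) (E'.map b)))
    z.left (fun k => (Category.id_comp _).symm)
  refine ⟨k.left, fun i φ => ?_⟩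
  let m : Over l.left := Over.mk (φ ≫ k.hom)
  let b : m ⟶ k := Over.homMk φ rfl
  haveI hm : IsClosedImmersion (h.app m) := by
    haveI : IsAffineHom (E'.map b) := isAffineHom_chartMap hDa q' b
    haveI : IsClosedImmersion (h.app m ≫ E'.map b) := by
      have e : h.app m ≫ E'.map b = h.app k := (h.naturality b).symm.trans (Category.id_comp _)
      rw [e]; exact hk
    exact IsClosedImmersion.of_comp (h.app m) (E'.map b)
  -- descend along the etale chart of its image
  let K' : Set (Points (D.obj m.left)) := Set.range (Points.ofPt ((chartFst hDa q').app m))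
  have hme : RepWith @Etale ((chartFst hDa q').app m) :=
    repWith_of_isPullback (chart_sq hDa q' m).flip hq'e
  have hK' : IsOpen K' := by
    have := isOpenMap_ofPt _ hme _ isOpen_univ
    rwa [Set.image_univ] at this
  obtain ⟨v, hv, hve, hvs⟩ := exists_atlas_openSub_image ((chartFst hDa q').app m) hme
    (rfl : Set.range (Points.ofPt ((chartFst hDa q').app m)) = K')
  obtain ⟨r, hr⟩ := exists_factor_openSub (W := K') (y ≫ c.π.app m.left) (by
    rintro _ ⟨η, rfl⟩
    rw [Points.map_comp]
    obtain ⟨w, hw⟩ : Points.map (c.π.app l.left) (Points.map y η) ∈ Set.range (Points.ofPt q') := by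
      rw [← range_map_eq_range_ofPt, hq'r]; exact hRK η
    obtain ⟨p, hp, -⟩ := exists_pt_of_isPullback (chartPt_sq hDa q' c hc) hw.symm
    refine ⟨(chartPi hDa q' c hc m).left p, ?_⟩
    rw [← hp]
    exact (ofPt_sq (chartPi_sq hDa c hc q' m).w p).symm)
  have hrep : Representable r := by
    have sq := isPullback_of_mono r (openSubι K')
    rw [hr] at sq
    exact (repWith_of_isPullback sq (repWith_comp (repWith_top hy.1) (repWith_top
      (isAffineMor_iff_repWith.1 (isAffineMor_π hDa c hc m.left)).1))).1
  have sqr : IsPullback (hy.1.fst u') ((yon S).map (z ≫ (chartCone hDa q' c hc).π.app m)) r v := by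
    refine isPullback_of_comp_mono' (openSubι K') ?_
    rw [hr, hv]
    exact sqk m
  have := isLocalAtTarget_fppf_isClosedImmersion.{u}
  have := isLocallySurjective_of_etale hve hvs
  have hcl : RepWith @IsClosedImmersion r :=
    repWith_of_locallySurjective hrep sqr _ ((repWith_yon_map_iff _ _).2 hm)
  rw [show y ≫ c.π.app i = r ≫ openSubι K' from hr.symm]
  exact repWith_comp (repWith_mono (Q := @IsImmersion) (fun _ _ e (_ : IsClosedImmersion e) => inferInstance) hcl)
    (repWith_mono (Q := @IsImmersion) (fun _ _ e (_ : IsOpenImmersion e) => inferInstance) (repWith_openSubι hK'))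

end Groth.Agent.LimSys14
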