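import Groth.Agent.Lib.LimSys14.Descend
import Groth.Agent.Lib.AlgSpace.DiagChart

/-!
# Maps between chart systems; self fibre products of charts
-/

set_option autoImplicit false
set_option backward.isDefEq.respectTransparency.types false
set_option linter.style.haveILetI false

universe u

open CategoryTheory CategoryTheory.Limits AlgebraicGeometry Opposite

noncomputable section

namespace Groth.Agent.LimSys14

open AlgSp Groth.Agent.AlgSpace

variable {S : Scheme.{u}} {I : Type u} [SmallCategory I] {D : I ⥤ Sp S}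
  (hDa : ∀ (i j : I) (φ : i ⟶ j), IsAffineMor (D.map φ)) {i₀ : I} {W W' : Over S}
  (q : (yon S).obj W ⟶ D.obj i₀) {q' : (yon S).obj W' ⟶ D.obj i₀} (r : W' ⟶ W)
  (hr : q' = (yon S).map r ≫ q)

include hr in
theorem chartLift_cond (j : Over i₀) :
    (chartFst hDa q').app j ≫ D.map j.hom = (yon S).map ((chartSnd hDa q').app j ≫ r) ≫ q := by
  refine (chart_sq hDa q' j).w.trans ((congrArg (_ ≫ ·) hr).trans ?_)
  rw [Functor.map_comp, Category.assoc]

/-- The map between the stages of two chart systems. -/
def chartLiftApp (j : Over i₀) : (chartSys hDa q').obj j ⟶ (chartSys hDa q).obj j :=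
  (yon S).preimage ((chart_sq hDa q j).lift ((chartFst hDa q').app j)
    ((yon S).map ((chartSnd hDa q').app j ≫ r)) (chartLift_cond hDa q r hr j))

theorem chartLiftApp_fst (j : Over i₀) :
    (yon S).map (chartLiftApp hDa q r hr j) ≫ (chartFst hDa q).app j = (chartFst hDa q').app j := by
  rw [chartLiftApp, Functor.map_preimage]; exact IsPullback.lift_fst _ _ _ _

theorem chartLiftApp_snd (j : Over i₀) :
    chartLiftApp hDa q r hr j ≫ (chartSnd hDa q).app j = (chartSnd hDa q').app j ≫ r := by
  apply (yon S).map_injective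
  rw [Functor.map_comp, chartLiftApp, Functor.map_preimage]
  exact IsPullback.lift_snd _ _ _ _

theorem chartLiftApp_nat {j k : Over i₀} (φ : j ⟶ k) :
    (chartSys hDa q').map φ ≫ chartLiftApp hDa q r hr k =
      chartLiftApp hDa q r hr j ≫ (chartSys hDa q).map φ := by
  apply (yon S).map_injective
  apply (chart_sq hDa q k).hom_ext
  · rw [Functor.map_comp, Functor.map_comp, Category.assoc, Category.assoc]
    exact (congrArg (_ ≫ ·) (chartLiftApp_fst hDa q r hr k)).trans ((chartMapHom_fst hDa q' φ).trans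
      ((congrArg (· ≫ _) (chartLiftApp_fst hDa q r hr j).symm).trans ((Category.assoc _ _ _).trans
        (congrArg (_ ≫ ·) (chartMapHom_fst hDa q φ).symm))))
  · rw [← Functor.map_comp, ← Functor.map_comp]
    refine congrArg (yon S).map ?_
    rw [Category.assoc, Category.assoc, chartLiftApp_snd]
    exact ((Category.assoc _ _ _).symm.trans (congrArg (· ≫ r) (chartMapHom_snd hDa q' φ))).trans
      ((chartLiftApp_snd hDa q r hr j).symm.trans
        (congrArg (_ ≫ ·) (chartMapHom_snd hDa q φ).symm))

/-- The map between two chart systems. -/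
def chartLift : chartSys hDa q' ⟶ chartSys hDa q where
  app := chartLiftApp hDa q r hr
  naturality _ _ φ := chartLiftApp_nat hDa q r hr φ

theorem chartLift_sq (j : Over i₀) :
    IsPullback ((chartLift hDa q r hr).app j) ((chartSnd hDa q').app j)
      ((chartSnd hDa q).app j) r := by
  refine IsPullback.of_map (yon S) (chartLiftApp_snd hDa q r hr j) (IsPullback.of_right ?_
    (((yon S).map_comp _ _).symm.trans ((congrArg (yon S).map (chartLiftApp_snd hDa q r hr j)).trans
      ((yon S).map_comp _ _))) (chart_sq hDa q j))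
  have h := chart_sq hDa q' j
  have e : (yon S).map ((chartLift hDa q r hr).app j) ≫ (chartFst hDa q).app j = (chartFst hDa q').app j :=
    chartLiftApp_fst hDa q r hr j
  rw [e]
  exact hr ▸ h

theorem chartLift_map_sq {j k : Over i₀} (φ : j ⟶ k) :
    IsPullback ((chartSys hDa q').map φ) ((chartLift hDa q r hr).app j)
      ((chartLift hDa q r hr).app k) ((chartSys hDa q).map φ) := by
  refine (IsPullback.of_bot ?_ (chartLiftApp_nat hDa q r hr φ).symm (chartLift_sq hDa q r hr k)).flip
  have h := chartLift_sq hDa q r hr j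
  have e1 : (chartSys hDa q').map φ ≫ (chartSnd hDa q').app k = (chartSnd hDa q').app j :=
    chartMapHom_snd hDa q' φ
  have e2 : (chartSys hDa q).map φ ≫ (chartSnd hDa q).app k = (chartSnd hDa q).app j :=
    chartMapHom_snd hDa q φ
  rw [e1, e2]
  exact h

variable [IsCofiltered I] (c : Cone D) (hc : IsLimit c)

include hr in
theorem chartPtLift_cond : chartPtFst hDa q' c hc ≫ c.π.app i₀ =
    (yon S).map (chartPtSnd hDa q' c hc ≫ r) ≫ q := by
  refine (chartPt_sq hDa q' c hc).w.trans ((congrArg (_ ≫ ·) hr).trans ?_)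
  rw [Functor.map_comp, Category.assoc]

/-- The map between the limits of two chart systems. -/
def chartPtLift : chartPt hDa q' c hc ⟶ chartPt hDa q c hc :=
  (yon S).preimage ((chartPt_sq hDa q c hc).lift (chartPtFst hDa q' c hc)
    ((yon S).map (chartPtSnd hDa q' c hc ≫ r)) (chartPtLift_cond hDa q r hr c hc))

theorem chartPtLift_fst :
    (yon S).map (chartPtLift hDa q r hr c hc) ≫ chartPtFst hDa q c hc = chartPtFst hDa q' c hc := by
  rw [chartPtLift, Functor.map_preimage]; exact IsPullback.lift_fst _ _ _ _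

theorem chartPtLift_snd :
    chartPtLift hDa q r hr c hc ≫ chartPtSnd hDa q c hc = chartPtSnd hDa q' c hc ≫ r := by
  apply (yon S).map_injective
  rw [Functor.map_comp, chartPtLift, Functor.map_preimage]
  exact IsPullback.lift_snd _ _ _ _

theorem chartPtLift_π (j : Over i₀) :
    chartPtLift hDa q r hr c hc ≫ chartPi hDa q c hc j =
      chartPi hDa q' c hc j ≫ chartLiftApp hDa q r hr j := by
  apply (yon S).map_injective
  apply (chart_sq hDa q j).hom_ext
  · rw [Functor.map_comp, Functor.map_comp, Category.assoc, Category.assoc]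
    exact (congrArg (_ ≫ ·) (chartPi_fst hDa q c hc j)).trans ((Category.assoc _ _ _).symm.trans
      ((congrArg (· ≫ _) (chartPtLift_fst hDa q r hr c hc)).trans ((chartPi_fst hDa q' c hc j).symm.trans
        (congrArg (_ ≫ ·) (chartLiftApp_fst hDa q r hr j).symm))))
  · rw [← Functor.map_comp, ← Functor.map_comp]
    refine congrArg (yon S).map ?_
    rw [Category.assoc, Category.assoc]
    exact (congrArg (_ ≫ ·) ((yon S).map_injective (((yon S).map_comp _ _).trans (chartPi_snd hDa q c hc j)))).trans ((chartPtLift_snd hDa q r hr c hc).trans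
      ((congrArg (· ≫ r) ((yon S).map_injective (((yon S).map_comp _ _).trans (chartPi_snd hDa q' c hc j))).symm).trans ((Category.assoc _ _ _).trans
        (congrArg (_ ≫ ·) (chartLiftApp_snd hDa q r hr j).symm))))

omit [IsCofiltered I] in
/-- The self product of a base change of a chart. -/
theorem isPullback_self {C : Type*} [Category C] {X X' A A' B B' : C} {p : X' ⟶ X} {q : A ⟶ X}
    {a : A' ⟶ X'} {π : A' ⟶ A} (sqA : IsPullback a π p q) {r₁ r₂ : B ⟶ A}
    (sqB : IsPullback r₁ r₂ q q) {b : B' ⟶ X'} {πB : B' ⟶ B}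
    (sqB' : IsPullback b πB p (r₁ ≫ q)) {l₁ l₂ : B' ⟶ A'}
    (h₁ : l₁ ≫ a = b) (h₁' : l₁ ≫ π = πB ≫ r₁) (h₂ : l₂ ≫ a = b) (h₂' : l₂ ≫ π = πB ≫ r₂) :
    IsPullback l₁ l₂ a a := by
  have s1 : IsPullback l₁ πB π r₁ := IsPullback.of_right (by rw [h₁]; exact sqB') h₁' sqA
  have s2 : IsPullback l₁ (πB ≫ r₂) (π ≫ q) q := s1.paste_vert sqB
  rw [← h₂', ← sqA.w] at s2
  exact IsPullback.of_bot s2 (h₁.trans h₂.symm) sqA

/-- The diagonal of a morphism to a scheme read on a chart of the source. -/
theorem diagonal_chart {X : Sp S} {V U R : Over S} (f : X ⟶ (yon S).obj V)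
    (a : (yon S).obj U ⟶ X) (ω : U ⟶ V) (hω : a ≫ f = (yon S).map ω) (l₁ l₂ : R ⟶ U)
    (hl : l₁.left ≫ ω.left = l₂.left ≫ ω.left)
    (sq : IsPullback ((yon S).map l₁) ((yon S).map l₂) a a) :
    ∃ (δ : R ⟶ overPullback ω ω) (fst : (yon S).obj R ⟶ X)
      (b : (yon S).obj (overPullback ω ω) ⟶ pullback f f),
      IsPullback fst ((yon S).map δ) (pullback.diagonal f) b ∧
      δ.left = pullback.lift l₁.left l₂.left hl ∧
      ((RepWith @Etale a ∧ RepWith @Surjective a) → RepWith @Etale b ∧ RepWith @Surjective b) := by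
  have sqT : IsPullback ((yon S).map (overPullbackFst ω ω)) ((yon S).map (overPullbackSnd ω ω))
      (a ≫ f) (a ≫ f) := by
    rw [hω]; exact (overPullback_sq ω ω).map (yon S)
  let e := sqT.isoPullback
  let m : pullback (a ≫ f) (a ≫ f) ⟶ pullback f f :=
    pullback.map (a ≫ f) (a ≫ f) f f a a (𝟙 _) (Category.comp_id _) (Category.comp_id _)
  let δ : R ⟶ overPullback ω ω := (overPullback_sq ω ω).lift l₁ l₂ (Over.OverMorphism.ext hl)
  refine ⟨δ, (yon S).map l₁ ≫ a, e.hom ≫ m, ?_, ?_, fun h => ?_⟩
  · refine IsPullback.of_iso (isPullback_diagonal_chart f a sq) (Iso.refl _) (Iso.refl _) e.symm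
      (Iso.refl _) (by simp) ?_ (by simp) ?_
    · rw [Iso.refl_hom, Category.id_comp, ← cancel_mono e.hom, Category.assoc, Iso.symm_hom,
        e.inv_hom_id, Category.comp_id]
      apply pullback.hom_ext
      · rw [pullback.lift_fst, Category.assoc, sqT.isoPullback_hom_fst, ← Functor.map_comp,
          IsPullback.lift_fst]
      · rw [pullback.lift_snd, Category.assoc, sqT.isoPullback_hom_snd, ← Functor.map_comp,
          IsPullback.lift_snd]
    · simp [m]
  · apply pullback.hom_ext
    · rw [pullback.lift_fst]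
      exact congrArg Over.Hom.left ((overPullback_sq ω ω).lift_fst l₁ l₂ (Over.OverMorphism.ext hl))
    · rw [pullback.lift_snd]
      exact congrArg Over.Hom.left ((overPullback_sq ω ω).lift_snd l₁ l₂ (Over.OverMorphism.ext hl))
  · exact ⟨(repWith_respectsIso_left e.hom).2
      (MorphismProperty.pullbackMap (P := RepWith @Etale) h.1 h.1 rfl rfl),
      (repWith_respectsIso_left e.hom).2
      (MorphismProperty.pullbackMap (P := RepWith @Surjective) h.2 h.2 rfl rfl)⟩

end Groth.Agent.LimSys14
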