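import Groth.Agent.Lib.LimSys14.Descend
import Groth.Agent.Lib.AlgSpace.Sub
import Groth.Agent.Lib.AlgSpace.UI
import Groth.Agent.Lib.AlgSpace.DiagChart
import Groth.Agent.Lib.AlgSpace.LqfScheme
import Groth.Agent.Lib.AlgSpace.EtaleApps
import Groth.Agent.Lib.AlgSpDescent.Instances
import Groth.Agent.Lib.Descend.EtaleGlobal
import Groth.Agent.Lib.Descend.Immersion
import Groth.Agent.Lib.Descend.QuasiFinite
import Groth.Agent.Lib.Descend.Props
import Groth.Agent.Lib.Descend19.Flat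
import Groth.Agent.Lib.LimH13.Descend

/-!
# Properties of morphisms of algebraic spaces descend along limits
-/

set_option autoImplicit false
set_option backward.isDefEq.respectTransparency.types false
set_option linter.style.haveILetI false

universe u

open CategoryTheory CategoryTheory.Limits AlgebraicGeometry Opposite

noncomputable section

namespace Groth.Agent.LimSys14

open AlgSp Groth.Agent.AlgSpace

/-- A point of `h_T` under a map of schemes. -/
theorem map_ofScheme {S : Scheme.{u}} {T T' : Over S} (φ : T ⟶ T') (t : ↥T.left) :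
    Points.map ((yon S).map φ) (Points.ofScheme T t) = Points.ofScheme T' (φ.left t) := by
  rw [← Points.ofPt_eq_map_ofScheme, Groth.Agent.AlgSpDecent.ofPt_map_eq]

variable {S : Scheme.{u}} [QuasiSeparatedSpace S] {I : Type u} [SmallCategory I] [IsCofiltered I]
  {D : I ⥤ Sp S} (hD : ∀ i, IsAlgSpace (D.obj i))
  (hDa : ∀ (i j : I) (φ : i ⟶ j), IsAffineMor (D.map φ)) (c : Cone D) (hc : IsLimit c) {i₀ : I}

/-- A property holds for the base changes of `f₀` to some stage above `i₀`. -/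
def Descends (G : MorphismProperty (Sp S)) {X₀ Y₀ : Sp S} (f₀ : X₀ ⟶ Y₀) (b₀ : Y₀ ⟶ D.obj i₀) : Prop :=
  ∃ (i : I) (φ : i ⟶ i₀), ∀ (Xi Yi : Sp S) (fi : Xi ⟶ Yi) (pYi : Yi ⟶ Y₀) (qYi : Yi ⟶ D.obj i)
    (_ : IsPullback pYi qYi b₀ (D.map φ)) (pXi : Xi ⟶ X₀) (_ : IsPullback pXi fi f₀ pYi), G fi

variable {X₀ Y₀ : Sp S} {f₀ : X₀ ⟶ Y₀} {b₀ : Y₀ ⟶ D.obj i₀} (hX₀ : IsAlgSpace X₀) (hY₀ : IsAlgSpace Y₀)
  (hXc : IsQuasiCompactSp X₀) (hXs : IsQuasiSeparatedSp X₀)
  (hYc : IsQuasiCompactSp Y₀) (hYs : IsQuasiSeparatedSp Y₀)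
  {X Y : Sp S} {f : X ⟶ Y} {pY : Y ⟶ Y₀} {qY : Y ⟶ c.pt} (hY : IsPullback pY qY b₀ (c.π.app i₀))
  {pX : X ⟶ X₀} (hX : IsPullback pX f f₀ pY)

include hD hDa hc hX₀ hY₀ hXc hYc hYs hY hX in
/-- Descent of a property read on affine charts. -/
theorem descend_chart (G : MorphismProperty (Sp S)) (Q₀ Pr : MorphismProperty Scheme.{u})
    (hQ : ∀ {U V : Over S} {h : U ⟶ V}, IsChart f₀ h → Q₀ h.left)
    (hin : ∀ {U V : Over S} {h : U ⟶ V}, IsChart f h → Pr h.left)
    (hout : ∀ {Xi Yi : Sp S} {fi : Xi ⟶ Yi}, IsAlgSpace Xi → IsAlgSpace Yi →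
      ∀ {U V : Over S} {h : U ⟶ V}, IsChart fi h → Pr h.left → G fi)
    (hdesc : ∀ ⦃J : Type u⦄ [SmallCategory J] [IsCofiltered J] ⦃T X' : Scheme.{u}⦄ [IsAffine T]
      [IsAffine X'] (g' : X' ⟶ T), Q₀ g' → ∀ {E : J ⥤ Scheme.{u}} (t : E ⟶ (Functor.const J).obj T)
      [∀ k, IsAffineHom (t.app k)] (e : Cone E) (q : e.pt ⟶ T) (P : Scheme.{u}) (p : P ⟶ X')
      (g : P ⟶ e.pt), IsLimit e → (∀ k, e.π.app k ≫ t.app k = q) → IsPullback p g g' q → Pr g →
      ∃ k, Pr (pullback.snd g' (t.app k))) :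
    Descends G f₀ b₀ := by
  obtain ⟨V₀, U₀, v, h, w, hV, hU, hve, hvs, hwe, hws, hw⟩ :=
    exists_affine_isChart f₀ hX₀ hY₀ hXc hYc hYs
  have sqP := IsPullback.of_hasPullback f₀ v
  obtain ⟨b', hb'⟩ := exists_limit_sq hDa c hc b₀ hY v
  have hQ₀ : Q₀ h.left := hQ ⟨_, _, _, v, w, sqP, hve, hvs, hwe, hws, hw⟩
  have hg : Pr (overPullbackSnd h (chartPtSnd hDa (v ≫ b₀) c hc)).left :=
    hin (isChart_baseChange sqP hve hvs hwe hws hw hX hb' (overPullback_sq h _))
  have := hdesc h.left hQ₀ (chartT hDa (v ≫ b₀)) ((Over.forget S).mapCone (chartCone hDa (v ≫ b₀) c hc))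
    (chartPtSnd hDa (v ≫ b₀) c hc).left _ (pullback.fst _ _)
    (overPullbackSnd h (chartPtSnd hDa (v ≫ b₀) c hc)).left (chartIsLimitScheme hDa (v ≫ b₀) c hc)
    (chartCone_T hDa (v ≫ b₀) c hc) (IsPullback.of_hasPullback _ _) hg
  obtain ⟨i, φ, V, U, s, r, h', sqU, hPr, hsq⟩ := exists_stage hDa b₀ v h Pr this
  refine ⟨i, φ, fun Xi Yi fi pYi qYi hYi pXi hXi => ?_⟩
  obtain ⟨bi, hbi⟩ := hsq Yi pYi qYi hYi
  have hYia := isAlgSpace_pullback (hD i₀) hY₀ (hD i) hYi
  exact hout (isAlgSpace_pullback hY₀ hX₀ hYia hXi) hYia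
    (isChart_baseChange sqP hve hvs hwe hws hw hXi hbi sqU) hPr

include hD hDa hc hX₀ hY₀ hXc hXs hYc hYs hY hX in
/-- Descent of a property of representable morphisms. -/
theorem descend_repChart (G : MorphismProperty (Sp S)) (Q₀ Pr : MorphismProperty Scheme.{u})
    (hf₀ : Representable f₀)
    (hQ : ∀ {U V : Over S} {h : U ⟶ V}, IsRepChart f₀ h → Q₀ h.left)
    (hin : ∀ {U V : Over S} {h : U ⟶ V}, IsRepChart f h → Pr h.left)
    (hout : ∀ {Xi Yi : Sp S} {fi : Xi ⟶ Yi}, IsAlgSpace Xi → IsAlgSpace Yi → Representable fi →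
      ∀ {U V : Over S} {h : U ⟶ V}, IsRepChart fi h → Pr h.left → G fi)
    (hdesc : ∀ ⦃J : Type u⦄ [SmallCategory J] [IsCofiltered J] ⦃T X' : Scheme.{u}⦄ [IsAffine T]
      (g' : X' ⟶ T) [QuasiCompact g'] [QuasiSeparated g'], Q₀ g' →
      ∀ {E : J ⥤ Scheme.{u}} (t : E ⟶ (Functor.const J).obj T)
      [∀ k, IsAffineHom (t.app k)] (e : Cone E) (q : e.pt ⟶ T) (P : Scheme.{u}) (p : P ⟶ X')
      (g : P ⟶ e.pt), IsLimit e → (∀ k, e.π.app k ≫ t.app k = q) → IsPullback p g g' q → Pr g →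
      ∃ k, Pr (pullback.snd g' (t.app k))) :
    Descends G f₀ b₀ := by
  obtain ⟨V₀, U₀, v, h, fst, hV, sqP, hve, hvs, hqc, hqs⟩ :=
    exists_isRepChart f₀ hX₀ hY₀ hf₀ hXc hXs hYc hYs
  obtain ⟨b', hb'⟩ := exists_limit_sq hDa c hc b₀ hY v
  have hQ₀ : Q₀ h.left := hQ ⟨_, v, sqP, hve, hvs⟩
  have hg : Pr (overPullbackSnd h (chartPtSnd hDa (v ≫ b₀) c hc)).left :=
    hin (isRepChart_baseChange sqP hve hvs hX hb' (overPullback_sq h _))
  have := hdesc h.left hQ₀ (chartT hDa (v ≫ b₀)) ((Over.forget S).mapCone (chartCone hDa (v ≫ b₀) c hc))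
    (chartPtSnd hDa (v ≫ b₀) c hc).left _ (pullback.fst _ _)
    (overPullbackSnd h (chartPtSnd hDa (v ≫ b₀) c hc)).left (chartIsLimitScheme hDa (v ≫ b₀) c hc)
    (chartCone_T hDa (v ≫ b₀) c hc) (IsPullback.of_hasPullback _ _) hg
  obtain ⟨i, φ, V, U, s, r, h', sqU, hPr, hsq⟩ := exists_stage hDa b₀ v h Pr this
  refine ⟨i, φ, fun Xi Yi fi pYi qYi hYi pXi hXi => ?_⟩
  obtain ⟨bi, hbi⟩ := hsq Yi pYi qYi hYi
  have hYia := isAlgSpace_pullback (hD i₀) hY₀ (hD i) hYi
  exact hout (isAlgSpace_pullback hY₀ hX₀ hYia hXi) hYia (MorphismProperty.of_isPullback hXi hf₀)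
    (isRepChart_baseChange sqP hve hvs hXi hbi sqU) hPr

section Charts

variable {P Q : Sp S} {g : P ⟶ Q} {U V : Over S} {h : U ⟶ V}

/-- Surjectivity read on a chart. -/
theorem surjective_of_isChart (hch : IsChart g h) (hg : IsSurjectiveMor g) : Surjective h.left := by
  obtain ⟨R, fst, snd, b, w, sq, -, -, -, hws, hw⟩ := hch
  have h1 : Function.Surjective (Points.map snd) := surjective_of_isPullback sq hg
  have h2 := h1.comp (surjective_map_of_repWith hws)
  refine ⟨fun t => ?_⟩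
  obtain ⟨z, hz⟩ := h2 (Points.ofScheme V t)
  obtain ⟨u, rfl⟩ := (Points.schemeEquiv U).surjective z
  refine ⟨u, (Points.schemeEquiv V).injective ?_⟩
  simp only [Function.comp_apply, ← Points.map_comp, hw] at hz
  exact (map_ofScheme h u).symm.trans hz

theorem isSurjectiveMor_of_isChart (hch : IsChart g h) (hh : Surjective h.left) : IsSurjectiveMor g := by
  obtain ⟨R, fst, snd, b, w, sq, -, hbs, -, -, hw⟩ := hch
  intro y
  obtain ⟨z, rfl⟩ := surjective_map_of_repWith hbs y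
  obtain ⟨v, rfl⟩ := (Points.schemeEquiv V).surjective z
  obtain ⟨u, rfl⟩ := h.left.surjective v
  refine ⟨Points.map (w ≫ fst) (Points.ofScheme U u), ?_⟩
  rw [← Points.map_comp, Category.assoc, sq.w, ← Category.assoc, hw, Points.map_comp]
  exact congrArg (Points.map b) (map_ofScheme h u)

theorem isRepChart_isChart (hch : IsRepChart g h) : IsChart g h := by
  obtain ⟨fst, b, sq, hbe, hbs⟩ := hch
  exact ⟨_, fst, _, b, 𝟙 _, sq, hbe, hbs, repWith_id _ U, repWith_id _ U, Category.id_comp _⟩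

end Charts

include hD hDa hc hX₀ hY₀ hXc hYc hYs hY hX in
/-- Properties étale local on source and target. -/
theorem descend_locP (Q₀ Pr : MorphismProperty Scheme.{u}) [EtaleLocal Pr] (hf₀ : LocP Q₀ f₀)
    (hf : LocP Pr f)
    (hdesc : ∀ ⦃J : Type u⦄ [SmallCategory J] [IsCofiltered J] ⦃T X' : Scheme.{u}⦄ [IsAffine T]
      [IsAffine X'] (g' : X' ⟶ T), Q₀ g' → ∀ {E : J ⥤ Scheme.{u}} (t : E ⟶ (Functor.const J).obj T)
      [∀ k, IsAffineHom (t.app k)] (e : Cone E) (q : e.pt ⟶ T) (P : Scheme.{u}) (p : P ⟶ X')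
      (g : P ⟶ e.pt), IsLimit e → (∀ k, e.π.app k ≫ t.app k = q) → IsPullback p g g' q → Pr g →
      ∃ k, Pr (pullback.snd g' (t.app k))) :
    Descends (LocP Pr) f₀ b₀ :=
  descend_chart hD hDa c hc hX₀ hY₀ hXc hYc hYs hY hX _ Q₀ Pr (fun hch => prop_of_isChart hch hf₀)
    (fun hch => prop_of_isChart hch hf) (fun _ _ => fun hch hh => locP_of_isChart hch hh) hdesc

include hD hDa hc hX₀ hY₀ hXc hYc hYs hY hX in
theorem descend_smooth (hf₀ : LocP @LocallyOfFinitePresentation f₀) (hf : LocP @Smooth f) :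
    Descends (LocP @Smooth) f₀ b₀ :=
  descend_locP hD hDa c hc hX₀ hY₀ hXc hYc hYs hY hX @LocallyOfFinitePresentation @Smooth hf₀ hf
    fun J _ _ T X' _ _ g' hg' E t _ e q P p g he hq hP hg => by
      haveI := hg'; haveI := hg
      exact Descend.exists_smooth he hq hP

include hD hDa hc hX₀ hY₀ hXc hYc hYs hY hX in
theorem descend_etale (hf₀ : LocP @LocallyOfFinitePresentation f₀) (hf : LocP @Etale f) :
    Descends (LocP @Etale) f₀ b₀ :=
  descend_locP hD hDa c hc hX₀ hY₀ hXc hYc hYs hY hX @LocallyOfFinitePresentation @Etale hf₀ hf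
    fun J _ _ T X' _ _ g' hg' E t _ e q P p g he hq hP hg => by
      haveI := hg'; haveI := hg
      exact Descend.exists_etale he hq hP

include hD hDa hc hX₀ hY₀ hXc hYc hYs hY hX in
theorem descend_flat (hf₀ : LocP @LocallyOfFinitePresentation f₀) (hf : LocP @Flat f) :
    Descends (LocP @Flat) f₀ b₀ :=
  descend_locP hD hDa c hc hX₀ hY₀ hXc hYc hYs hY hX @LocallyOfFinitePresentation @Flat hf₀ hf
    fun J _ _ T X' _ _ g' hg' E t _ e q P p g he hq hP hg => by
      haveI := hg'; haveI := hg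
      exact Descend19.exists_flat he hq hP

include hD hDa hc hX₀ hY₀ hXc hYc hYs hY hX in
theorem descend_locallyQuasiFinite (hf₀ : LocP @LocallyOfFiniteType f₀)
    (hf : LocP @LocallyQuasiFinite f) : Descends (LocP @LocallyQuasiFinite) f₀ b₀ :=
  descend_locP hD hDa c hc hX₀ hY₀ hXc hYc hYs hY hX @LocallyOfFiniteType @LocallyQuasiFinite hf₀ hf
    fun J _ _ T X' _ _ g' hg' E t _ e q P p g he hq hP hg => by
      haveI := hg'; haveI := hg
      exact Descend.exists_locallyQuasiFinite he hq hP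

include hD hDa hc hX₀ hY₀ hXc hYc hYs hY hX in
theorem descend_surjective (hf₀ : LocP @LocallyOfFinitePresentation f₀) (hf : IsSurjectiveMor f) :
    Descends IsSurjectiveMor f₀ b₀ :=
  descend_chart hD hDa c hc hX₀ hY₀ hXc hYc hYs hY hX _ @LocallyOfFinitePresentation @Surjective
    (fun hch => prop_of_isChart hch hf₀) (fun hch => surjective_of_isChart hch hf)
    (fun _ _ => fun hch hh => isSurjectiveMor_of_isChart hch hh)
    fun J _ _ T X' _ _ g' hg' E t _ e q P p g he hq hP hg => by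
      haveI := hg'; haveI := hg
      exact Descend.exists_surjective he hq hP

include hD hDa hc hX₀ hY₀ hXc hXs hYc hYs hY hX in
theorem descend_closedImmersion_of_representable (hr : Representable f₀)
    (hf₀ : LocP @LocallyOfFiniteType f₀) (hf : RepWith @IsClosedImmersion f) :
    Descends (RepWith @IsClosedImmersion) f₀ b₀ :=
  descend_repChart hD hDa c hc hX₀ hY₀ hXc hXs hYc hYs hY hX _ @LocallyOfFiniteType @IsClosedImmersion hr
    (fun hch => prop_of_isChart (isRepChart_isChart hch) hf₀) (fun hch => prop_of_isRepChart hch hf)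
    (fun _ _ hri => fun hch hh => by
      have := isLocalAtTarget_fppf_isClosedImmersion.{u}
      exact repWith_of_isRepChart hri hch hh)
    fun J _ _ T X' _ g' _ _ hg' E t _ e q P p g he hq hP hg => by
      haveI := hg'; haveI := hg
      exact Descend.exists_isClosedImmersion he hq hP

include hD hDa hc hX₀ hY₀ hXc hXs hYc hYs hY hX in
theorem descend_finite_of_representable (hr : Representable f₀)
    (hf₀ : LocP @LocallyOfFiniteType f₀) (hf : IsFiniteMor f) :
    Descends IsFiniteMor f₀ b₀ :=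
  descend_repChart hD hDa c hc hX₀ hY₀ hXc hXs hYc hYs hY hX _ @LocallyOfFiniteType @IsFinite hr
    (fun hch => prop_of_isChart (isRepChart_isChart hch) hf₀)
    (fun hch => prop_of_isRepChart hch (isFiniteMor_iff_repWith.1 hf))
    (fun _ _ _ => fun ⟨fst, b, sq, hbe, hbs⟩ hh =>
      isFiniteMor_of_etale_cover _ b hbe hbs sq (isFiniteMor_iff_repWith.2 ((repWith_yon_map_iff _ _).2 hh)))
    fun J _ _ T X' _ g' _ _ hg' E t _ e q P p g he hq hP hg => by
      haveI := hg'; haveI := hg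
      exact LimH13.exists_isFinite he hq hP

include hD hDa hc hX₀ hY₀ hXc hXs hYc hYs hY hX in
/-- Being an isomorphism, for representable morphisms. -/
theorem descend_iso_of_representable (hr : Representable f₀)
    (hf₀ : LocP @LocallyOfFinitePresentation f₀) [IsIso f] :
    Descends (fun _ _ g => IsIso g) f₀ b₀ :=
  descend_repChart hD hDa c hc hX₀ hY₀ hXc hXs hYc hYs hY hX _ @LocallyOfFinitePresentation
    (@IsOpenImmersion ⊓ @Surjective) hr
    (fun hch => prop_of_isChart (isRepChart_isChart hch) hf₀)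
    (fun hch => ⟨prop_of_isRepChart hch (MorphismProperty.of_isIso (RepWith (S := S) @IsOpenImmersion) f),
      prop_of_isRepChart hch (MorphismProperty.of_isIso (RepWith (S := S) @Surjective) f)⟩)
    (fun _ _ hri => fun hch hh => by
      have := isLocalAtTarget_fppf (IsOpenImmersion : MorphismProperty Scheme.{u})
      exact isIso_of_isOpenImmersion_of_surjective (repWith_of_isRepChart hri hch hh.1)
        (isSurjectiveMor_of_isChart (isRepChart_isChart hch) hh.2))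
    fun J _ _ T X' _ g' _ _ hg' E t _ e q P p g he hq hP hg => by
      haveI := hg'; haveI := hg.1; haveI := hg.2
      obtain ⟨k₁, h₁⟩ := Descend.exists_isOpenImmersion he hq hP
      obtain ⟨k₂, h₂⟩ := Descend.exists_surjective he hq hP
      exact ⟨IsCofiltered.min k₁ k₂,
        MorphismProperty.of_isPullback (Descend.pbMap_isPullback _ t g' (IsCofiltered.minToLeft k₁ k₂)) h₁,
        MorphismProperty.of_isPullback (Descend.pbMap_isPullback _ t g' (IsCofiltered.minToRight k₁ k₂)) h₂⟩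

section Diagonal

include hX₀ hY₀ hXc hXs hYs in
theorem pullback_self_facts : IsAlgSpace (pullback f₀ f₀) ∧ IsQuasiCompactSp (pullback f₀ f₀) ∧
    IsQuasiSeparatedSp (pullback f₀ f₀) := by
  have hqc : IsQuasiCompactMor f₀ := isQuasiCompactMor_of_qc_qs hX₀ hY₀ f₀ hXc hYs
  have sq₀ := IsPullback.of_hasPullback f₀ f₀
  exact ⟨isAlgSpace_pullback hY₀ hX₀ hX₀ sq₀, hqc hX₀ hXc f₀ _ _ sq₀, isQuasiSeparatedSp_of_mor
    (isQuasiSeparatedMor_of_isPullback sq₀ (isQuasiSeparatedMor_of_sp f₀ hXs)) hXs⟩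

include hD hX₀ hY₀ in
omit [IsCofiltered I] [QuasiSeparatedSpace S] in
/-- Reduction of a condition on the diagonal to the diagonal. -/
theorem descends_of_diagonal {G K : MorphismProperty (Sp S)}
    (hK : ∀ {Xi Yi : Sp S} {fi : Xi ⟶ Yi}, IsAlgSpace Xi → IsAlgSpace Yi → K (pullback.diagonal fi) → G fi)
    (h : Descends K (pullback.diagonal f₀) ((pullback.fst f₀ f₀ ≫ f₀) ≫ b₀)) :
    Descends G f₀ b₀ := by
  obtain ⟨i, φ, hi⟩ := h
  refine ⟨i, φ, fun Xi Yi fi pYi qYi hYi pXi hXi => ?_⟩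
  have hYia := isAlgSpace_pullback (hD i₀) hY₀ (hD i) hYi
  exact hK (isAlgSpace_pullback hY₀ hX₀ hYia hXi) hYia
    (hi _ _ _ _ ((pullback.fst fi fi ≫ fi) ≫ qYi) ((isPullback_map_self hXi).paste_vert hYi) _
      (isPullback_diagonal_baseChange hXi))

end Diagonal

end Groth.Agent.LimSys14
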