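import Groth.Agent.Lib.LimSys14.Points
import Groth.Agent.Lib.LimSys14.ClosedLimMap
import Groth.Agent.S10056

/-!
# Reduced closures of points of a limit
-/

set_option autoImplicit false
set_option backward.isDefEq.respectTransparency.types false
set_option backward.isDefEq.respectTransparency false
set_option linter.style.haveILetI false

universe u

open CategoryTheory CategoryTheory.Limits AlgebraicGeometry Opposite

noncomputable section

namespace Groth.Agent.LimSys14

open AlgSp Groth.Agent.AlgSpace FlatH4 Groth.Agent.AlgSpDecent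

variable {S : Scheme.{u}}

/-- A closed subspace of a reduced space with all the points is everything. -/
theorem isIso_of_closed_surjective {X Y : Sp S} {f : X ⟶ Y} (hf : RepWith @IsClosedImmersion f)
    (hs : Function.Surjective (Points.map f)) (hY : IsReducedSp Y) : IsIso f := by
  obtain ⟨U, a, hae, has, hred⟩ := hY
  have sq := hf.1.isPullback a
  haveI : IsClosedImmersion (hf.1.snd a).left := hf.2 a _ _ sq
  haveI : IsReduced U.left := hred
  haveI : Surjective (hf.1.snd a).left := ⟨fun v => by
    obtain ⟨z, hz⟩ := hs (Points.ofPt a v)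
    obtain ⟨w, -, hw⟩ := exists_pt_of_isPullback sq hz
    exact ⟨w, hw⟩⟩
  haveI : IsIso (hf.1.snd a).left := isIso_of_isClosedImmersion_of_surjective _
  haveI : IsIso ((Over.forget S).map (hf.1.snd a)) := ‹IsIso (hf.1.snd a).left›
  haveI : IsIso (hf.1.snd a) := isIso_of_reflects_iso _ (Over.forget S)
  exact AlgSpace.isIso_of_etale_cover f a hae has sq

/-- A morphism from a reduced scheme lifts through a closed subspace containing its points. -/
theorem exists_lift_of_reduced {X Y : Sp S} {f : X ⟶ Y} (hf : RepWith @IsClosedImmersion f)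
    {T : Over S} [IsReduced T.left] (v : (yon S).obj T ⟶ Y)
    (h : ∀ t, Points.ofPt v t ∈ Set.range (Points.map f)) : ∃ a, a ≫ f = v := by
  have sq := hf.1.isPullback v
  haveI : IsClosedImmersion (hf.1.snd v).left := hf.2 v _ _ sq
  haveI : Surjective (hf.1.snd v).left := ⟨fun t => by
    obtain ⟨z, hz⟩ := h t
    obtain ⟨w, -, hw⟩ := exists_pt_of_isPullback sq hz
    exact ⟨w, hw⟩⟩
  haveI : IsIso (hf.1.snd v).left := isIso_of_isClosedImmersion_of_surjective _
  haveI : IsIso ((Over.forget S).map (hf.1.snd v)) := ‹IsIso (hf.1.snd v).left›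
  haveI : IsIso (hf.1.snd v) := isIso_of_reflects_iso _ (Over.forget S)
  exact ⟨inv ((yon S).map (hf.1.snd v)) ≫ hf.1.fst v, by
    rw [Category.assoc, sq.w, IsIso.inv_hom_id_assoc]⟩

theorem mono_of_closed {X Y : Sp S} {f : X ⟶ Y} (hf : RepWith @IsClosedImmersion f) : Mono f :=
  mono_of_repWith _
    (repWith_mono (fun _ _ v (_ : IsClosedImmersion v) => (inferInstance : Mono v)) hf)

variable {I : Type u} [SmallCategory I] [IsCofiltered I] {DX DY : I ⥤ Sp S} (τ : DX ⟶ DY)
  (hτ : ∀ i, RepWith @IsClosedImmersion (τ.app i)) {cX : Cone DX} (hcX : IsLimit cX)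
  {cY : Cone DY} (hcY : IsLimit cY) (g : cX.pt ⟶ cY.pt) (hg : ∀ i, g ≫ cY.π.app i = cX.π.app i ≫ τ.app i)

include hτ hcX hcY hg in
theorem range_limMap :
    Set.range (Points.map g) =
      {y | ∀ i, Points.map (cY.π.app i) y ∈ Set.range (Points.map (τ.app i))} := by
  ext y
  constructor
  · rintro ⟨z, rfl⟩ i
    exact ⟨Points.map (cX.π.app i) z, by rw [← Points.map_comp, ← hg, Points.map_comp]⟩
  · intro hy
    obtain ⟨p, rfl⟩ := Points.mk_surjective y
    have : IsReduced p.pt.left := inferInstanceAs (IsReduced (Spec (CommRingCat.of p.K)))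
    have h : ∀ i, ∃ a, a ≫ τ.app i = p.toHom ≫ cY.π.app i := fun i =>
      exists_lift_of_reduced (hτ i) _ fun t => by
        rw [← Points.map_ofPt, Points.ofPt_toHom]
        exact hy i
    choose a ha using h
    let s : Cone DX :=
      { pt := (yon S).obj p.pt
        π :=
          { app := a
            naturality := fun i j φ => by
              haveI := mono_of_closed (hτ j)
              show 𝟙 _ ≫ a j = a i ≫ DX.map φ
              rw [Category.id_comp, ← cancel_mono (τ.app j), Category.assoc, τ.naturality,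
                reassoc_of% (ha i), ha, cY.w] } }
    have e : hcX.lift s ≫ g = p.toHom := hcY.hom_ext fun i => by
      rw [Category.assoc, hg, ← Category.assoc, hcX.fac]
      exact ha i
    refine ⟨Points.ofPt (hcX.lift s) (IsLocalRing.closedPoint p.K), ?_⟩
    rw [Points.map_ofPt, e, Points.ofPt_toHom]

omit g hg in
include hτ in
theorem isAffineMor_of_closed_sub (hYa : ∀ (i j : I) (φ : i ⟶ j), IsAffineMor (DY.map φ)) {i j : I}
    (φ : i ⟶ j) : IsAffineMor (DX.map φ) := by
  refine isAffineMor_iff_repWith.2 (repWith_of_comp_of_diagonal (g := τ.app j) ?_ ?_)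
  · rw [τ.naturality]
    exact repWith_comp (repWith_mono isClosedImmersion_le_isAffineHom (hτ i))
      (isAffineMor_iff_repWith.1 (hYa i j φ))
  · haveI := mono_of_closed (hτ j)
    exact repWith_mono isClosedImmersion_le_isAffineHom (repWith_diagonal_of_mono (τ.app j))

omit τ hτ hcX hcY g hg in
theorem isLimit_of_redInduced {Z : Sp S} (hDY : ∀ i, IsAlgSpace (DY.obj i))
    (hYa : ∀ (i j : I) (φ : i ⟶ j), IsAffineMor (DY.map φ)) (hcY : IsLimit cY) (x : Points cY.pt)
    (zι : Z ⟶ cY.pt) (hz : IsRedInduced (closure {x}) zι) (τ : DX ⟶ DY)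
    (hτ : ∀ i, IsRedInduced (closure {Points.map (cY.π.app i) x}) (τ.app i))
    (ξ : (Functor.const I).obj Z ⟶ DX) (hξ : ∀ i, ξ.app i ≫ τ.app i = zι ≫ cY.π.app i) :
    Nonempty (IsLimit (Cone.mk Z ξ)) := by
  have hcl := fun i => (hτ i).1
  let cL : Cone DX := limit.cone DX
  let hL : IsLimit cL := limit.isLimit DX
  let g : cL.pt ⟶ cY.pt := hcY.lift ((Cone.postcompose τ).obj cL)
  have hg : ∀ i, g ≫ cY.π.app i = cL.π.app i ≫ τ.app i := fun i =>
    hcY.fac ((Cone.postcompose τ).obj cL) i
  have hgc := closedImmersion_limMap τ hcl cY hL hcY g hg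
  have hgr : Set.range (Points.map g) = closure {x} := by
    rw [range_limMap τ hcl hL hcY g hg, closure_point hYa cY hcY hDY x]
    simp only [(hτ _).2.1]
  have hred : IsReducedSp cL.pt :=
    S10056.main S DX (fun i j φ => isAffineMor_of_closed_sub τ hcl hYa φ) cL hL fun i => (hτ i).2.2
  let h : Z ⟶ cL.pt := hL.lift (Cone.mk Z ξ)
  have hh : h ≫ g = zι := hcY.hom_ext fun i => by
    rw [Category.assoc, hg, ← Category.assoc, hL.fac]
    exact hξ i
  haveI := mono_of_closed hgc
  have hhc : RepWith @IsClosedImmersion h :=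
    repWith_of_comp_of_diagonal (g := g) (hh.symm ▸ hz.1) (repWith_diagonal_of_mono g)
  have hhs : Function.Surjective (Points.map h) := fun y => by
    obtain ⟨z, hz'⟩ : Points.map g y ∈ Set.range (Points.map zι) := by
      rw [hz.2.1, ← hgr]; exact ⟨y, rfl⟩
    refine ⟨z, injective_map_of_mono g ?_⟩
    rw [← Points.map_comp, hh, hz']
  haveI := isIso_of_closed_surjective hhc hhs hred
  exact ⟨IsLimit.ofIsoLimit hL (Cone.ext (asIso h) (fun i => (hL.fac (Cone.mk Z ξ) i).symm)).symm⟩

end Groth.Agent.LimSys14
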